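import Mathlib
import Groth.Agent.HilbStab.BC.CurvBC
import Groth.Agent.PicAux.PicLaw
import Groth.Agent.PicAux.Pullback
import Groth.Agent.EulerDeg.Proper
import Groth.Agent.EulerDeg.LineBundle

/-!
# Cohomology of the structure sheaf and degrees under extension of the base field
-/

universe u

open CategoryTheory Limits AlgebraicGeometry Coh TopologicalSpace Opposite

namespace Groth.Curves1.RR

open Groth.EulerDeg Groth.PicAux

variable {k K : Type u} [Field k] [Field K] [Algebra k K] {X X' : Scheme.{u}}
  [X.Over (Spec (CommRingCat.of k))] [X'.Over (Spec (CommRingCat.of K))]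
  [IsProper (X ↘ Spec (CommRingCat.of k))] {g : X' ⟶ X}
  (hsq : IsPullback g (X' ↘ Spec (CommRingCat.of K)) (X ↘ Spec (CommRingCat.of k))
    (Spec.map (CommRingCat.ofHom (algebraMap k K))))

include hsq in
theorem finrank_pullback (F : X.Modules) (hF : IsQCoh F) (p : ℕ) :
    Module.finrank K (HH X' ((Scheme.Modules.pullback g).obj F) p) = Module.finrank k (HH X F p) := by
  have : CompactSpace X := QuasiCompact.compactSpace_of_compactSpace (X ↘ Spec (CommRingCat.of k))
  have := Groth.HilbStab.BC.isSeparated_of_proper k X
  have : F.IsQuasicoherent := hF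
  exact Groth.HilbStab.BC.finrank_HH_baseChange hsq F p

include hsq in
theorem euler_pullback (F : X.Modules) (hF : IsQCoh F) :
    Curv2.euler K X' ((Scheme.Modules.pullback g).obj F) = Curv2.euler k X F :=
  finsum_congr fun i => by rw [finrank_pullback hsq F hF i]

include hsq in
theorem finrank_structure (p : ℕ) :
    Module.finrank K (HH X' (structureModule X') p) =
      Module.finrank k (HH X (structureModule X) p) := by
  obtain ⟨e⟩ := pullback_structure_iso g
  rw [← finrank_congr (k := K) e p]
  exact finrank_pullback hsq _ (isCoh_of_isInvertible (isInvertible_structureModule X)).1 p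

include hsq in
theorem deg_pullback {L : X.Modules} (hL : PicF.IsInvertible L) :
    Curv2.deg K X' ((Scheme.Modules.pullback g).obj L) 1 = Curv2.deg k X L 1 := by
  obtain ⟨e⟩ := pullback_structure_iso g
  rw [Curv2.deg, Curv2.deg, ← euler_congr K e,
    euler_pullback hsq L (isCoh_of_isInvertible hL).1,
    euler_pullback hsq _ (isCoh_of_isInvertible (isInvertible_structureModule X)).1]

omit [IsProper (X ↘ Spec (CommRingCat.of k))] in
/-- An isomorphism over `k` is an extension of the base field by the identity. -/
theorem isPullback_of_iso [X'.Over (Spec (CommRingCat.of k))] (e : X' ≅ X)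
    (he : e.hom ≫ (X ↘ Spec (CommRingCat.of k)) = X' ↘ Spec (CommRingCat.of k)) :
    IsPullback e.hom (X' ↘ Spec (CommRingCat.of k)) (X ↘ Spec (CommRingCat.of k))
      (Spec.map (CommRingCat.ofHom (algebraMap k k))) := by
  have h : Spec.map (CommRingCat.ofHom (algebraMap k k)) = 𝟙 (Spec (CommRingCat.of k)) := by
    rw [show algebraMap k k = RingHom.id k from rfl]
    exact Spec.map_id _
  haveI : IsIso (Spec.map (CommRingCat.ofHom (algebraMap k k))) := by rw [h]; infer_instance
  refine IsPullback.of_horiz_isIso ⟨?_⟩
  rw [he, h, Category.comp_id]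

end Groth.Curves1.RR
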