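import Mathlib
import Groth.Agent.EulerDeg.LineBundle
import Groth.Agent.EulerDeg.FiniteSupport
import Groth.Agent.ModelsGraphs.DualExtend

/-!
# Rank one torsion free modules with nonzero `H¹` on integral curves

For a submodule `M` of an invertible module on an integral proper curve with `H¹(M) ≠ 0` one has
`h⁰(M) ≤ g`: a nonzero functional on `H¹(M)` pairs every nonzero section, through the surjection
`H¹(O) → H¹(M)`, to a nonzero functional on `H¹(O)`.
-/

universe u

open CategoryTheory Limits AlgebraicGeometry Coh TopologicalSpace Opposite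

namespace Groth.Curves1.RR

open Groth.EulerDeg Groth.PicAux Groth.ModelsGraphs.DualExtend

attribute [local instance] secModule

variable {X : Scheme.{u}}

theorem homOfSection_add {M : X.Modules} (m m' : Γ(M, ⊤)) :
    homOfSection (m + m') = homOfSection m + homOfSection m' := by
  refine hom_structure_ext ?_
  rw [Scheme.Modules.Hom.add_app]
  simp

variable (k : Type u) [Field k] [X.Over (Spec (CommRingCat.of k))]

theorem homOfSection_smul {M : X.Modules} (a : k) (m : Γ(M, ⊤)) :
    homOfSection (a • m) =
      homOfSection m ≫ smulHom M (Coh.toGlobal (X ↘ Spec (CommRingCat.of k)) a) := by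
  refine hom_structure_ext ?_
  rw [homOfSection_one, Scheme.Modules.Hom.comp_app, ConcreteCategory.comp_apply, homOfSection_one,
    smulHom_app]
  rfl

theorem hMap_add {M N : X.Modules} (f g : M ⟶ N) (n : ℕ) (x : HH X M n) :
    hMap k (f + g) n x = hMap k f n x + hMap k g n x := by
  rw [hMap_apply, hMap_apply, hMap_apply, ← Sheaf.H.map_add_apply]
  exact congrArg (fun φ => Sheaf.H.map φ n x) (Functor.map_add _)

theorem hMap_smulHom {M : X.Modules} (a : k) (n : ℕ) (x : HH X M n) :
    hMap k (smulHom M (Coh.toGlobal (X ↘ Spec (CommRingCat.of k)) a)) n x = a • x := rfl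

/-- The pairing of global sections with `H¹(O)`, through a functional on `H¹(M)`. -/
noncomputable def pairing (M : X.Modules) (φ : Module.Dual k (HH X M 1)) :
    Γ(M, ⊤) →ₗ[k] Module.Dual k (HH X (structureModule X) 1) where
  toFun m := φ.comp (hMap k (homOfSection m) 1)
  map_add' m m' := by
    refine LinearMap.ext fun x => ?_
    simp only [LinearMap.comp_apply, LinearMap.add_apply, homOfSection_add, hMap_add, map_add]
  map_smul' a m := by
    refine LinearMap.ext fun x => ?_
    simp only [LinearMap.comp_apply, homOfSection_smul, hMap_comp, hMap_smulHom, map_smul,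
      RingHom.id_apply, LinearMap.smul_apply]

/-- A monomorphism with cokernel supported at closed points is surjective on `H¹`. -/
theorem surjective_h1_of_supportedAtClosed [NoetherianSpace X] {A B : X.Modules} (φ : A ⟶ B)
    [Mono φ] (h : SupportedAtClosed (cokernel φ)) : Function.Surjective (hMap k φ 1) := by
  have hS : (ShortComplex.mk φ (cokernel.π φ) (cokernel.condition φ)).ShortExact :=
    { exact := ShortComplex.exact_cokernel φ }
  have := subsingleton_HH_succ_of_supportedAtClosed h 0
  exact fun y => (exact_mid k hS 1 y).1 (Subsingleton.elim _ _)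

/-- A monomorphism is injective on `H⁰`. -/
theorem hMap_injective_zero_of_mono {A B : X.Modules} (φ : A ⟶ B) [Mono φ] :
    Function.Injective (hMap k φ 0) :=
  injective_zero k (S := ShortComplex.mk φ (cokernel.π φ) (cokernel.condition φ))
    { exact := ShortComplex.exact_cokernel φ }

/-- `H⁰` on global sections is evaluation. -/
theorem h0Equiv_hMap {A B : X.Modules} (φ : A ⟶ B) (v : HH X A 0) :
    h0Equiv k B (hMap k φ 0 v) = φ.app ⊤ (h0Equiv k A v) :=
  (Sheaf.H.equiv₀_naturality (hT := (isTerminalTop : IsTerminal (⊤ : Opens X)))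
    (f := abMap φ) v).symm

variable [IsIntegral X]

omit [X.Over (Spec (CommRingCat.of k))] in
/-- On an integral curve, a map surjective at the generic point has cokernel supported at closed
points. -/
theorem supportedAtClosed_cokernel_of_surjective [NoetherianSpace X]
    (hdim : topologicalKrullDim X ≤ 1) {A B : X.Modules} (φ : A ⟶ B)
    (hs : Function.Surjective ((Groth.QCohMod.stalk (genericPoint X)).map φ)) :
    SupportedAtClosed (cokernel φ) := by
  intro x hx
  by_contra hxc
  apply hx
  have hxη : genericPoint X = x :=
    @eq_of_specializes_of_not_isClosed X.toTopCat (inferInstanceAs (T0Space X))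
      (inferInstanceAs (QuasiSober X)) hdim x (genericPoint X) hxc
      ((genericPoint_spec X).specializes trivial)
  subst hxη
  have : Epi ((Groth.QCohMod.stalk (genericPoint X)).map φ) :=
    (AddCommGrpCat.epi_iff_surjective _).2 hs
  exact AddCommGrpCat.subsingleton_of_isZero
    ((isZero_cokernel_of_epi ((Groth.QCohMod.stalk (genericPoint X)).map φ)).of_iso
      (PreservesCokernel.iso (Groth.QCohMod.stalk (genericPoint X)) φ))

variable [IsProper (X ↘ Spec (CommRingCat.of k))] (hdim : topologicalKrullDim X ≤ 1)
  {M L : X.Modules} (hL : PicF.IsInvertible L) (j : M ⟶ L) [Mono j]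

omit [X.Over (Spec (CommRingCat.of k))] [IsProper (X ↘ Spec (CommRingCat.of k))] in
include hL j in
theorem mono_section {s : structureModule X ⟶ M} (hs : s ≠ 0) : Mono s := by
  have : Mono (s ≫ j) := mono_of_ne_zero (isInvertible_structureModule X) hL fun h =>
    hs (zero_of_comp_mono j h)
  exact mono_of_mono s j

include hdim hL j in
/-- A nonzero section of a submodule of an invertible module induces a surjection on `H¹`. -/
theorem surjective_h1_section {s : structureModule X ⟶ M} (hs : s ≠ 0) :
    Function.Surjective (hMap k s 1) := by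
  have := noetherianSpace_of_proper k X
  have hne : s ≫ j ≠ 0 := fun h => hs (zero_of_comp_mono j h)
  have := mono_section hL j hs
  refine surjective_h1_of_supportedAtClosed k s
    (supportedAtClosed_cokernel_of_surjective hdim s fun t => ?_)
  have hsurj := surjective_stalk_genericPoint (isInvertible_structureModule X) hL hne
  obtain ⟨r, hr⟩ := hsurj ((Groth.QCohMod.stalk (genericPoint X)).map j t)
  refine ⟨r, (Groth.QCohMod.mono_iff_stalk j).1 inferInstance (genericPoint X) ?_⟩
  rw [← hr, Functor.map_comp, ConcreteCategory.comp_apply]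

include hdim hL j in
/-- **`h⁰(M) ≤ g` when `H¹(M) ≠ 0`.** -/
theorem h0_le_genus (h1 : Nontrivial (HH X M 1)) :
    Module.finrank k (HH X M 0) ≤ Curv2.genus k X := by
  have : Module.Finite k (HH X (structureModule X) 1) :=
    finite_HH k X (isCoh_of_isInvertible (isInvertible_structureModule X)) 1
  obtain ⟨y, hy⟩ := exists_ne (0 : HH X M 1)
  have : Module.Free k (HH X M 1) := Module.Free.of_divisionRing k _
  obtain ⟨φ, hφ⟩ : ∃ φ : Module.Dual k (HH X M 1), φ y ≠ 0 := by
    by_contra hall
    push Not at hall
    exact hy ((Module.forall_dual_apply_eq_zero_iff k y).1 hall)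
  rw [(h0Equiv k M).finrank_eq, Curv2.genus]
  refine le_of_le_of_eq ?_ (Subspace.dual_finrank_eq (K := k))
  refine LinearMap.finrank_le_finrank_of_injective (f := pairing k M φ)
    ((injective_iff_map_eq_zero _).2 fun m hm => ?_)
  by_contra hm0
  have hne : homOfSection m ≠ 0 := fun h => hm0 (by rw [← homOfSection_one m, h]; rfl)
  obtain ⟨x, rfl⟩ := surjective_h1_section k hdim hL j hne y
  exact hφ (LinearMap.congr_fun hm x)

include hdim hL j in
/-- **`χ(M) ≤ g - 1` when `H¹(M) ≠ 0`.** -/
theorem euler_le_genus_sub_one (hM : IsCoh M) (h1 : Nontrivial (HH X M 1)) :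
    Curv2.euler k X M ≤ (Curv2.genus k X : ℤ) - 1 := by
  have := finite_HH k X hM 1
  rw [euler_eq_h0_sub_h1 k X hdim M]
  have h2 := h0_le_genus k hdim hL j h1
  have h3 : 0 < Module.finrank k (HH X M 1) := Module.finrank_pos
  omega

end Groth.Curves1.RR
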