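import Mathlib
import Groth.Agent.Curves1.RR.RankOne
import Groth.Agent.EulerDeg.CartierDegree

/-!
# Vanishing of `H¹` and Riemann–Roch bounds on integral curves
-/

universe u

open CategoryTheory Limits AlgebraicGeometry Coh TopologicalSpace

namespace Groth.Curves1.RR

open Groth.EulerDeg Groth.PicAux

variable (k : Type u) [Field k] {X : Scheme.{u}} [X.Over (Spec (CommRingCat.of k))]
  [IsIntegral X] [IsProper (X ↘ Spec (CommRingCat.of k))] (hdim : topologicalKrullDim X ≤ 1)

omit [IsIntegral X] in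
/-- `I ⊗ L ⊆ L` with `χ(I ⊗ L) = χ(L) - h⁰(O_Z)`, for `Z` zero-dimensional. -/
theorem ideal_twist {L : X.Modules} (hL : PicF.IsInvertible L) (Z : X.IdealSheafData)
    (hZ : topologicalKrullDim (Z.support : Set X) ≤ 0) :
    ∃ j : CohB1.tensorMod (ClSub.idealMod Z) L ⟶ L, Mono j ∧
      IsCoh (CohB1.tensorMod (ClSub.idealMod Z) L) ∧
      Curv2.euler k X (CohB1.tensorMod (ClSub.idealMod Z) L) =
        Curv2.euler k X L - (Module.finrank k (HH X (ClSub.quotMod Z) 0) : ℤ) := by
  have := isNoetherian_of_proper k X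
  have hO : IsCoh (structureModule X) := isCoh_of_isInvertible (isInvertible_structureModule X)
  have hQc := Groth.EulerDeg.isCoh_quotMod Z
  have := hQc.1
  have hQ : SupportedAtClosed (ClSub.quotMod Z) := supportedAtClosed_of_dim_le_zero
    ((Topology.IsEmbedding.inclusion (Groth.EulerDeg.support_quotMod_subset Z)).isInducing.topologicalKrullDim_le.trans hZ)
  have hS := Groth.PicAux.shortExact_idealMod_twist Z hL
  obtain ⟨e₂, -⟩ := Groth.PicAux.exists_leftUnitor L
  have hm := hS.mono_f
  have hI0 : IsCoh (ClSub.idealMod Z) := Groth.QCohMod.isCoh_kernel (ClSub.toSubscheme Z) hO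
  have hLc := isCoh_of_isInvertible hL
  have hI := isCoh_tensor hI0 hLc
  refine ⟨(DCoh.tensorRightMod L).map (ClSub.idealModι Z) ≫ e₂.hom, @mono_comp _ _ _ _ _ _ hm _ _, hI, ?_⟩
  have e := euler_add hS (finCoh k X hI) (finCoh k X (isCoh_tensor hQc hLc))
  change Curv2.euler k X (CohB1.tensorMod (structureModule X) L) =
    Curv2.euler k X (CohB1.tensorMod (ClSub.idealMod Z) L) +
      Curv2.euler k X (CohB1.tensorMod (ClSub.quotMod Z) L) at e
  rw [euler_congr k e₂,
    euler_tensor_of_supportedAtClosed k hQc hQ (LocFree.isInvertible_iff_ofRank_one.mp hL),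
    euler_eq_h0 k hQ] at e
  rw [e]
  push_cast
  ring

variable (h0 : Module.finrank k (HH X (structureModule X) 0) = 1) {L : X.Modules}
  (hL : PicF.IsInvertible L)

omit [IsIntegral X] in
include hdim h0 in
theorem euler_eq : Curv2.euler k X L = Curv2.deg k X L 1 + 1 - Curv2.genus k X := by
  rw [euler_eq_deg_add k L 1, euler_structure k X hdim, h0]
  push_cast
  ring

include hdim h0 hL in
/-- If `H¹(I ⊗ L) ≠ 0` then `deg L ≤ 2g - 2 + deg Z`. -/
theorem deg_le_of_h1_ideal_twist (Z : X.IdealSheafData)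
    (hZ : topologicalKrullDim (Z.support : Set X) ≤ 0)
    (h1 : Nontrivial (HH X (CohB1.tensorMod (ClSub.idealMod Z) L) 1)) :
    Curv2.deg k X L 1 ≤
      2 * (Curv2.genus k X : ℤ) - 2 + Module.finrank k (HH X (ClSub.quotMod Z) 0) := by
  obtain ⟨j, hj, hM, he⟩ := ideal_twist k hL Z hZ
  have := euler_le_genus_sub_one k hdim hL j hM h1
  rw [he, euler_eq k hdim h0] at this
  omega

include hdim h0 hL in
/-- Invertible modules of degree at least `2g - 1` have no `H¹`. -/
theorem subsingleton_h1_of_deg_ge (hdeg : 2 * (Curv2.genus k X : ℤ) - 1 ≤ Curv2.deg k X L 1) :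
    Subsingleton (HH X L 1) := by
  by_contra hn
  rw [not_subsingleton_iff_nontrivial] at hn
  have := euler_le_genus_sub_one k hdim hL (𝟙 L) (isCoh_of_isInvertible hL) hn
  rw [euler_eq k hdim h0] at this
  omega

include hdim h0 hL in
/-- With a nonzero section, `h¹(L) ≤ g` and `h⁰(L) ≤ deg L + 1`. -/
theorem h0_le_deg_add_one (hs : Nontrivial (HH X L 0)) :
    Module.finrank k (HH X L 1) ≤ Curv2.genus k X ∧
      (Module.finrank k (HH X L 0) : ℤ) ≤ Curv2.deg k X L 1 + 1 := by
  have := finite_HH k X (isCoh_of_isInvertible (isInvertible_structureModule X)) 1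
  obtain ⟨x, hx⟩ := exists_ne (0 : HH X L 0)
  let m := h0Equiv k L x
  have hm : homOfSection m ≠ 0 := fun h => hx ((h0Equiv k L).map_eq_zero_iff.1
    (by rw [← homOfSection_one (h0Equiv k L x), show homOfSection (h0Equiv k L x) = 0 from h]; rfl))
  have h1 : Module.finrank k (HH X L 1) ≤ Curv2.genus k X :=
    LinearMap.finrank_le_finrank_of_surjective (surjective_h1_section k hdim hL (𝟙 L) hm)
  refine ⟨h1, ?_⟩
  have e := euler_eq_h0_sub_h1 k X hdim L
  rw [euler_eq k hdim h0] at e
  omega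

end Groth.Curves1.RR
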