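import Mathlib
import Groth.Agent.Curves1.RR.RankOne
import Groth.Agent.VarietyBC.GlobalField
import Groth.Agent.EulerDeg.Coherent

/-!
# The field of global functions divides all Euler characteristics and degrees on an integral proper curve
-/

set_option linter.style.haveILetI false
set_option backward.isDefEq.respectTransparency.types false

universe u

open CategoryTheory Limits AlgebraicGeometry Coh TopologicalSpace Opposite

namespace Groth.Curves1.RR

open Groth.EulerDeg Groth.PicAux Groth.ModelsGraphs.DualExtend

attribute [local instance] secModule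

variable (k : Type u) [Field k] {X : Scheme.{u}} [X.Over (Spec (CommRingCat.of k))]
  [IsIntegral X] [IsProper (X ↘ Spec (CommRingCat.of k))]

omit [IsIntegral X] [IsProper (X ↘ Spec (CommRingCat.of k))] [X.Over (Spec (CommRingCat.of k))] in
/-- The degree of a field extension divides the dimension of a space over the extension. -/
theorem finrank_dvd_of_isField (A V : Type u) [CommRing A] (hA : IsField A) [Algebra k A]
    [AddCommGroup V] [Module A V] [Module k V] [IsScalarTower k A V] :
    Module.finrank k A ∣ Module.finrank k V := by
  haveI : Nontrivial A := hA.nontrivial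
  haveI : Module.Free A V :=
    @Module.Free.of_divisionRing A V hA.toField.toDivisionRing _ (by exact ‹Module A V›)
  rw [← Module.finrank_mul_finrank k A V]
  exact dvd_mul_right _ _

/-- `h⁰(O)` divides the dimension of every cohomology space. -/
theorem h0_dvd_finrank (M : X.Modules) (n : ℕ) :
    Module.finrank k (HH X (structureModule X) 0) ∣ Module.finrank k (HH X M n) := by
  letI : Algebra k Γ(X, ⊤) :=
    RingHom.toAlgebra (show k →+* Γ(X, ⊤) from toGlobal (X ↘ Spec (CommRingCat.of k)))
  letI : Module Γ(X, ⊤) (HH X M n) := Coh.moduleΓtop M n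
  haveI : IsScalarTower k Γ(X, ⊤) (HH X M n) := IsScalarTower.of_algebraMap_smul fun _ _ => rfl
  let e₀ : Γ(structureModule X, (⊤ : X.Opens)) ≃ₗ[k] Γ(X, ⊤) :=
    { (Equiv.refl _ : Γ(X, ⊤) ≃ Γ(X, ⊤)) with
      toFun := fun x => toFun x
      invFun := fun x => x
      map_add' := fun _ _ => rfl
      map_smul' := fun a x => by
        show toFun (a • x) = _
        rw [smul_sec, toFun_smul]
        exact congrArg (· * toFun x) (resX_self _ _) }
  rw [(h0Equiv k (structureModule X)).finrank_eq.trans e₀.finrank_eq]
  exact finrank_dvd_of_isField k Γ(X, ⊤) (HH X M n)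
    (isField_of_universallyClosed k (X ↘ Spec (CommRingCat.of k)))

/-- A module of degree one forces `h⁰(O) = 1`. -/
theorem h0_eq_one_of_deg_eq_one (hdim : topologicalKrullDim X ≤ 1) (L : X.Modules)
    (hdeg : Curv2.deg k X L 1 = 1) : Module.finrank k (HH X (structureModule X) 0) = 1 := by
  have hd : ∀ M : X.Modules, (Module.finrank k (HH X (structureModule X) 0) : ℤ) ∣ Curv2.euler k X M := by
    intro M
    rw [euler_eq_h0_sub_h1 k X hdim M]
    exact dvd_sub (Int.natCast_dvd_natCast.2 (h0_dvd_finrank k M 0))
      (Int.natCast_dvd_natCast.2 (h0_dvd_finrank k M 1))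
  have h : (Module.finrank k (HH X (structureModule X) 0) : ℤ) ∣ 1 := by
    rw [← hdeg]
    have e : Curv2.deg k X L 1 = Curv2.euler k X L - Curv2.euler k X (structureModule X) := by
      have := euler_eq_deg_add (X := X) k L 1
      push_cast at this
      linarith
    rw [e]
    exact dvd_sub (hd L) (hd _)
  exact Nat.dvd_one.1 (Int.natCast_dvd_natCast.1 (by exact_mod_cast h))

end Groth.Curves1.RR
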