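import Groth.Agent.Curves1.RR.GenusZero
import Groth.Agent.PnCoh.OverAffine
import Groth.Agent.Variety2.ProjDim
import Groth.Agent.Misc15.P1Stalk
import Groth.Agent.S10830

/-!
# Genus zero curves with an invertible module of degree one are projective lines
-/

set_option linter.style.haveILetI false

universe u

open CategoryTheory Limits AlgebraicGeometry Coh TopologicalSpace Opposite

namespace Groth.Curves1.RR

variable (k : Type u) [Field k]

instance isIntegral_projSpace (n : ℕ) : IsIntegral (CohB1.ProjSpace n k) := by
  have : Nonempty ↥(CohB1.ProjSpace n k) :=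
    ⟨(Groth.PnCoh.overIso n k).inv (genericPoint _)⟩
  exact isIntegral_of_isOpenImmersion (Groth.PnCoh.overIso n k).hom

/-- A closed immersion of a scheme of dimension at least `n` into `P^n` is an isomorphism. -/
theorem isIso_of_isClosedImmersion_projSpace {X : Scheme.{u}} (n : ℕ) (i : X ⟶ CohB1.ProjSpace n k)
    [IsClosedImmersion i] (hdim : (n : WithBot ℕ∞) ≤ topologicalKrullDim X) : IsIso i := by
  have hP := Groth.Variety2.PSpace.dim_projSpace (k := k) (n := n)
  haveI : Surjective i := by
    refine ⟨Set.range_eq_univ.1 ?_⟩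
    by_contra hne
    have hlt := Groth.Agent.S10830.result ↥(CohB1.ProjSpace n k)
      (by rw [hP]; exact ne_of_lt (WithBot.coe_lt_coe.2 (ENat.coe_lt_top _))) (Set.range i)
      i.isClosedEmbedding.isClosed_range hne
    have h1 : topologicalKrullDim X ≤ topologicalKrullDim ↥(Set.range i) :=
      i.isClosedEmbedding.isEmbedding.toHomeomorph.isInducing.topologicalKrullDim_le
    rw [hP] at hlt
    exact not_le.2 hlt (hdim.trans h1)
  exact isIso_of_isClosedImmersion_of_surjective i

variable {X : Scheme.{u}} [X.Over (Spec (CommRingCat.of k))]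
  [IsIntegral X] [IsProper (X ↘ Spec (CommRingCat.of k))]

/-- **An integral proper curve of genus zero with an invertible module of degree one is `P¹`.** -/
theorem iso_projectiveLine (hdim : topologicalKrullDim X = 1)
    (h0 : Module.finrank k (HH X (structureModule X) 0) = 1) (hg : Curv2.genus k X = 0)
    (L : X.Modules) (hL : PicF.IsInvertible L) (hdeg : Curv2.deg k X L 1 = 1) :
    ∃ e : X ≅ CohB1.ProjSpace 1 k,
      e.hom ≫ CohB1.ProjSpace.toSpec 1 k = X ↘ (Spec (CommRingCat.of k)) := by
  obtain ⟨i, hi, hik, -⟩ := exists_closedImmersion_of_genus_zero k hdim.le h0 hg L hL 1 one_pos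
    (by rw [hdeg]; norm_num)
  have : IsIso i := isIso_of_isClosedImmersion_projSpace k 1 i (by rw [hdim]; norm_num)
  exact ⟨asIso i, hik⟩

end Groth.Curves1.RR
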