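import Mathlib
import Groth.Agent.Curves1.RR.BaseChange
import Groth.Agent.PnCoh.Euler
import Groth.Agent.PnCoh.GlobalFun
import Groth.Agent.Chow.ToPn
import Groth.Agent.Variety2.ProjBasics
import Groth.Agent.Variety2.ProjDim

/-!
# The invertible module of degree one on a curve isomorphic to the projective line
-/

set_option linter.style.haveILetI false
set_option backward.isDefEq.respectTransparency.types false

universe u

open CategoryTheory Limits AlgebraicGeometry Coh TopologicalSpace Opposite

namespace Groth.Curves1.RR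

open Groth.EulerDeg Groth.PicAux

variable (k : Type u) [Field k]

theorem euler_twist_P1 (d : ℕ) :
    letI : (CohB1.ProjSpace 1 k).Over (Spec (CommRingCat.of k)) := ⟨CohB1.ProjSpace.toSpec 1 k⟩
    Curv2.euler k (CohB1.ProjSpace 1 k) (Twist.twistProjSpace 1 k (d : ℤ)) = (d : ℤ) + 1 := by
  have h1 := Groth.PnCoh.euler_twist k 1 (d : ℤ)
  rw [Ring.choose_one_right] at h1
  unfold Curv2.euler
  rw [finsum_eq_sum_of_support_subset (s := Finset.range 2) _ fun i hi => ?_]
  · push_cast at h1
    exact h1
  · simp only [Function.mem_support] at hi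
    by_contra h
    simp only [Finset.coe_range, Set.mem_Iio, not_lt] at h
    refine hi ?_
    rw [Groth.PnCoh.finrank_eq_zero k 1 (d : ℤ) i (by omega) (by omega), Nat.cast_zero, mul_zero]

/-- A curve isomorphic to `P¹` has an invertible module of degree one with two sections. -/
theorem exists_deg_one_of_iso {X : Scheme.{u}} [X.Over (Spec (CommRingCat.of k))]
    (e : X ≅ CohB1.ProjSpace 1 k)
    (he : e.hom ≫ CohB1.ProjSpace.toSpec 1 k = X ↘ (Spec (CommRingCat.of k))) :
    ∃ L : X.Modules, PicF.IsInvertible L ∧ Curv2.deg k X L 1 = 1 ∧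
      Module.finrank k (HH X L 0) = 2 ∧
      Module.finrank k (HH X (structureModule X) 0) = 1 ∧ Curv2.genus k X = 0 := by
  letI : (CohB1.ProjSpace 1 k).Over (Spec (CommRingCat.of k)) := ⟨CohB1.ProjSpace.toSpec 1 k⟩
  haveI : IsProper ((CohB1.ProjSpace 1 k) ↘ Spec (CommRingCat.of k)) :=
    Groth.Variety2.isProper_projSpace_toSpec 1 k
  have hsq := isPullback_of_iso e he
  have hL := Groth.Chow.ToPn.twist_isInvertible (n := 1) (R := k)
  have hqc := (isCoh_of_isInvertible hL).1
  obtain ⟨e0⟩ := Groth.PnCoh.nonempty_twist_zero_iso (CohB1.polyGrading 1 k)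
  let e0' : Twist.twistProjSpace 1 k ((0 : ℕ) : ℤ) ≅ structureModule (CohB1.ProjSpace 1 k) := e0
  have h1 := euler_twist_P1 k 1
  have h0 := euler_twist_P1 k 0
  rw [euler_congr k e0'] at h0
  refine ⟨(Scheme.Modules.pullback e.hom).obj (Twist.twistProjSpace 1 k 1),
    isInvertible_pullback e.hom hL, ?_, ?_, ?_, ?_⟩
  · rw [deg_pullback hsq hL, Curv2.deg, h0]
    rw [show ((1 : ℕ) : ℤ) = 1 from rfl] at h1
    rw [h1]
    norm_num
  · rw [finrank_pullback hsq _ hqc]
    exact Groth.PnCoh.finrank_h0 k 1 1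
  · rw [finrank_structure hsq, ← finrank_congr (k := k) e0' 0]
    exact Groth.PnCoh.finrank_h0 k 1 0
  · rw [Curv2.genus, finrank_structure hsq, ← finrank_congr (k := k) e0' 1]
    exact Groth.PnCoh.finrank_eq_zero k 1 _ 1 (by omega) (by omega)

end Groth.Curves1.RR
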