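import Mathlib
import Groth.Agent.VarietyBC.GeomReducedGeneric
import Groth.Agent.VarietyBC.SmoothChart
import Groth.Agent.VarietyBC.CurveProj
import Groth.Agent.GrpschAbsch.PerfectReduced

/-!
# Normal closed points on integral curves over perfect fields
-/

set_option linter.style.haveILetI false
set_option backward.isDefEq.respectTransparency.types false

universe u

open CategoryTheory Limits AlgebraicGeometry TopologicalSpace Opposite

namespace Groth.Curves1.RR

variable {k : Type u} [Field k] {X : Scheme.{u}} [X.Over (Spec (CommRingCat.of k))]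
  [IsIntegral X] [LocallyOfFiniteType (X ↘ Spec (CommRingCat.of k))]

/-- A smooth point of a curve has a normal local ring. -/
theorem isIntegrallyClosed_stalk_of_mem_smoothLocus (hdim : topologicalKrullDim X ≤ 1) {x : X}
    [LocallyOfFinitePresentation (X ↘ Spec (CommRingCat.of k))]
    (hx : x ∈ (X ↘ Spec (CommRingCat.of k)).smoothLocus) :
    IsIntegrallyClosed (X.presheaf.stalk x) := by
  have hreg := Groth.VarietyBC.isRegularLocalRing_of_mem_smoothLocus hx
  haveI : IsLocallyNoetherian X :=
    LocallyOfFiniteType.isLocallyNoetherian (X ↘ Spec (CommRingCat.of k))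
  have h := hreg.spanFinrank_maximalIdeal
  have hle : ((IsLocalRing.maximalIdeal (X.presheaf.stalk x)).spanFinrank : WithBot ℕ∞) ≤ 1 :=
    h.le.trans (Groth.VarietyBC.CurveProj.stalk_dim_le hdim x)
  have hle' : Module.finrank (IsLocalRing.ResidueField (X.presheaf.stalk x))
      (IsLocalRing.CotangentSpace (X.presheaf.stalk x)) ≤ 1 := by
    rw [← IsLocalRing.spanFinrank_maximalIdeal_eq_finrank_cotangentSpace]
    exact_mod_cast hle
  haveI : IsPrincipalIdealRing (X.presheaf.stalk x) :=
    ((tfae_of_isNoetherianRing_of_isLocalRing_of_isDomain (X.presheaf.stalk x)).out 5 0 :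
      Module.finrank (IsLocalRing.ResidueField (X.presheaf.stalk x))
        (IsLocalRing.CotangentSpace (X.presheaf.stalk x)) ≤ 1 ↔
          IsPrincipalIdealRing (X.presheaf.stalk x)).1 hle'
  infer_instance

/-- An integral curve over a perfect field has a closed point with normal local ring. -/
theorem exists_closed_normal_point [PerfectField k] (hdim : topologicalKrullDim X ≤ 1) :
    ∃ x : X, IsClosed ({x} : Set X) ∧ IsIntegrallyClosed (X.presheaf.stalk x) := by
  haveI : IsLocallyNoetherian (Spec (CommRingCat.of k)) := inferInstance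
  haveI : LocallyOfFinitePresentation (X ↘ Spec (CommRingCat.of k)) := inferInstance
  haveI : GeometricallyReduced (X ↘ Spec (CommRingCat.of k)) := by
    refine (Groth.VarietyBC.geometricallyReduced_iff_forall (k := k) (X := X)).2 fun x => ?_
    rw [Groth.VarietyBC.isGeomReducedAt_iff]
    letI := Curv2.stalkAlgebra k X x
    exact Groth.VarietyBC.isGeometricallyReduced_of_perfectField _
  haveI : JacobsonSpace X := LocallyOfFiniteType.jacobsonSpace (X ↘ Spec (CommRingCat.of k))
  obtain ⟨x, hxU, hxc⟩ := nonempty_inter_closedPoints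
    (Z := ((X ↘ Spec (CommRingCat.of k)).smoothLocus : Set X))
    (Groth.VarietyBC.dense_smoothLocus (k := k) (X := X)).nonempty
    ((X ↘ Spec (CommRingCat.of k)).smoothLocus).isOpen.isLocallyClosed
  exact ⟨x, hxc, isIntegrallyClosed_stalk_of_mem_smoothLocus hdim hxU⟩

end Groth.Curves1.RR
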