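import Mathlib
import Groth.Agent.Curves1.RR.Constants
import Groth.Agent.EulerDeg.CartierDegree
import Groth.Agent.PicAux.EffCartierLine
import Groth.Agent.RefRank.EffCartierLocal
import Groth.Agent.VarietyBC.CurveProj
import Groth.Agent.CohTwo.PushClosed
import Groth.Agent.AdicLinTop.ProperNear

/-!
# Closed points with normal local ring on an integral curve as divisors
-/

set_option linter.style.haveILetI false
set_option backward.isDefEq.respectTransparency.types false

universe u

open CategoryTheory Limits AlgebraicGeometry Coh TopologicalSpace Opposite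

namespace Groth.Curves1.RR

open Groth.EulerDeg Groth.PicAux

attribute [local instance] secModule Curv2.resAlgebra

variable (k : Type u) [Field k] {X : Scheme.{u}} [X.Over (Spec (CommRingCat.of k))]

/-- The ideal of a closed point. -/
noncomputable def pointIdeal (x : X) (hx : IsClosed ({x} : Set X)) : X.IdealSheafData :=
  Scheme.IdealSheafData.vanishingIdeal ⟨{x}, hx⟩

theorem support_pointIdeal (x : X) (hx : IsClosed ({x} : Set X)) :
    ((pointIdeal x hx).support : Set X) = {x} := by
  rw [← Scheme.IdealSheafData.range_subschemeι]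
  exact Groth.PropsBasic2.range_vanishingIdeal_subschemeι _

/-- The global sections of `O_x` are the residue field. -/
theorem finrank_quotMod_pointIdeal (x : X) (hx : IsClosed ({x} : Set X)) :
    Module.finrank k (HH X (ClSub.quotMod (pointIdeal x hx)) 0) =
      Module.finrank k (X.residueField x) := by
  let I := pointIdeal x hx
  have : IsClosedImmersion (X.fromSpecResidueField x) := isClosed_singleton_iff_isClosedImmersion.1 hx
  obtain ⟨c, hc⟩ := Groth.AdicLinTop.ProperNear.exists_lift_fromSpecResidueField I
    ((support_pointIdeal x hx).ge (Set.mem_singleton x))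
  have : IsClosedImmersion (c ≫ I.subschemeι) := by rw [hc]; infer_instance
  have : IsClosedImmersion c := IsClosedImmersion.of_comp_isClosedImmersion c I.subschemeι
  have hint : IsIntegral I.subscheme :=
    Groth.CohTwo.isIntegral_closure_subscheme (ξ := x) (Y := ⟨{x}, hx⟩) hx.closure_eq.symm
  have : Surjective c := ⟨fun z => ⟨default, I.subschemeι.isEmbedding.injective (by
    have h1 : I.subschemeι z ∈ ({x} : Set X) := by
      rw [← support_pointIdeal x hx, ← Scheme.IdealSheafData.range_subschemeι]
      exact ⟨z, rfl⟩
    have h2 : I.subschemeι (c default) = x := by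
      rw [← Scheme.Hom.comp_apply, hc]
      exact X.fromSpecResidueField_apply x _
    exact h2.trans (Set.mem_singleton_iff.1 h1).symm)⟩⟩
  have : IsIso c := isIso_of_isClosedImmersion_of_surjective c
  let T : Γ(I.subscheme, ⊤) →+* X.residueField x :=
    ((Scheme.ΓSpecIso (X.residueField x)).hom.hom).comp c.appTop.hom
  have hT : ∀ r : Γ(X, ⊤), T (I.subschemeι.appTop r) = X.residue x (X.presheaf.germ ⊤ x trivial r) := by
    intro r
    have h1 : I.subschemeι.appTop ≫ c.appTop =
        X.presheaf.germ ⊤ x trivial ≫ (Scheme.ΓSpecIso _).inv ≫ (Spec.map (X.residue x)).appTop := by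
      rw [← Scheme.Hom.comp_appTop, hc, Scheme.fromSpecResidueField, Scheme.Hom.comp_appTop,
        Scheme.fromSpecStalk_appTop, Category.assoc]
      congr 1
    have h2 := ConcreteCategory.congr_hom
      (congrArg (· ≫ (Scheme.ΓSpecIso (X.residueField x)).hom) h1) r
    simp only [Category.assoc, Scheme.ΓSpecIso_naturality, Iso.inv_hom_id_assoc] at h2
    exact h2
  haveI : IsIso c.appTop := inferInstanceAs (IsIso (c.app ⊤))
  have hbij : Function.Bijective T :=
    (ConcreteCategory.bijective_of_isIso (Scheme.ΓSpecIso (X.residueField x)).hom).comp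
      (ConcreteCategory.bijective_of_isIso c.appTop)
  let e : Γ(ClSub.quotMod I, (⊤ : X.Opens)) ≃ₗ[k] X.residueField x :=
    LinearEquiv.ofBijective
      ({ toFun := fun m => T (toFun (X := I.subscheme) (U := ⊤) m)
         map_add' := fun a b => map_add T _ _
         map_smul' := fun a m => by
           rw [RingHom.id_apply, Algebra.smul_def, smul_sec]
           refine (map_mul T (I.subschemeι.appTop (toSec k ⊤ a)) _).trans ?_
           rw [hT]
           congr 1
           show X.residue x (X.presheaf.germ ⊤ x trivial (resX X le_top _)) = _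
           rw [resX_self]
           rfl } : Γ(ClSub.quotMod I, (⊤ : X.Opens)) →ₗ[k] X.residueField x) hbij
  exact ((h0Equiv k (ClSub.quotMod I)).trans e).finrank_eq

variable [IsIntegral X] [IsProper (X ↘ Spec (CommRingCat.of k))]

include k in
/-- A closed point with normal local ring is an effective Cartier divisor on an integral curve. -/
theorem isEffCartierIdeal_pointIdeal (hdim : topologicalKrullDim X = 1) (x : X)
    (hx : IsClosed ({x} : Set X)) (hn : IsIntegrallyClosed (X.presheaf.stalk x)) :
    BlowUp.IsEffCartierIdeal (pointIdeal x hx) := by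
  have := isNoetherian_of_proper k X
  have hne : x ≠ genericPoint X := by
    rintro rfl
    have h1 : ∀ y : X, y = genericPoint X := fun y =>
      hx.closure_eq.le ((genericPoint_spec X).symm.le (Set.mem_univ y) : y ∈ closure {genericPoint X})
    haveI : Subsingleton X := ⟨fun a b => (h1 a).trans (h1 b).symm⟩
    haveI : Subsingleton (IrreducibleCloseds X) := ⟨fun a b => IrreducibleCloseds.ext
      (a.isIrreducible.nonempty.eq_univ.trans b.isIrreducible.nonempty.eq_univ.symm)⟩
    have h2 : topologicalKrullDim X ≤ 0 := Order.krullDim_nonpos_of_subsingleton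
    rw [hdim] at h2
    exact absurd h2 (by norm_num)
  have hnf : ¬ IsField (X.presheaf.stalk x) := fun h =>
    hne (Groth.RefRank.eq_genericPoint_of_isField h)
  have hdle := Groth.VarietyBC.CurveProj.stalk_dim_le hdim.le x
  haveI : Ring.KrullDimLE 1 (X.presheaf.stalk x) := Ring.krullDimLE_iff.2 hdle
  haveI : (⊥ : Ideal (X.presheaf.stalk x)).IsPrime := Ideal.isPrime_bot
  haveI : Ring.DimensionLEOne (X.presheaf.stalk x) :=
    ⟨fun {p} hp h => Ring.krullDimLE_one_iff_of_isPrime_bot.1 inferInstance p hp h⟩
  haveI : IsDedekindDomain (X.presheaf.stalk x) := { }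
  haveI : IsDiscreteValuationRing (X.presheaf.stalk x) :=
    ((IsDiscreteValuationRing.TFAE (X.presheaf.stalk x) hnf).out 2 0 :
      IsDedekindDomain (X.presheaf.stalk x) ↔ IsDiscreteValuationRing (X.presheaf.stalk x)).1 ‹_›
  have hd1 : ringKrullDim (X.presheaf.stalk x) = 1 := IsPrincipalIdealRing.ringKrullDim_eq_one _ hnf
  let I := pointIdeal x hx
  haveI hint : IsIntegral I.subscheme :=
    Groth.CohTwo.isIntegral_closure_subscheme (ξ := x) (Y := ⟨{x}, hx⟩) hx.closure_eq.symm
  have hmem : ∀ y ∈ I.support, y = x := fun y hy => (support_pointIdeal x hx).le hy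
  have hgen : I.subschemeι (genericPoint ↥I.subscheme) = x := hmem _ (by
    rw [← SetLike.mem_coe, ← Scheme.IdealSheafData.range_subschemeι]; exact ⟨_, rfl⟩)
  refine Groth.RefRank.EffCartierLocal.isEffCartierIdeal_of_isIntegral I (by rw [hgen]; exact hd1) ?_
  intro y hy
  rw [hmem y hy]
  exact ⟨inferInstance, inferInstance⟩

/-- A closed point with normal local ring gives an invertible module of degree `[κ(x) : k]`. -/
theorem exists_invertible_deg_residueField (hdim : topologicalKrullDim X = 1) (x : X)
    (hx : IsClosed ({x} : Set X)) (hn : IsIntegrallyClosed (X.presheaf.stalk x)) :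
    ∃ L : X.Modules, PicF.IsInvertible L ∧
      Curv2.deg k X L 1 = (Module.finrank k (X.residueField x) : ℤ) := by
  have hD := isEffCartierIdeal_pointIdeal k hdim x hx hn
  obtain ⟨L, hL, hLD⟩ := exists_isInverseOf (isInvertible_idealMod hD)
  exact ⟨L, hL, by rw [deg_inverse_idealMod k hdim.le hD hL (isInverseOf_symm hLD),
    finrank_quotMod_pointIdeal k x hx]⟩

end Groth.Curves1.RR
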