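import Mathlib
import Groth.Agent.Curves1.RR.GenusZeroP1
import Groth.Agent.Curves1.RR.PointDiv
import Groth.Agent.Curves1.RR.NormalPoint
import Groth.Agent.Curves1.CurveMor.Smooth
import Groth.Agent.Misc13.ProjFactor

/-!
# Genus zero curves over algebraically closed fields
-/

set_option linter.style.haveILetI false

universe u

open CategoryTheory Limits AlgebraicGeometry Coh TopologicalSpace Opposite

namespace Groth.Curves1.RR

open Groth.EulerDeg Groth.PicAux

attribute [local instance] Curv2.resAlgebra

variable (k : Type u) [Field k] {X : Scheme.{u}} [X.Over (Spec (CommRingCat.of k))]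
  [IsIntegral X] [IsProper (X ↘ Spec (CommRingCat.of k))]

theorem smooth_projSpace_field (n : ℕ) : Smooth (CohB1.ProjSpace.toSpec n k) := by
  rw [← Groth.PnCoh.overIso_hom_toBase]
  have := Groth.Misc13.ProjFactor.smooth_projSpaceOver_toBase n (Spec (CommRingCat.of k))
  infer_instance

/-- An integral proper curve of genus zero over an algebraically closed field is `P¹`. -/
theorem iso_projectiveLine_of_isAlgClosed [IsAlgClosed k] (hdim : topologicalKrullDim X = 1)
    (hg : Curv2.genus k X = 0) :
    ∃ e : X ≅ CohB1.ProjSpace 1 k,
      e.hom ≫ CohB1.ProjSpace.toSpec 1 k = X ↘ (Spec (CommRingCat.of k)) := by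
  have := isNoetherian_of_proper k X
  obtain ⟨x, hx, hn⟩ := exists_closed_normal_point (k := k) (X := X) hdim.le
  have := Groth.Curves1.CurveMor.finite_residueField_of_isClosed (k := k) hx
  obtain ⟨L, hL, hdeg⟩ := exists_invertible_deg_residueField k hdim x hx hn
  have hr : Module.finrank k (X.residueField x) = 1 :=
    ((AlgEquiv.ofBijective (Algebra.ofId k (X.residueField x))
      IsAlgClosed.algebraMap_bijective_of_isIntegral).toLinearEquiv.finrank_eq).symm.trans
        (Module.finrank_self k)
  rw [hr] at hdeg
  exact iso_projectiveLine k hdim (h0_eq_one_of_deg_eq_one k hdim.le L (by exact_mod_cast hdeg)) hg L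
    hL (by exact_mod_cast hdeg)

end Groth.Curves1.RR
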