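import Mathlib
import Groth.Agent.Curves1.RR.AlgClosed
import Groth.Agent.Curves1.RR.BaseChange
import Groth.Agent.Curves1.RR.P1Facts
import Groth.Agent.GrpschAbsch.H0General
import Groth.Agent.FibreDim.BaseChange
import Groth.Agent.FibreDim.Semicontinuity
import Groth.Agent.Curves1.CurveMor.Smooth

/-!
# Geometrically integral curves of genus zero over arbitrary fields
-/

set_option linter.style.haveILetI false
set_option backward.isDefEq.respectTransparency.types false

universe u

open CategoryTheory Limits AlgebraicGeometry Coh TopologicalSpace Opposite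

namespace Groth.Curves1.RR

open Groth.EulerDeg Groth.PicAux

attribute [local instance] secModule Curv2.resAlgebra

/-- Extension of the base field preserves the dimension. -/
theorem dim_of_isPullback {k K : Type u} [Field k] [Field K] [Algebra k K] {X X' : Scheme.{u}}
    (q : X ⟶ Spec (CommRingCat.of k)) [LocallyOfFiniteType q] (q' : X' ⟶ Spec (CommRingCat.of K))
    {g : X' ⟶ X} (h : IsPullback g q' q (Spec.map (CommRingCat.ofHom (algebraMap k K)))) :
    topologicalKrullDim X' = topologicalKrullDim X := by
  haveI : LocallyOfFiniteType q' := MorphismProperty.of_isPullback h inferInstance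
  haveI : Surjective (Spec.map (CommRingCat.ofHom (algebraMap k K))) :=
    ⟨fun y => ⟨⟨⊥, Ideal.isPrime_bot⟩, Subsingleton.elim _ _⟩⟩
  haveI : Surjective g := MorphismProperty.of_isPullback (P := (@Surjective : MorphismProperty Scheme.{u}))
    h.flip inferInstance
  rw [Groth.FibreDim.dim_eq_iSup_localDim q, Groth.FibreDim.dim_eq_iSup_localDim q',
    ← g.surjective.iSup_comp (g := fun z : X => FlatMor.localDim X z)]
  exact iSup_congr fun z' => Groth.FibreDim.localDim_eq_of_isPullback _ q q' g h z'

variable (k : Type u) [Field k] {X : Scheme.{u}} [X.Over (Spec (CommRingCat.of k))]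
  [IsProper (X ↘ Spec (CommRingCat.of k))] [GeometricallyIntegral (X ↘ Spec (CommRingCat.of k))]

/-- Geometrically integral proper schemes over a field have only constant functions. -/
theorem h0_eq_one_of_geometricallyIntegral :
    Module.finrank k (HH X (structureModule X) 0) = 1 := by
  haveI : LocallyOfFinitePresentation (X ↘ Spec (CommRingCat.of k)) := inferInstance
  haveI : GeometricallyConnected (X ↘ Spec (CommRingCat.of k)) := by
    refine ⟨fun K _ y Y fst snd h => ?_⟩
    have : IrreducibleSpace Y := GeometricallyIrreducible.geometrically_irreducibleSpace y fst snd h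
    exact (inferInstance : ConnectedSpace Y)
  have hb := Groth.GrpschAbsch.H0General.appTop_bijective (X ↘ Spec (CommRingCat.of k))
  have hb' : Function.Bijective (Coh.toGlobal (X ↘ Spec (CommRingCat.of k))) :=
    hb.comp (ConcreteCategory.bijective_of_isIso (Scheme.ΓSpecIso (CommRingCat.of k)).inv)
  let e : k ≃ₗ[k] Γ(structureModule X, (⊤ : X.Opens)) :=
    LinearEquiv.ofBijective
      ({ toFun := fun a => (show Γ(structureModule X, (⊤ : X.Opens)) from
           Coh.toGlobal (X ↘ Spec (CommRingCat.of k)) a)
         map_add' := fun a b => map_add _ a b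
         map_smul' := fun a b => by
           rw [RingHom.id_apply, smul_sec, toSec]
           show Coh.toGlobal (X ↘ Spec (CommRingCat.of k)) (a * b) = _
           rw [map_mul]
           exact congrArg (· * _) (resX_self _ _).symm } : k →ₗ[k] Γ(structureModule X, (⊤ : X.Opens))) hb'
  rw [(h0Equiv k (structureModule X)).finrank_eq, ← e.finrank_eq, Module.finrank_self]

/-- A geometrically integral proper curve of genus zero is smooth. -/
theorem smooth_of_genus_zero (hdim : topologicalKrullDim X = 1) (hg : Curv2.genus k X = 0) :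
    Smooth (X ↘ Spec (CommRingCat.of k)) := by
  let K := AlgebraicClosure k
  letI : (Curv2.bc k X K).Over (Spec (CommRingCat.of K)) := ⟨Curv2.bcSnd k X K⟩
  have hpb : IsPullback (Curv2.bcFst k X K) ((Curv2.bc k X K) ↘ Spec (CommRingCat.of K))
      (X ↘ Spec (CommRingCat.of k)) (Spec.map (CommRingCat.ofHom (algebraMap k K))) :=
    IsPullback.of_hasPullback _ _
  haveI : GeometricallyIntegral ((Curv2.bc k X K) ↘ Spec (CommRingCat.of K)) :=
    inferInstanceAs (GeometricallyIntegral (pullback.snd _ _))
  haveI : IsProper ((Curv2.bc k X K) ↘ Spec (CommRingCat.of K)) :=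
    inferInstanceAs (IsProper (pullback.snd _ _))
  haveI : IsIntegral (Curv2.bc k X K) := inferInstance
  have hdimK : topologicalKrullDim (Curv2.bc k X K) = 1 :=
    (dim_of_isPullback _ _ hpb).trans hdim
  have hgK : Curv2.genus K (Curv2.bc k X K) = 0 := (finrank_structure hpb 1).trans hg
  obtain ⟨e, he⟩ := iso_projectiveLine_of_isAlgClosed K hdimK hgK
  have hs := smooth_projSpace_field K 1
  haveI : Smooth ((Curv2.bc k X K) ↘ Spec (CommRingCat.of K)) := by
    rw [← he]; infer_instance
  haveI : LocallyOfFinitePresentation (X ↘ Spec (CommRingCat.of k)) := inferInstance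
  refine Groth.Curves1.CurveMor.smooth_of_forall_closed fun y _ => ?_
  have : Surjective (Spec.map (CommRingCat.ofHom (algebraMap k K))) :=
    ⟨fun y => ⟨⟨⊥, Ideal.isPrime_bot⟩, Subsingleton.elim _ _⟩⟩
  obtain ⟨z, rfl⟩ := (Curv2.bcFst k X K).surjective y
  refine Groth.PropsBasic.Loci.mem_smoothLocus_of_flat hpb (x' := z) ?_
  rw [Scheme.Hom.smoothLocus_eq_top]
  trivial

/-- A geometrically integral proper curve of genus zero with a rational point is `P¹`. -/
theorem iso_projectiveLine_of_ratPoint (hdim : topologicalKrullDim X = 1)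
    (hg : Curv2.genus k X = 0) (s : Spec (CommRingCat.of k) ⟶ X)
    (hs : s ≫ (X ↘ Spec (CommRingCat.of k)) = 𝟙 _) :
    ∃ e : X ≅ CohB1.ProjSpace 1 k,
      e.hom ≫ CohB1.ProjSpace.toSpec 1 k = X ↘ (Spec (CommRingCat.of k)) := by
  haveI : LocallyOfFinitePresentation (X ↘ Spec (CommRingCat.of k)) := inferInstance
  haveI : IsIntegral X := self_of_isIntegral_of_geometrically
    (GeometricallyIntegral.geometrically_isIntegral (f := X ↘ Spec (CommRingCat.of k)))
  have := smooth_of_genus_zero k hdim hg
  haveI : IsClosedImmersion (s ≫ (X ↘ Spec (CommRingCat.of k))) := by rw [hs]; infer_instance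
  haveI : IsClosedImmersion s :=
    IsClosedImmersion.of_comp s (X ↘ Spec (CommRingCat.of k))
  obtain ⟨⟨x, φ⟩, hxs⟩ := (Scheme.SpecToEquivOfField k X).symm.surjective s
  change Spec.map φ ≫ X.fromSpecResidueField x = s at hxs
  have hx : IsClosed ({x} : Set X) := by
    have h : Set.range s = {x} := by
      ext z
      simp only [Set.mem_range, Set.mem_singleton_iff]
      refine ⟨fun ⟨w, hw⟩ => ?_, fun h => ⟨default, ?_⟩⟩
      · rw [← hw, ← hxs, Scheme.Hom.comp_apply]
        exact X.fromSpecResidueField_apply x _
      · rw [h, ← hxs, Scheme.Hom.comp_apply]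
        exact X.fromSpecResidueField_apply x _
    exact h ▸ s.isClosedEmbedding.isClosed_range
  have hn := isIntegrallyClosed_stalk_of_mem_smoothLocus (k := k) hdim.le (x := x)
    (by rw [Scheme.Hom.smoothLocus_eq_top]; trivial)
  have hr : Module.finrank k (X.residueField x) = 1 := by
    have h1 : CommRingCat.ofHom (algebraMap k (X.residueField x)) ≫ φ = 𝟙 _ := by
      refine Spec.map_injective ?_
      rw [Spec.map_comp, Spec.map_id, ← hs, ← hxs, Category.assoc,
        Groth.VarietyBC.fromSpecResidueField_str]
    have h2 : Function.Surjective (algebraMap k (X.residueField x)) := fun r =>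
      ⟨φ r, φ.hom.injective (ConcreteCategory.congr_hom h1 (φ r))⟩
    exact ((AlgEquiv.ofBijective (Algebra.ofId k (X.residueField x))
      ⟨RingHom.injective _, h2⟩).toLinearEquiv.finrank_eq).symm.trans (Module.finrank_self k)
  obtain ⟨L, hL, hdeg⟩ := exists_invertible_deg_residueField k hdim x hx hn
  rw [hr] at hdeg
  exact iso_projectiveLine k hdim (h0_eq_one_of_geometricallyIntegral k) hg L hL
    (by exact_mod_cast hdeg)

end Groth.Curves1.RR
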