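import Mathlib
import Groth.Agent.Curves1.RR.Descend
import Groth.Agent.VarietyBC.SepPoints
import Groth.Agent.VarietyBC.GeomReducedGeneric
import Groth.Agent.CurveBridge.Omega
import Groth.Agent.OmegaSheaf.Pull
import Groth.Agent.LocFree.Basic

/-!
# Genus zero curves over separably closed fields, and with an invertible module of odd degree
-/

set_option linter.style.haveILetI false
set_option backward.isDefEq.respectTransparency.types false

universe u

open CategoryTheory Limits AlgebraicGeometry Coh TopologicalSpace Opposite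

namespace Groth.Curves1.RR

open Groth.EulerDeg Groth.PicAux

attribute [local instance] Curv2.resAlgebra

/-- A locally free module with invertible pullback along a surjection is invertible. -/
theorem isInvertible_of_pullback {X Y : Scheme.{u}} (g : Y ⟶ X) [Surjective g] {M : X.Modules}
    (hM : FlatMod.IsFinLocFree M) (h : PicF.IsInvertible ((Scheme.Modules.pullback g).obj M)) :
    PicF.IsInvertible M := by
  rw [Groth.LocFree.isInvertible_iff_ofRank_one] at h ⊢
  intro x
  obtain ⟨U, n, hx, ⟨e⟩⟩ := hM x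
  obtain ⟨y, rfl⟩ := g.surjective x
  obtain ⟨s, hs⟩ := Groth.LocFree.exists_basis_of_iso e
  obtain ⟨e'⟩ := Groth.LocFree.nonempty_iso_of_basis (hs.pull g)
  have hn := Groth.LocFree.rank_unique
    (Groth.LocFree.isFinLocFreeOfRank_of_iso e'.symm
      (Groth.LocFree.isFinLocFreeOfRank_freeMod _ n))
    (Groth.LocFree.isFinLocFreeOfRank_restrict (g ⁻¹ᵁ U).ι h) ⟨y, hx⟩
  subst hn
  exact ⟨U, hx, ⟨e⟩⟩

variable (k : Type u) [Field k] {X : Scheme.{u}} [X.Over (Spec (CommRingCat.of k))]
  [IsProper (X ↘ Spec (CommRingCat.of k))] [GeometricallyIntegral (X ↘ Spec (CommRingCat.of k))]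

/-- A geometrically integral proper curve of genus zero over a separably closed field is `P¹`. -/
theorem iso_projectiveLine_of_isSepClosed [IsSepClosed k] (hdim : topologicalKrullDim X = 1)
    (hg : Curv2.genus k X = 0) :
    ∃ e : X ≅ CohB1.ProjSpace 1 k,
      e.hom ≫ CohB1.ProjSpace.toSpec 1 k = X ↘ (Spec (CommRingCat.of k)) := by
  have := smooth_of_genus_zero k hdim hg
  haveI : IsIntegral X := self_of_isIntegral_of_geometrically
    (GeometricallyIntegral.geometrically_isIntegral (f := X ↘ Spec (CommRingCat.of k)))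
  obtain ⟨x, -, hx, hfin, hsep⟩ := Groth.VarietyBC.exists_closed_separable (k := k) (X := X)
    (O := ⊤) (by simp)
  have hn := isIntegrallyClosed_stalk_of_mem_smoothLocus (k := k) hdim.le (x := x)
    (by rw [Scheme.Hom.smoothLocus_eq_top]; trivial)
  obtain ⟨L, hL, hdeg⟩ := exists_invertible_deg_residueField k hdim x hx hn
  have hb : Function.Bijective (algebraMap k (X.residueField x)) :=
    ⟨RingHom.injective _, IsSepClosed.algebraMap_surjective k _⟩
  have hr : Module.finrank k (X.residueField x) = 1 :=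
    ((AlgEquiv.ofBijective (Algebra.ofId k (X.residueField x)) hb).toLinearEquiv.finrank_eq).symm.trans
      (Module.finrank_self k)
  rw [hr] at hdeg
  exact iso_projectiveLine k hdim (h0_eq_one_of_geometricallyIntegral k) hg L hL
    (by exact_mod_cast hdeg)

/-- The differentials of a smooth genus zero curve are invertible of degree `-2`. -/
theorem omega_deg_neg_two [Smooth (X ↘ Spec (CommRingCat.of k))] (hdim : topologicalKrullDim X = 1)
    (hg : Curv2.genus k X = 0) :
    PicF.IsInvertible (Omega.sheaf (X ↘ Spec (CommRingCat.of k))) ∧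
      Curv2.deg k X (Omega.sheaf (X ↘ Spec (CommRingCat.of k))) 1 = -2 := by
  let K := AlgebraicClosure k
  letI : (Curv2.bc k X K).Over (Spec (CommRingCat.of K)) := ⟨Curv2.bcSnd k X K⟩
  have hpb : IsPullback (Curv2.bcFst k X K) ((Curv2.bc k X K) ↘ Spec (CommRingCat.of K))
      (X ↘ Spec (CommRingCat.of k)) (Spec.map (CommRingCat.ofHom (algebraMap k K))) :=
    IsPullback.of_hasPullback _ _
  haveI : GeometricallyIntegral ((Curv2.bc k X K) ↘ Spec (CommRingCat.of K)) :=
    inferInstanceAs (GeometricallyIntegral (pullback.snd _ _))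
  haveI : IsProper ((Curv2.bc k X K) ↘ Spec (CommRingCat.of K)) :=
    inferInstanceAs (IsProper (pullback.snd _ _))
  haveI : Smooth ((Curv2.bc k X K) ↘ Spec (CommRingCat.of K)) :=
    inferInstanceAs (Smooth (pullback.snd _ _))
  haveI : IsIntegral (Curv2.bc k X K) := self_of_isIntegral_of_geometrically
    (GeometricallyIntegral.geometrically_isIntegral (f := (Curv2.bc k X K) ↘ Spec (CommRingCat.of K)))
  have hdimK : topologicalKrullDim (Curv2.bc k X K) = 1 :=
    (dim_of_isPullback _ _ hpb).trans hdim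
  have hgK : Curv2.genus K (Curv2.bc k X K) = 0 := (finrank_structure hpb 1).trans hg
  have hreg := Groth.CurveBridge.isRegCurve_of_smooth K (Curv2.bc k X K) hdimK
  have hK := Groth.CurveBridge.isFunctionField (k := K) (X := Curv2.bc k X K) hreg.dim
  have hΩK := Groth.CurveBridge.isInvertible_omega (X := Curv2.bc k X K) hK
  obtain ⟨-, -, hdK⟩ := Groth.CurveBridge.omega_numerics (k := K) (X := Curv2.bc k X K) hreg
  rw [hgK] at hdK
  obtain ⟨e⟩ := Groth.OmegaSheaf.nonempty_pullback_iso hpb
    (Groth.OmegaSheaf.isUniversal_dOmega (X ↘ Spec (CommRingCat.of k)))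
    (Groth.OmegaSheaf.isUniversal_dOmega ((Curv2.bc k X K) ↘ Spec (CommRingCat.of K)))
  have : Surjective (Spec.map (CommRingCat.ofHom (algebraMap k K))) :=
    ⟨fun y => ⟨⟨⊥, Ideal.isPrime_bot⟩, Subsingleton.elim _ _⟩⟩
  have hinv := isInvertible_of_pullback (Curv2.bcFst k X K)
    (Groth.OmegaSheaf.isFinLocFree_sheaf (X ↘ Spec (CommRingCat.of k)))
    (PicAux.isInvertible_of_iso hΩK e.symm)
  refine ⟨hinv, ?_⟩
  rw [← deg_pullback hpb hinv, deg_congr (k := K) e 1, hdK]
  norm_num

/-- A smooth geometrically irreducible curve of genus zero with an invertible module of odd degree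
is `P¹`. -/
theorem iso_projectiveLine_of_odd_deg [Smooth (X ↘ Spec (CommRingCat.of k))]
    (hdim : topologicalKrullDim X = 1) (hg : Curv2.genus k X = 0) (L : X.Modules)
    (hL : PicF.IsInvertible L) (hodd : Odd (Curv2.deg k X L 1)) :
    ∃ e : X ≅ CohB1.ProjSpace 1 k,
      e.hom ≫ CohB1.ProjSpace.toSpec 1 k = X ↘ (Spec (CommRingCat.of k)) := by
  haveI : IsIntegral X := self_of_isIntegral_of_geometrically
    (GeometricallyIntegral.geometrically_isIntegral (f := X ↘ Spec (CommRingCat.of k)))
  obtain ⟨hΩ, hΩd⟩ := omega_deg_neg_two k hdim hg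
  -- the degrees form a subgroup
  let H : AddSubgroup ℤ :=
    { carrier := {n | ∃ M : X.Modules, PicF.IsInvertible M ∧ Curv2.deg k X M 1 = n}
      zero_mem' := ⟨structureModule X, isInvertible_structureModule X, by simp [Curv2.deg]⟩
      add_mem' := by
        rintro a b ⟨L, hL, rfl⟩ ⟨M, hM, rfl⟩
        exact ⟨_, isInvertible_tensorMod hL hM, deg_tensor_invertible k hdim.le hL hM⟩
      neg_mem' := by
        rintro a ⟨L, hL, rfl⟩
        obtain ⟨M, hM, ⟨e⟩⟩ := exists_isInverseOf hL
        refine ⟨M, hM, ?_⟩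
        have h2 := deg_tensor_invertible k hdim.le hL hM
        rw [deg_congr (k := k) e 1, show Curv2.deg k X (structureModule X) 1 = 0 by
          simp [Curv2.deg]] at h2
        omega }
  obtain ⟨m, hm⟩ := hodd
  have h1 : (1 : ℤ) ∈ H := by
    have hd : Curv2.deg k X L 1 ∈ H := ⟨L, hL, rfl⟩
    have h2 : (-2 : ℤ) ∈ H := ⟨_, hΩ, hΩd⟩
    have h3 := H.add_mem hd (H.zsmul_mem h2 m)
    rw [hm, smul_eq_mul, show 2 * m + 1 + m * -2 = (1 : ℤ) by ring] at h3
    exact h3
  obtain ⟨M, hM, hMd⟩ := h1
  exact iso_projectiveLine k hdim (h0_eq_one_of_geometricallyIntegral k) hg M hM hMd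

/-- A smooth geometrically irreducible scheme over a field is geometrically integral. -/
theorem geometricallyIntegral_of_smooth {Y : Scheme.{u}} [Y.Over (Spec (CommRingCat.of k))] [IsReduced Y]
    [Smooth (Y ↘ Spec (CommRingCat.of k))] [GeometricallyIrreducible (Y ↘ Spec (CommRingCat.of k))] :
    GeometricallyIntegral (Y ↘ Spec (CommRingCat.of k)) := by
  have : GeometricallyReduced (Y ↘ Spec (CommRingCat.of k)) :=
    Groth.VarietyBC.geometricallyReduced_of_dense_smooth (k := k) (X := Y) ⊤ (by simp)
      (by rw [Scheme.Hom.smoothLocus_eq_top])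
  rw [GeometricallyIntegral.eq_geometricallyReduced_inf_geometricallyIrreducible]
  exact ⟨this, ‹_›⟩

end Groth.Curves1.RR
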