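import Mathlib
import Groth.Agent.Curves1.RR.OddDeg
import Groth.Agent.OmegaSheaf.EtalePull
import Groth.Agent.PnCoh.ProjectionFormula
import Groth.Agent.CohFin.PushAffine
import Groth.Agent.Misc6.FinCovCover
import Groth.Agent.PicAux.KummerCover
import Groth.Agent.EulerDeg.Tensor

/-!
# Degrees along finite flat maps; finite étale covers of genus zero curves
-/

set_option linter.style.haveILetI false
set_option backward.isDefEq.respectTransparency.types false

universe u

open CategoryTheory Limits AlgebraicGeometry Coh TopologicalSpace Opposite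

namespace Groth.Curves1.RR

open Groth.EulerDeg Groth.PicAux

attribute [local instance] secModule

variable (k : Type u) [Field k] {X : Scheme.{u}} [X.Over (Spec (CommRingCat.of k))]
  [IsProper (X ↘ Spec (CommRingCat.of k))]

omit [IsProper (X ↘ Spec (CommRingCat.of k))] in
/-- A nonempty scheme with `h⁰(O) = 1` is connected. -/
theorem connectedSpace_of_h0 [Nonempty X] (h0 : Module.finrank k (HH X (structureModule X) 0) = 1) :
    ConnectedSpace X := by
  have h1 : Module.finrank k Γ(structureModule X, (⊤ : X.Opens)) = 1 :=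
    (h0Equiv k (structureModule X)).finrank_eq.symm.trans h0
  haveI : Nonempty (⊤ : X.Opens) := ⟨⟨Classical.arbitrary X, trivial⟩⟩
  have hne : oneSec X (⊤ : X.Opens) ≠ 0 := fun h =>
    one_ne_zero (α := Γ(X, ⊤)) (congrArg toFun h)
  have hb : Function.Bijective (toSec k (⊤ : X.Opens)) := by
    refine ⟨RingHom.injective _, fun r => ?_⟩
    obtain ⟨a, ha⟩ := (finrank_eq_one_iff_of_nonzero' _ hne).1 h1 (r • oneSec X ⊤)
    exact ⟨a, (gen_oneSec (⊤ : X.Opens)).smul_inj le_rfl (r := toSec k ⊤ a) (r' := r)
      (by rw [res_self]; exact ha)⟩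
  exact connectedSpace_of_isField
    (MulEquiv.isField (Field.toIsField k) (RingEquiv.ofBijective _ hb).symm.toMulEquiv)

/-- The differentials of a smooth proper curve with constant functions have degree `2g - 2`. -/
theorem omega_deg [IsIntegral X] [Smooth (X ↘ Spec (CommRingCat.of k))]
    (hdim : topologicalKrullDim X = 1) (h0 : Module.finrank k (HH X (structureModule X) 0) = 1) :
    PicF.IsInvertible (Omega.sheaf (X ↘ Spec (CommRingCat.of k))) ∧
      Curv2.deg k X (Omega.sheaf (X ↘ Spec (CommRingCat.of k))) 1 =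
        2 * (Curv2.genus k X : ℤ) - 2 := by
  let K := AlgebraicClosure k
  letI : (Curv2.bc k X K).Over (Spec (CommRingCat.of K)) := ⟨Curv2.bcSnd k X K⟩
  have hpb : IsPullback (Curv2.bcFst k X K) ((Curv2.bc k X K) ↘ Spec (CommRingCat.of K))
      (X ↘ Spec (CommRingCat.of k)) (Spec.map (CommRingCat.ofHom (algebraMap k K))) :=
    IsPullback.of_hasPullback _ _
  haveI : IsProper ((Curv2.bc k X K) ↘ Spec (CommRingCat.of K)) :=
    inferInstanceAs (IsProper (pullback.snd _ _))
  haveI : Smooth ((Curv2.bc k X K) ↘ Spec (CommRingCat.of K)) :=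
    inferInstanceAs (Smooth (pullback.snd _ _))
  have : Surjective (Spec.map (CommRingCat.ofHom (algebraMap k K))) :=
    ⟨fun y => ⟨⟨⊥, Ideal.isPrime_bot⟩, Subsingleton.elim _ _⟩⟩
  have : Nonempty (Curv2.bc k X K) :=
    ⟨((Curv2.bcFst k X K).surjective (genericPoint X)).choose⟩
  haveI : ConnectedSpace (Curv2.bc k X K) :=
    connectedSpace_of_h0 K ((finrank_structure hpb 0).trans h0)
  haveI : IsIntegral (Curv2.bc k X K) := Groth.CurveBridge.isIntegral_of_smooth K (Curv2.bc k X K)
  have hdimK : topologicalKrullDim (Curv2.bc k X K) = 1 :=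
    (dim_of_isPullback _ _ hpb).trans hdim
  have hgK : Curv2.genus K (Curv2.bc k X K) = Curv2.genus k X := finrank_structure hpb 1
  have hreg := Groth.CurveBridge.isRegCurve_of_smooth K (Curv2.bc k X K) hdimK
  have hK := Groth.CurveBridge.isFunctionField (k := K) (X := Curv2.bc k X K) hreg.dim
  have hΩK := Groth.CurveBridge.isInvertible_omega (X := Curv2.bc k X K) hK
  obtain ⟨-, -, hdK⟩ := Groth.CurveBridge.omega_numerics (k := K) (X := Curv2.bc k X K) hreg
  rw [hgK] at hdK
  obtain ⟨e⟩ := Groth.OmegaSheaf.nonempty_pullback_iso hpb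
    (Groth.OmegaSheaf.isUniversal_dOmega (X ↘ Spec (CommRingCat.of k)))
    (Groth.OmegaSheaf.isUniversal_dOmega ((Curv2.bc k X K) ↘ Spec (CommRingCat.of K)))
  have hinv := isInvertible_of_pullback (Curv2.bcFst k X K)
    (Groth.OmegaSheaf.isFinLocFree_sheaf (X ↘ Spec (CommRingCat.of k)))
    (PicAux.isInvertible_of_iso hΩK e.symm)
  exact ⟨hinv, by rw [← deg_pullback hpb hinv, deg_congr (k := K) e 1, hdK]⟩

variable {Y : Scheme.{u}} [Y.Over (Spec (CommRingCat.of k))] [IsProper (Y ↘ Spec (CommRingCat.of k))]

/-- The Euler characteristic of a direct image along an affine morphism. -/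
theorem euler_push_affine (f : X ⟶ Y) [IsAffineHom f]
    (hf : f ≫ (Y ↘ Spec (CommRingCat.of k)) = X ↘ Spec (CommRingCat.of k))
    (M : X.Modules) (hM : IsQCoh M) :
    Curv2.euler k Y ((Scheme.Modules.pushforward f).obj M) = Curv2.euler k X M := by
  have : M.IsQuasicoherent := hM
  have : CompactSpace X := QuasiCompact.compactSpace_of_compactSpace (X ↘ Spec (CommRingCat.of k))
  have := Groth.HilbStab.BC.isSeparated_of_proper k X
  have := Groth.HilbStab.BC.isSeparated_of_proper k Y
  refine finsum_congr fun i => ?_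
  obtain ⟨e⟩ := Groth.CohFin.nonempty_linearEquiv_push f (Y ↘ Spec (CommRingCat.of k)) i M
  have h := e.finrank_eq
  rw [hf] at h
  rw [show Module.finrank k (HH Y ((Scheme.Modules.pushforward f).obj M) i) =
    Module.finrank k (HH X M i) from h]

variable [IsIntegral Y]

omit [IsIntegral Y] in
/-- Degrees of invertible modules are multiplied by the rank along a finite flat morphism. -/
theorem deg_pullback_finite (hdimY : topologicalKrullDim Y ≤ 1) (f : X ⟶ Y) [IsFinite f] [Flat f]
    (hf : f ≫ (Y ↘ Spec (CommRingCat.of k)) = X ↘ Spec (CommRingCat.of k)) (n : ℕ)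
    (hn : ∀ y, f.finrank y = n) {M : Y.Modules} (hM : PicF.IsInvertible M) :
    Curv2.deg k X ((Scheme.Modules.pullback f).obj M) 1 = n * Curv2.deg k Y M 1 := by
  have := isNoetherian_of_proper k Y
  have : LocallyOfFinitePresentation f := inferInstance
  let E := (Scheme.Modules.pushforward f).obj (structureModule X)
  have hE : FlatMod.IsFinLocFreeOfRank n E :=
    Groth.Misc6.FinCov.pushforward_of_isCover f n ⟨⟨inferInstance, inferInstance, inferInstance⟩, hn⟩
  have hfM := isInvertible_pullback f hM
  obtain ⟨π, -⟩ := Groth.PnCoh.exists_projectionFormula f (structureModule X) hM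
  obtain ⟨l, -⟩ := exists_leftUnitor ((Scheme.Modules.pullback f).obj M)
  have h1 : Curv2.euler k X ((Scheme.Modules.pullback f).obj M) =
      Curv2.euler k Y (CohB1.tensorMod E M) := by
    rw [← euler_congr k l, ← euler_push_affine k f hf _ (isCoh_of_isInvertible
      (isInvertible_tensorMod (isInvertible_structureModule X) hfM)).1]
    exact euler_congr k π.symm
  have h2 : Curv2.euler k X (structureModule X) = Curv2.euler k Y E :=
    (euler_push_affine k f hf _ (isCoh_of_isInvertible (isInvertible_structureModule X)).1).symm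
  have key := deg_tensor k hdimY hE (Groth.LocFree.isInvertible_iff_ofRank_one.1 hM)
  simp only [Curv2.deg] at key ⊢
  rw [h1, h2]
  push_cast at key ⊢
  linarith

/-- A finite étale cover of a genus zero curve by a curve with constant functions is trivial. -/
theorem isIso_of_etale_genus_zero [IsIntegral X]
    [Smooth (X ↘ Spec (CommRingCat.of k))] [Smooth (Y ↘ Spec (CommRingCat.of k))]
    (hdX : topologicalKrullDim X = 1) (hdY : topologicalKrullDim Y = 1)
    (hX0 : Module.finrank k (HH X (structureModule X) 0) = 1)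
    (hY0 : Module.finrank k (HH Y (structureModule Y) 0) = 1) (hg : Curv2.genus k Y = 0)
    (f : X ⟶ Y) [IsFinite f] [Etale f]
    (hf : f ≫ (Y ↘ Spec (CommRingCat.of k)) = X ↘ Spec (CommRingCat.of k)) : IsIso f := by
  have := isNoetherian_of_proper k Y
  haveI : LocallyOfFinitePresentation f := inferInstance
  let n := f.finrank (genericPoint Y)
  have hn : ∀ y, f.finrank y = n := fun y =>
    (Scheme.Hom.isLocallyConstant_finrank f).apply_eq_of_preconnectedSpace y (genericPoint Y)
  have hn1 : 1 ≤ n := (hn (f (genericPoint X))) ▸ Scheme.Hom.one_le_finrank_map f (genericPoint X)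
  obtain ⟨-, hdX'⟩ := omega_deg k hdX hX0
  obtain ⟨hΩY, hdY'⟩ := omega_deg k hdY hY0
  obtain ⟨e⟩ := Groth.OmegaSheaf.nonempty_pullback_iso_of_etale (g := 𝟙 _) (h := f)
    (by rw [hf, Category.comp_id])
    (Groth.OmegaSheaf.isUniversal_dOmega (Y ↘ Spec (CommRingCat.of k)))
    (Groth.OmegaSheaf.isUniversal_dOmega (X ↘ Spec (CommRingCat.of k)))
  have h := deg_pullback_finite k hdY.le f hf n hn hΩY
  rw [deg_congr (k := k) e 1, hdX', hdY', hg] at h
  have hn2 : n = 1 := by
    push_cast at h
    have : (0 : ℤ) ≤ Curv2.genus k X := Int.natCast_nonneg _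
    omega
  rw [Scheme.Hom.isIso_iff_finrank_eq]
  exact funext fun y => (hn y).trans hn2

end Groth.Curves1.RR
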