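import Mathlib
import Groth.Agent.Curves1.RR.Numerics
import Groth.Agent.Chow.AmpleTwist
import Groth.Agent.PicAux.Pullback
import Groth.Agent.PropsBasic.AmpleSec

/-!
# Invertible modules with many sections are globally generated
-/

universe u

open CategoryTheory Limits AlgebraicGeometry Coh TopologicalSpace Opposite

namespace Groth.Curves1.RR

open Groth.EulerDeg Groth.PicAux Groth.PropsBasic.Ample

section Skyscraper

variable {X : Scheme.{u}} {L : X.Modules}

/-- Evaluation of sections of `L` at a point. -/
noncomputable def evalAt (L : X.Modules) (x : X) :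
    L ⟶ (Scheme.Modules.pushforward (X.fromSpecResidueField x)).obj
      ((Scheme.Modules.pullback (X.fromSpecResidueField x)).obj L) :=
  (Scheme.Modules.pullbackPushforwardAdjunction (X.fromSpecResidueField x)).unit.app L

theorem evalAt_ne_zero (hL : PicF.IsInvertible L) (x : X) : evalAt L x ≠ 0 := by
  intro h
  let i := X.fromSpecResidueField x
  have h' : 𝟙 ((Scheme.Modules.pullback i).obj L) = 0 := by
    have h1 := (Scheme.Modules.pullbackPushforwardAdjunction i).left_triangle_components L
    rw [show (Scheme.Modules.pullbackPushforwardAdjunction i).unit.app L = 0 from h,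
      Functor.map_zero, zero_comp] at h1
    exact h1.symm
  obtain ⟨U, e, hU, he⟩ := (isInvertible_iff_exists_gen _).1 (isInvertible_pullback i hL)
    (default : PrimeSpectrum (X.residueField x))
  have he0 : e = 0 := by
    have h2 := congrArg
      (fun φ : (Scheme.Modules.pullback i).obj L ⟶ (Scheme.Modules.pullback i).obj L => φ.app U e) h'
    exact h2
  have h3 : (1 : Γ(Spec (X.residueField x), U)) = 0 :=
    he.smul_inj le_rfl (by rw [res_self, he0, smul_zero, smul_zero])
  have h4 := congrArg ((Spec (X.residueField x)).presheaf.germ U _ hU) h3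
  rw [map_one, map_zero] at h4
  exact one_ne_zero h4

/-- A function vanishing at `x` restricts to zero at `x`. -/
theorem fromSpecResidueField_app_eq_zero {x : X} {V : X.Opens} (hx : x ∈ V) (c : Γ(X, V))
    (hc : ¬ IsUnit (X.presheaf.germ V x hx c)) : (X.fromSpecResidueField x).app V c = 0 := by
  let i := X.fromSpecResidueField x
  refine TopCat.Presheaf.section_ext (Spec (X.residueField x)).sheaf _ _ _ fun z hz => ?_
  refine (?_ : _ = _).trans (map_zero _).symm
  show (Spec (X.residueField x)).presheaf.germ (i ⁻¹ᵁ V) z hz (i.app V c) = 0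
  rw [← Scheme.Hom.germ_stalkMap_apply]
  have hzx : i z = x := X.fromSpecResidueField_apply x z
  by_contra hne
  have hu : IsUnit (i.stalkMap z (X.presheaf.germ V (i z) hz c)) := by
    have hF : IsField ((Spec (X.residueField x)).presheaf.stalk z) :=
      isField_stalk_of_closure_mem_irreducibleComponents _ _ (by
        rw [irreducibleComponents_eq_singleton, Set.mem_singleton_iff]
        exact Set.eq_univ_of_forall fun w => Subsingleton.elim z w ▸ subset_closure rfl)
    let := hF.toField
    exact (Ne.isUnit hne :)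
  have h1 := isUnit_of_map_unit (i.stalkMap z).hom _ hu
  refine hc ?_
  have key : ∀ (y : X) (hy : y ∈ V), y = x → IsUnit (X.presheaf.germ V y hy c) →
      IsUnit (X.presheaf.germ V x hx c) := by
    rintro y hy rfl h
    exact h
  exact key _ hz hzx h1

theorem evalAt_eq_zero (hL : PicF.IsInvertible L) {x : X} (t : Γ(L, ⊤)) (ht : x ∉ gloc t) :
    (evalAt L x).app ⊤ t = 0 := by
  obtain ⟨U, e, hxU, he⟩ := (isInvertible_iff_exists_gen L).1 hL x
  obtain ⟨c, hc⟩ := he.exists_coeff le_rfl (res L le_top t)
  rw [res_self] at hc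
  have hcx : ¬ IsUnit (X.presheaf.germ U x hxU c) := fun h => by
    have h1 : x ∈ gloc t ⊓ U := by
      rw [gloc_inf_eq_basicOpen he hc, X.mem_basicOpen c x hxU]
      exact h
    exact ht h1.1
  have hle : (X.fromSpecResidueField x) ⁻¹ᵁ (⊤ : X.Opens) ≤ (X.fromSpecResidueField x) ⁻¹ᵁ U := by
    intro z _
    show X.fromSpecResidueField x z ∈ U
    rwa [X.fromSpecResidueField_apply x z]
  have h0 : res _ (le_top : U ≤ ⊤) ((evalAt L x).app ⊤ t) = 0 := by
    rw [← app_res, hc, Scheme.Modules.Hom.app_smul]
    have key : ∀ (N : (Spec (X.residueField x)).Modules) (m : Γ(N, (X.fromSpecResidueField x) ⁻¹ᵁ U)),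
        (X.fromSpecResidueField x).app U c • m = 0 := fun N m => by
      rw [fromSpecResidueField_app_eq_zero hxU c hcx, zero_smul]
    exact key _ ((evalAt L x).app U e)
  let M := (Scheme.Modules.pullback (X.fromSpecResidueField x)).obj L
  have h1 : res M ((X.fromSpecResidueField x).preimage_mono (le_top : U ≤ ⊤))
      ((evalAt L x).app ⊤ t) = 0 := h0
  have h2 := congrArg (res M hle) h1
  rw [res_res, res_self, res_zero] at h2
  exact h2

theorem supportedAtClosed_pushforward {x : X} (hx : IsClosed ({x} : Set X))
    (M : (Spec (X.residueField x)).Modules) :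
    SupportedAtClosed ((Scheme.Modules.pushforward (X.fromSpecResidueField x)).obj M) := by
  intro y hy
  rcases eq_or_ne y x with rfl | hne
  · exact hx
  refine absurd (subsingleton_of_forall_eq 0 fun t => ?_) hy
  obtain ⟨V, hV, s, rfl⟩ := Groth.QCohMod.exists_germ
    ((Scheme.Modules.pushforward (X.fromSpecResidueField x)).obj M) y t
  let W : X.Opens := V ⊓ ⟨({x} : Set X)ᶜ, hx.isOpen_compl⟩
  have hW : (X.fromSpecResidueField x) ⁻¹ᵁ W = ⊥ := by
    refine eq_bot_iff.2 fun z hz => ?_
    exact absurd (X.fromSpecResidueField_apply x z) hz.2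
  have h0 : Subsingleton Γ(M, (X.fromSpecResidueField x) ⁻¹ᵁ W) := by
    rw [hW]
    have : Subsingleton Γ(Spec (X.residueField x), ⊥) := inferInstance
    exact Module.subsingleton Γ(Spec (X.residueField x), ⊥) _
  rw [← Groth.QCohMod.germ_res _ (inf_le_left : W ≤ V) y ⟨hV, hne⟩ s,
    show Groth.QCohMod.res _ (inf_le_left : W ≤ V) s = 0 from @Subsingleton.elim _ h0 _ _, map_zero]

end Skyscraper

variable (k : Type u) [Field k] {X : Scheme.{u}} [X.Over (Spec (CommRingCat.of k))]
  [IsIntegral X] [IsProper (X ↘ Spec (CommRingCat.of k))] (hdim : topologicalKrullDim X ≤ 1)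
  {L : X.Modules} (hL : PicF.IsInvertible L)

include hdim hL in
/-- If `h⁰(L) > g`, every closed point has a section generating there. -/
theorem exists_mem_gloc (hlt : Curv2.genus k X < Module.finrank k (HH X L 0)) {x : X}
    (hx : IsClosed ({x} : Set X)) : ∃ t : Γ(L, ⊤), x ∈ gloc t := by
  have := noetherianSpace_of_proper k X
  by_contra hall
  push Not at hall
  set η := evalAt L x
  let ι := kernel.ι η
  let C := cokernel ι
  have hS : (ShortComplex.mk ι (cokernel.π ι) (cokernel.condition ι)).ShortExact :=
    { exact := ShortComplex.exact_cokernel ι }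
  let d : C ⟶ _ := cokernel.desc ι η (kernel.condition η)
  have hd : Mono d := inferInstanceAs (Mono (Abelian.factorThruCoimage η))
  have hsupp : SupportedAtClosed C := fun y hy => supportedAtClosed_pushforward hx _ y fun hs => hy
    (@Function.Injective.subsingleton _ _ _ ((Groth.QCohMod.mono_iff_stalk d).1 hd y) hs)
  have hπ : ∀ v : HH X L 0, hMap k (cokernel.π ι) 0 v = 0 := by
    intro v
    refine hMap_injective_zero_of_mono k d ?_
    rw [← LinearMap.comp_apply, ← hMap_comp, cokernel.π_desc, map_zero]
    refine (h0Equiv k _).map_eq_zero_iff.1 ?_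
    rw [h0Equiv_hMap]
    exact evalAt_eq_zero hL _ (hall _)
  have hi := injective_zero k hS
  have hsurj : Function.Surjective (hMap k ι 0) := fun v => (exact_mid k hS 0 v).1 (hπ v)
  have e0 : Module.finrank k (HH X (kernel η) 0) = Module.finrank k (HH X L 0) :=
    (LinearEquiv.ofBijective (hMap k ι 0) ⟨hi, hsurj⟩).finrank_eq
  have h1 : Subsingleton (HH X (kernel η) 1) := by
    by_contra hn
    rw [not_subsingleton_iff_nontrivial] at hn
    have := h0_le_genus k hdim hL ι hn
    omega
  have h0C : Subsingleton (HH X C 0) := subsingleton_of_forall_eq 0 fun z => by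
    obtain ⟨v, rfl⟩ := (exact_right k hS 0 z).1 (@Subsingleton.elim _ h1 _ _)
    exact hπ v
  have hC : IsZero C := isZero_of_subsingleton_H0 hsupp h0C
  refine evalAt_ne_zero hL x ?_
  rw [show evalAt L x = cokernel.π ι ≫ d from (cokernel.π_desc ι η (kernel.condition η)).symm,
    hC.eq_of_src d 0, comp_zero]

include hdim hL in
/-- If `h⁰(L) > g` then `L` is globally generated. -/
theorem isGloballyGenerated_of_genus_lt (hlt : Curv2.genus k X < Module.finrank k (HH X L 0)) :
    Curv2.IsGloballyGenerated L := by
  have : CompactSpace X := Groth.EulerDeg.compactSpace_of_proper k X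
  refine Groth.Chow.isGloballyGenerated_of_cover (id : Γ(L, ⊤) → Γ(L, ⊤)) (eq_top_iff.2 fun y _ => ?_)
  obtain ⟨x, hx, hxc⟩ := IsClosed.exists_closed_singleton (isClosed_closure (s := ({y} : Set X)))
    ⟨y, subset_closure rfl⟩
  obtain ⟨t, ht⟩ := exists_mem_gloc k hdim hL hlt hxc
  exact Opens.mem_iSup.2 ⟨t, (specializes_iff_mem_closure.2 hx).mem_open (gloc t).isOpen ht⟩

end Groth.Curves1.RR
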