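import Mathlib
import Groth.Agent.Curves1.RR.Numerics
import Groth.Agent.DegMono.StalkSum
import Groth.Agent.PropsBasic.AmpleSec

/-!
# A linear series of degree `d ≥ 1` and dimension `d` forces genus zero

If `h⁰(L) = deg L + 1` with `deg L > 0` then `h¹(L^n) = g` for all `n`, so `g = 0`.
-/

universe u

open CategoryTheory Limits AlgebraicGeometry Coh TopologicalSpace Opposite

namespace Groth.Curves1.RR

open Groth.EulerDeg Groth.PicAux

variable (k : Type u) [Field k] {X : Scheme.{u}} [X.Over (Spec (CommRingCat.of k))]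
  [IsIntegral X] [IsProper (X ↘ Spec (CommRingCat.of k))] (hdim : topologicalKrullDim X ≤ 1)
  (L : X.Modules)

/-- The map induced on twists by `L`. -/
noncomputable def twMap (L : X.Modules) {A B : X.Modules} (φ : A ⟶ B) :
    CohB1.tensorMod A L ⟶ CohB1.tensorMod B L :=
  (DCoh.tensorRightMod L).map φ

variable {L}

omit [X.Over (Spec (CommRingCat.of k))] [IsProper (X ↘ Spec (CommRingCat.of k))] [IsIntegral X] in
theorem twMap_comp {A B C : X.Modules} (φ : A ⟶ B) (ψ : B ⟶ C) :
    twMap L (φ ≫ ψ) = twMap L φ ≫ twMap L ψ :=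
  (DCoh.tensorRightMod L).map_comp φ ψ

omit [X.Over (Spec (CommRingCat.of k))] [IsProper (X ↘ Spec (CommRingCat.of k))] [IsIntegral X] in
theorem twMap_zero (A B : X.Modules) : twMap L (0 : A ⟶ B) = 0 :=
  (DCoh.tensorRightMod L).map_zero A B

instance twMap_isIso {A B : X.Modules} (φ : A ⟶ B) [IsIso φ] : IsIso (twMap L φ) :=
  Functor.map_isIso (DCoh.tensorRightMod L) φ

omit [X.Over (Spec (CommRingCat.of k))] [IsProper (X ↘ Spec (CommRingCat.of k))] [IsIntegral X] in
theorem twMap_tmulSec {A B : X.Modules} (φ : A ⟶ B) (W : X.Opens) (a : Γ(A, W)) (l : Γ(L, W)) :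
    (twMap L φ).app W (tmulSec a l) = tmulSec (φ.app W a) l :=
  tensorRightMod_map_tmulSec L φ W a l

omit [X.Over (Spec (CommRingCat.of k))] [IsProper (X ↘ Spec (CommRingCat.of k))] [IsIntegral X] in
theorem shortExact_twMap (hL : PicF.IsInvertible L) {A B C : X.Modules} {φ : A ⟶ B} {ψ : B ⟶ C}
    {w : φ ≫ ψ = 0} (h : (ShortComplex.mk φ ψ w).ShortExact) :
    (ShortComplex.mk (twMap L φ) (twMap L ψ)
      (by rw [← twMap_comp, w, twMap_zero])).ShortExact :=
  by
  have h1 := shortExact_tensorRightMod hL h
  unfold twMap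
  exact h1

/-- The inductive invariant: an invertible module of degree `n d` with `h¹ = g`, together with a
twisting map whose cokernel is finite, surjected on by sections, and stable under twisting. -/
def Level (L : X.Modules) (d n : ℕ) : Prop :=
  ∃ (M C : X.Modules) (a : M ⟶ CohB1.tensorMod M L) (π : CohB1.tensorMod M L ⟶ C) (β : CohB1.tensorMod M L ⟶ CohB1.tensorMod (CohB1.tensorMod M L) L)
    (γ : C ⟶ CohB1.tensorMod C L) (w : a ≫ π = 0),
    PicF.IsInvertible M ∧ Curv2.deg k X M 1 = (n * d : ℕ) ∧
      Module.finrank k (HH X M 1) = Curv2.genus k X ∧ (ShortComplex.mk a π w).ShortExact ∧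
      IsCoh C ∧ SupportedAtClosed C ∧ Curv2.euler k X C = d ∧ IsIso γ ∧ π ≫ γ = β ≫ twMap L π ∧
      Function.Surjective (hMap k π 0)


omit [IsIntegral X] in
theorem level_succ (hL : PicF.IsInvertible L) {d n : ℕ} (h : Level k L d n) : Level k L d (n + 1) := by
  obtain ⟨M, C, a, π, β, γ, w, hM, hdeg, hh1, hS, hC, hCs, hχ, hγ, hsq, hsurj⟩ := h
  have := noetherianSpace_of_proper k X
  have := hC.1
  have := (isCoh_of_isInvertible hL).1
  have hTM : PicF.IsInvertible (CohB1.tensorMod M L) := isInvertible_tensorMod hM hL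
  refine ⟨CohB1.tensorMod M L, CohB1.tensorMod C L, twMap L a, twMap L π, twMap L β, twMap L γ,
    by rw [← twMap_comp, w, twMap_zero], hTM, ?_, ?_,
    shortExact_twMap hL hS, isCoh_tensor hC (isCoh_of_isInvertible hL), ?_, ?_,
    inferInstance, by rw [← twMap_comp, hsq, twMap_comp], ?_⟩
  · have e := euler_add hS (finCoh k X (isCoh_of_isInvertible hM)) (finCoh k X hC)
    change Curv2.euler k X (CohB1.tensorMod M L) = Curv2.euler k X M + Curv2.euler k X C at e
    have e1 := euler_eq_deg_add k M 1
    have e2 := euler_eq_deg_add k (CohB1.tensorMod M L) 1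
    push_cast at e1 e2 hdeg ⊢
    linarith
  · rw [← hh1]
    have hi : Function.Injective (hMap k a 1) := by
      rw [injective_iff_map_eq_zero]
      intro x hx
      obtain ⟨c, rfl⟩ := (exact_left k hS 0 x).1 hx
      obtain ⟨v, rfl⟩ := hsurj c
      exact (exact_right k hS 0 _).2 ⟨v, rfl⟩
    have hs : Function.Surjective (hMap k a 1) := fun y =>
      (exact_mid k hS 1 y).1 (@Subsingleton.elim _ (subsingleton_HH_succ_of_supportedAtClosed hCs 0) _ _)
    exact ((LinearEquiv.ofBijective (hMap k a 1) ⟨hi, hs⟩).finrank_eq).symm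
  · intro x hx
    refine hCs x ?_
    have h1 := Groth.QCohMod.support_tensorMod C L hC.2 (isCoh_of_isInvertible hL).2
    exact (h1.le hx).1
  · rw [← hχ]
    exact (euler_tensor_of_supportedAtClosed k hC hCs (LocFree.isInvertible_iff_ofRank_one.mp hL)).trans
      (by rw [Nat.cast_one, one_mul])
  · intro z
    obtain ⟨c, rfl⟩ := (hEquiv k (asIso γ) 0).surjective z
    obtain ⟨v, rfl⟩ := hsurj c
    refine ⟨hMap k β 0 v, ?_⟩
    rw [← LinearMap.comp_apply, ← hMap_comp, ← hsq, hMap_comp]
    rfl

omit [X.Over (Spec (CommRingCat.of k))] [IsProper (X ↘ Spec (CommRingCat.of k))] [IsIntegral X] in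
/-- The symmetry of the square of two sections of a twist of `O`. -/
theorem twist_comm (hL : PicF.IsInvertible L) (σ τ : Γ(CohB1.tensorMod (structureModule X) L, ⊤)) :
    homOfSection σ ≫ twMap L (homOfSection τ) = homOfSection τ ≫ twMap L (homOfSection σ) := by
  refine hom_structure_ext ?_
  simp only [Scheme.Modules.Hom.comp_app, ConcreteCategory.comp_apply, homOfSection_one]
  obtain ⟨U, e, -, -, he, hcov⟩ := Groth.PropsBasic.Ample.exists_gen_cover hL
  refine res_ext U (fun _ => le_top) hcov.ge fun x => ?_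
  obtain ⟨c, hc⟩ := ((gen_oneSec (U x)).tensor (he x)).exists_coeff le_rfl
    (res (CohB1.tensorMod (structureModule X) L) le_top σ)
  obtain ⟨d, hd⟩ := ((gen_oneSec (U x)).tensor (he x)).exists_coeff le_rfl
    (res (CohB1.tensorMod (structureModule X) L) le_top τ)
  rw [res_self] at hc hd
  have key : ∀ (ρ : Γ(CohB1.tensorMod (structureModule X) L, ⊤)) (r : Γ(X, U x))
      (_ : res (CohB1.tensorMod (structureModule X) L) le_top ρ = r • tmulSec (oneSec X (U x)) (e x)),
      (homOfSection ρ).app (U x) (oneSec X (U x)) = r • tmulSec (oneSec X (U x)) (e x) := by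
    intro ρ r hr
    refine (congrArg _ (res_oneSec (le_top : U x ≤ ⊤)).symm).trans ?_
    rw [app_res, homOfSection_one]
    exact hr
  have hmap : ∀ (ρ η : Γ(CohB1.tensorMod (structureModule X) L, ⊤)) (r s : Γ(X, U x))
      (_ : res (CohB1.tensorMod (structureModule X) L) le_top ρ = r • tmulSec (oneSec X (U x)) (e x))
      (_ : res (CohB1.tensorMod (structureModule X) L) le_top η = s • tmulSec (oneSec X (U x)) (e x)),
      res (CohB1.tensorMod (CohB1.tensorMod (structureModule X) L) L) (le_top : U x ≤ ⊤)
          ((twMap L (homOfSection η)).app ⊤ ρ) =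
        (r * s) • (tmulSec (tmulSec (oneSec X (U x)) (e x)) (e x) :
          Γ(CohB1.tensorMod (CohB1.tensorMod (structureModule X) L) L, U x)) := by
    intro ρ η r s hr hs
    rw [← app_res]
    refine (congrArg ((twMap L (homOfSection η)).app (U x)) hr).trans ?_
    rw [Scheme.Modules.Hom.app_smul]
    refine (congrArg (r • ·) ((tensorRightMod_map_tmulSec L (homOfSection η) (U x) _ _).trans
      ((congrArg (fun z => tmulSec z (e x)) (key η s hs)).trans (tmulSec_smul_left s _ _)))).trans ?_
    exact smul_smul r s _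
  exact (hmap σ τ c d hc hd).trans ((congrArg (· • _) (mul_comm c d)).trans (hmap τ σ d c hd hc).symm)

include hdim in
/-- A section `σ` of a twist of `O` whose cokernel is stable under twisting, the isomorphism being
induced by a second section `τ`, and surjected on by sections. -/
theorem exists_pencil_iso (h0 : Module.finrank k (HH X (structureModule X) 0) = 1) (hL : PicF.IsInvertible L)
    (d : ℕ) (hdeg : Curv2.deg k X (CohB1.tensorMod (structureModule X) L) 1 = d)
    (hh : Module.finrank k (HH X (CohB1.tensorMod (structureModule X) L) 0) = d + 1) :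
    ∃ (σ τ : Γ(CohB1.tensorMod (structureModule X) L, ⊤)) (C : X.Modules)
      (π : CohB1.tensorMod (structureModule X) L ⟶ C) (γ : C ⟶ CohB1.tensorMod C L)
      (w : homOfSection σ ≫ π = 0), (ShortComplex.mk (homOfSection σ) π w).ShortExact ∧
      IsCoh C ∧ SupportedAtClosed C ∧ Curv2.euler k X C = d ∧ IsIso γ ∧
      π ≫ γ = twMap L (homOfSection τ) ≫ twMap L π ∧ Function.Surjective (hMap k π 0) := by
  classical
  have := isNoetherian_of_proper k X
  have := (isCoh_of_isInvertible hL).1
  set O := structureModule X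
  have hO : PicF.IsInvertible O := isInvertible_structureModule X
  have hTO : PicF.IsInvertible (CohB1.tensorMod O L) := isInvertible_tensorMod hO hL
  have hfin := finite_HH k X (isCoh_of_isInvertible hTO) 0
  obtain ⟨v, hv⟩ : ∃ v : HH X (CohB1.tensorMod O L) 0, v ≠ 0 := by
    have : Nontrivial (HH X (CohB1.tensorMod O L) 0) := Module.nontrivial_of_finrank_pos (R := k) (by omega)
    exact exists_ne 0
  let σ := h0Equiv k _ v
  let a : O ⟶ CohB1.tensorMod O L := homOfSection σ
  have ha : a ≠ 0 := fun h => hv ((h0Equiv k _).map_eq_zero_iff.1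
    (by rw [← homOfSection_one (h0Equiv k _ v), show homOfSection (h0Equiv k _ v) = 0 from h]; rfl))
  have := mono_of_ne_zero hO hTO ha
  have hS : (ShortComplex.mk a (cokernel.π a) (cokernel.condition a)).ShortExact :=
    { exact := ShortComplex.exact_cokernel a }
  let C := cokernel a
  have hC : IsCoh C := by
    have := (isCoh_of_isInvertible hO).1
    exact Groth.QCohMod.isCoh_cokernel a (isCoh_of_isInvertible hTO)
  have := hC.1
  have hCs : SupportedAtClosed C := supportedAtClosed_cokernel hO hTO ha hdim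
  have hχ : Curv2.euler k X C = d := by
    rw [← deg_sub_eq_euler_cokernel hO hTO ha k, hdeg, Curv2.deg]
    simp [O]
  -- surjectivity on sections
  have hsurj : Function.Surjective (hMap k (cokernel.π a) 0) := by
    have := finite_HH k X hC 0
    have := finite_HH k X (isCoh_of_isInvertible hO) 0
    rw [euler_eq_h0 k hCs] at hχ
    have hi : Function.Injective (hMap k a 0) := hMap_injective_zero_of_mono k a
    have e1 := (hMap k (cokernel.π a) 0).finrank_range_add_finrank_ker
    have hex : Function.Exact (hMap k a 0) (hMap k (cokernel.π a) 0) :=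
      exact_mid k (S := ShortComplex.mk a (cokernel.π a) (cokernel.condition a)) hS 0
    rw [LinearMap.exact_iff.1 hex, LinearMap.finrank_range_of_inj hi, h0, hh] at e1
    have hd0 : Module.finrank k (HH X (cokernel a) 0) = d := by exact_mod_cast hχ
    exact LinearMap.range_eq_top.1 (Submodule.eq_top_of_finrank_eq (by omega))
  -- a section generating along the support
  have hfinS := finite_support_and_isClosed hCs hC
  choose U e hxU he using (isInvertible_iff_exists_gen _).1 hTO
  let tgt : ∀ x : X, C.presheaf.stalk x := fun x =>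
    C.presheaf.germ (U x) x (hxU x) ((cokernel.π a).app (U x) (e x))
  have hsub : ∀ x ∉ hfinS.toFinset, Subsingleton (C.presheaf.stalk x) := fun x hx =>
    not_not.1 fun h => hx (hfinS.mem_toFinset.2 h)
  obtain ⟨c, hc⟩ := (Groth.DegMono.germs_bijective C hfinS.toFinset
    (fun x hx => hCs x (hfinS.mem_toFinset.1 hx)) hsub).2 fun x => tgt x
  obtain ⟨v', hv'⟩ := hsurj ((h0Equiv k C).symm c)
  let τ := h0Equiv k _ v'
  have hτ : (cokernel.π a).app ⊤ τ = c := by
    rw [← h0Equiv_hMap, hv', LinearEquiv.apply_symm_apply]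
  have hgen : ∀ x ∈ CohB1.support C, x ∈ Groth.PropsBasic.Ample.gloc τ := by
    intro x hx
    by_contra hnot
    refine hx (subsingleton_of_forall_eq 0 fun z => ?_)
    obtain ⟨r, hr⟩ := (he x).exists_coeff le_rfl (res _ le_top τ)
    rw [res_self] at hr
    have hru : IsUnit (X.presheaf.germ (U x) x (hxU x) (1 - r)) := by
      rcases IsLocalRing.isUnit_or_isUnit_one_sub_self (X.presheaf.germ (U x) x (hxU x) r) with h | h
      · exact absurd (show x ∈ Groth.PropsBasic.Ample.gloc τ ⊓ U x by
          rw [Groth.PropsBasic.Ample.gloc_inf_eq_basicOpen (he x) hr, X.mem_basicOpen r x (hxU x)]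
          exact h).1 hnot
      · rwa [map_sub, map_one]
    have hgerm : C.presheaf.germ (U x) x (hxU x) ((cokernel.π a).app (U x) (res _ le_top τ)) =
        C.presheaf.germ (U x) x (hxU x) ((cokernel.π a).app (U x) (e x)) := by
      rw [app_res, hτ]
      refine (Groth.QCohMod.germ_res C (le_top : U x ≤ ⊤) x (hxU x) c).trans ?_
      exact congrFun hc ⟨x, hfinS.mem_toFinset.2 hx⟩
    obtain ⟨W, hxW, i₁, i₂, hW⟩ := TopCat.Presheaf.germ_eq C.presheaf x (hxU x) (hxU x) _ _ hgerm
    rw [res_def, res_def, hr, Scheme.Modules.Hom.app_smul, res_smul] at hW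
    let W' : X.Opens := W ⊓ X.basicOpen (1 - r)
    have hxW' : x ∈ W' := ⟨hxW, (X.mem_basicOpen _ x (hxU x)).2 hru⟩
    have hW'U : W' ≤ U x := inf_le_left.trans i₁.le
    have hzero : res C hW'U ((cokernel.π a).app (U x) (e x)) = 0 := by
      have h1 := congrArg (res C (inf_le_left : W' ≤ W)) hW
      simp only [res_smul, res_res, resX_resX] at h1
      have h2 : resX X hW'U (1 - r) • res C hW'U ((cokernel.π a).app (U x) (e x)) = 0 := by
        rw [map_sub, map_one, sub_smul, one_smul, h1, sub_self]
      have hu : IsUnit (resX X hW'U (1 - r)) := by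
        rw [← resX_resX (X.basicOpen_le (1 - r)) (inf_le_right : W' ≤ X.basicOpen (1 - r))]
        exact (RingedSpace.isUnit_res_basicOpen X.toRingedSpace (1 - r)).map _
      exact (hu.smul_eq_zero).1 h2
    obtain ⟨z', rfl⟩ := ((Groth.QCohMod.epi_iff_stalk (cokernel.π a)).1 inferInstance x) z
    obtain ⟨V, hxV, m, rfl⟩ := Groth.QCohMod.exists_germ (CohB1.tensorMod O L) x z'
    obtain ⟨q, hq⟩ := (he x).exists_coeff (inf_le_right.trans hW'U : V ⊓ W' ≤ U x)
      (res _ (inf_le_left : V ⊓ W' ≤ V) m)
    rw [Groth.QCohMod.stalk_map_germ]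
    refine ((Groth.QCohMod.germ_res C (inf_le_left : V ⊓ W' ≤ V) x ⟨hxV, hxW'⟩ _).symm).trans ?_
    rw [show Groth.QCohMod.res C (inf_le_left : V ⊓ W' ≤ V) ((cokernel.π a).app V m) = 0 by
      show res C _ ((cokernel.π a).app V m) = 0
      rw [← app_res, hq, Scheme.Modules.Hom.app_smul, app_res,
        ← res_res hW'U (inf_le_right : V ⊓ W' ≤ W'), hzero, res_zero, smul_zero]]
    exact map_zero _
  -- the twisting isomorphism of the cokernel
  let b : O ⟶ CohB1.tensorMod O L := homOfSection τ
  have hcomm : a ≫ twMap L b = b ≫ twMap L a := twist_comm hL σ τ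
  let γ : C ⟶ CohB1.tensorMod C L := cokernel.desc a (twMap L b ≫ twMap L (cokernel.π a)) (by
    rw [← Category.assoc, hcomm, Category.assoc, ← twMap_comp, cokernel.condition,
      twMap_zero, comp_zero])
  have hsq : cokernel.π a ≫ γ = twMap L b ≫ twMap L (cokernel.π a) := cokernel.π_desc _ _ _
  have hTC : IsCoh (CohB1.tensorMod C L) := isCoh_tensor hC (isCoh_of_isInvertible hL)
  have hsuppT : CohB1.support (CohB1.tensorMod C L) ⊆ CohB1.support C := fun x hx =>
    ((Groth.QCohMod.support_tensorMod C L hC.2 (isCoh_of_isInvertible hL).2).le hx).1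
  have hTπ : Epi (twMap L (cokernel.π a)) := (shortExact_twMap hL hS).epi_g
  have hK : IsCoh (cokernel b) := by
    have := (isCoh_of_isInvertible hO).1
    exact Groth.QCohMod.isCoh_cokernel b (isCoh_of_isInvertible hTO)
  have := hK.1
  have hepi : Epi γ := (Groth.QCohMod.epi_iff_stalk γ).2 fun x z => by
    by_cases hx : x ∈ CohB1.support C
    · obtain ⟨y, rfl⟩ := (Groth.QCohMod.epi_iff_stalk _).1 hTπ x z
      have hKx : Subsingleton ((cokernel b).presheaf.stalk x) := by
        refine subsingleton_of_forall_eq 0 fun q => ?_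
        obtain ⟨q', rfl⟩ := ((Groth.QCohMod.epi_iff_stalk (cokernel.π b)).1 inferInstance x) q
        obtain ⟨V, hxV, m, rfl⟩ := Groth.QCohMod.exists_germ (CohB1.tensorMod O L) x q'
        let W : X.Opens := V ⊓ Groth.PropsBasic.Ample.gloc τ
        obtain ⟨r, hr⟩ := (Groth.PropsBasic.Ample.gen_gloc τ (le_rfl :
          Groth.PropsBasic.Ample.gloc τ ≤ _)).exists_coeff (inf_le_right : W ≤ _)
          (res _ (inf_le_left : W ≤ V) m)
        rw [Groth.QCohMod.stalk_map_germ]
        refine ((Groth.QCohMod.germ_res (cokernel b) (inf_le_left : W ≤ V) x ⟨hxV, hgen x hx⟩ _).symm).trans ?_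
        rw [show Groth.QCohMod.res (cokernel b) (inf_le_left : W ≤ V) ((cokernel.π b).app V m) = 0 by
          show res (cokernel b) _ ((cokernel.π b).app V m) = 0
          rw [← app_res, hr, res_res, show res (CohB1.tensorMod O L) (le_top : W ≤ ⊤) τ = b.app W (oneSec X W) by
            rw [← res_oneSec (le_top : W ≤ ⊤), app_res, homOfSection_one], ← Scheme.Modules.Hom.app_smul]
          exact congrArg (fun φ : O ⟶ cokernel b => φ.app W (r • oneSec X W)) (cokernel.condition b)]
        exact map_zero _
      have hTK : Subsingleton ((CohB1.tensorMod (cokernel b) L).presheaf.stalk x) := not_not.1 fun h =>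
        (((Groth.QCohMod.support_tensorMod (cokernel b) L hK.2 (isCoh_of_isInvertible hL).2).le h).1) hKx
      have := isEquivalence_tensorRightMod_of_isInvertible hL
      have hex0 : (ShortComplex.mk (twMap L b) (twMap L (cokernel.π b))
          (by rw [← twMap_comp, cokernel.condition, twMap_zero])).Exact :=
        (ShortComplex.exact_cokernel b).map (DCoh.tensorRightMod L)
      have hex := hex0.map (Groth.QCohMod.stalk x)
      rw [ShortComplex.ab_exact_iff] at hex
      obtain ⟨y', rfl⟩ := hex y (@Subsingleton.elim _ hTK _ _)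
      refine ⟨(Groth.QCohMod.stalk x).map (cokernel.π a) y', ?_⟩
      rw [← ConcreteCategory.comp_apply, ← Functor.map_comp, hsq, Functor.map_comp]
      rfl
    · have : Subsingleton ((CohB1.tensorMod C L).presheaf.stalk x) := not_not.1 fun h => hx (hsuppT h)
      exact ⟨0, @Subsingleton.elim _ this _ _⟩
  have hker : Mono γ := by
    have hS' : (ShortComplex.mk (kernel.ι γ) γ (kernel.condition γ)).ShortExact :=
      { exact := ShortComplex.exact_of_f_is_kernel _ (kernelIsKernel γ) }
    have := hTC.1
    have hKc : IsCoh (kernel γ) := Groth.QCohMod.isCoh_kernel γ hC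
    have hKs : SupportedAtClosed (kernel γ) := fun y hy => hCs y fun hs => hy
      (@Function.Injective.subsingleton _ _ _ ((Groth.QCohMod.mono_iff_stalk (kernel.ι γ)).1 inferInstance y) hs)
    have e := euler_add hS' (finCoh k X hKc) (finCoh k X hTC)
    change Curv2.euler k X C = Curv2.euler k X (kernel γ) +
      Curv2.euler k X (CohB1.tensorMod C L) at e
    rw [euler_tensor_of_supportedAtClosed k hC hCs (LocFree.isInvertible_iff_ofRank_one.mp hL),
      Nat.cast_one, one_mul] at e
    exact Preadditive.mono_of_kernel_zero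
      ((isZero_of_euler_nonpos k hKc hKs (by omega)).eq_of_src _ _)
  exact ⟨σ, τ, C, cokernel.π a, γ, cokernel.condition a, hS, hC, hCs, hχ, isIso_of_mono_of_epi γ,
    hsq, hsurj⟩

include hdim in
theorem level_zero (h0 : Module.finrank k (HH X (structureModule X) 0) = 1) (hL : PicF.IsInvertible L)
    (d : ℕ) (hdeg : Curv2.deg k X (CohB1.tensorMod (structureModule X) L) 1 = d)
    (hh : Module.finrank k (HH X (CohB1.tensorMod (structureModule X) L) 0) = d + 1) :
    Level k L d 0 := by
  obtain ⟨σ, τ, C, π, γ, w, hS, hC, hCs, hχ, hγ, hsq, hsurj⟩ :=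
    exists_pencil_iso k hdim h0 hL d hdeg hh
  exact ⟨structureModule X, C, homOfSection σ, π, twMap L (homOfSection τ), γ, w,
    isInvertible_structureModule X, by simp [Curv2.deg], rfl, hS, hC, hCs, hχ, hγ, hsq, hsurj⟩

include hdim in
/-- **`h⁰(L) = deg L + 1` with `deg L > 0` forces `g = 0`.** -/
theorem genus_eq_zero_of_h0_eq (h0 : Module.finrank k (HH X (structureModule X) 0) = 1)
    (hL : PicF.IsInvertible L) (hh : (Module.finrank k (HH X L 0) : ℤ) = Curv2.deg k X L 1 + 1)
    (hd : 0 < Curv2.deg k X L 1) : Curv2.genus k X = 0 := by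
  obtain ⟨d, hd'⟩ := Int.eq_ofNat_of_zero_le hd.le
  obtain ⟨e, -⟩ := exists_leftUnitor L
  have hdeg : Curv2.deg k X (CohB1.tensorMod (structureModule X) L) 1 = d :=
    (deg_congr (k := k) e 1).trans hd'
  have hh' : Module.finrank k (HH X (CohB1.tensorMod (structureModule X) L) 0) = d + 1 := by
    have h := finrank_congr (k := k) e 0
    rw [hd'] at hh
    show Module.finrank k (HH X (CohB1.tensorMod (structureModule X) L) 0) = d + 1
    omega
  have hall : ∀ n, Level k L d n := by
    intro n
    induction n with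
    | zero => exact level_zero k hdim h0 hL d hdeg hh'
    | succ n ih => exact level_succ k hL ih
  obtain ⟨M, C, -, -, -, -, -, hM, hdegM, hh1, -⟩ := hall (2 * Curv2.genus k X)
  have hd1 : 1 ≤ d := by omega
  have := subsingleton_h1_of_deg_ge k hdim h0 hM (by
    rw [hdegM]
    have : 2 * Curv2.genus k X ≤ 2 * Curv2.genus k X * d := Nat.le_mul_of_pos_right _ hd1
    omega)
  rw [← hh1]
  exact finrank_eq_zero_of_subsingleton this

end Groth.Curves1.RR
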