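import Mathlib
import Groth.Agent.Curves1.RR.GlobGen
import Groth.Agent.Curves1.RR.Powers
import Groth.Agent.Chow.ExtendSec
import Groth.Agent.Chow.ProjSpaceImm
import Groth.Agent.VarietyBC.CurveAffine
import Groth.Agent.PicAux.FreeBasis

/-!
# Genus zero curves embed by invertible modules of positive degree

For an integral proper curve with `h⁰(O) = 1` and `g = 0`, an invertible module of degree `d > 0`
has `d + 1` independent sections and these give a closed immersion into `P^d`.
-/

set_option linter.style.haveILetI false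

universe u

open CategoryTheory Limits AlgebraicGeometry Coh TopologicalSpace Opposite

namespace Groth.Curves1.RR

open Groth.EulerDeg Groth.PicAux Groth.ModelsGraphs.DualExtend Groth.PropsBasic.Ample

attribute [local instance] secModule

section Loci

variable {X : Scheme.{u}} [IsIntegral X] {L : X.Modules}

/-- A non-zero section of an invertible module generates at the generic point. -/
theorem genericPoint_mem_gloc (hL : PicF.IsInvertible L) {t : Γ(L, ⊤)} (ht : t ≠ 0) :
    genericPoint X ∈ gloc t := by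
  obtain ⟨U, e, -, -, he, hcov⟩ := Groth.PropsBasic.Ample.exists_gen_cover hL
  by_contra hη
  have hbot : gloc t = ⊥ := by
    by_contra hne
    obtain ⟨y, hy⟩ := SetLike.coe_injective.ne_iff.2 hne |> Set.nonempty_iff_ne_empty.2
    exact hη ((genericPoint_specializes y).mem_open (gloc t).isOpen hy)
  refine ht (res_ext U (fun _ => le_top) hcov.ge fun x => ?_)
  obtain ⟨c, hc⟩ := (he x).exists_coeff le_rfl (res L le_top t)
  rw [res_self] at hc
  have h := gloc_inf_eq_basicOpen (he x) hc
  rw [hbot, bot_inf_eq] at h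
  rw [hc, (basicOpen_eq_bot_iff c).1 h.symm, zero_smul, res_zero]

variable (k : Type u) [Field k] [X.Over (Spec (CommRingCat.of k))]

omit [IsIntegral X] in
/-- A module with a nowhere vanishing section has degree zero. -/
theorem deg_eq_zero_of_gloc_eq_top {t : Γ(L, ⊤)} (h : gloc t = ⊤) : Curv2.deg k X L 1 = 0 := by
  have hg : Gen L ⊤ t := by
    have := gen_gloc t (V := ⊤) h.ge
    rwa [res_self] at this
  have hU : iSup (fun _ : PUnit.{u + 1} => (⊤ : X.Opens)) = ⊤ := iSup_const
  obtain ⟨e, -⟩ := exists_iso_of_gen hU (fun _ => oneSec X ⊤) (fun _ => gen_oneSec _) (fun _ => t)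
    (fun _ => hg) (fun i j r hr => by
      rw [res_oneSec] at hr
      rw [← (gen_oneSec (⊤ ⊓ ⊤ : X.Opens)).smul_inj le_rfl (r := (1 : Γ(X, ⊤ ⊓ ⊤))) (r' := r)
        (by simpa using hr), one_smul])
  rw [← deg_congr (k := k) e 1]
  simp [Curv2.deg]

end Loci

section Embedding

variable (k : Type u) [Field k] {X : Scheme.{u}} [X.Over (Spec (CommRingCat.of k))]
  [IsIntegral X] [IsProper (X ↘ Spec (CommRingCat.of k))] (hdim : topologicalKrullDim X ≤ 1)
  (L : X.Modules) {m : ℕ} (s : Fin (m + 1) → Γ(L, ⊤))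

/-- The functions on a chart obtained from the constants and the ratios of the sections. -/
noncomputable def ratioRing (i : Fin (m + 1)) : Subring Γ(X, gloc (s i)) :=
  Subring.closure (Set.range ((X ↘ Spec (CommRingCat.of k)).appLE ⊤ (gloc (s i)) le_top) ∪
    {g | ∃ j, res L (le_top : gloc (s i) ≤ ⊤) (s j) = g • res L (le_top : gloc (s i) ≤ ⊤) (s i)})

/-- The generator of the `n`-th power on a chart. -/
noncomputable def gen (i : Fin (m + 1)) (n : ℕ) : Γ(CohB1.tensorPow L n, gloc (s i)) :=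
  powSec (res L le_top (s i)) n

/-- A map of consecutive powers multiplies coordinates by functions of the chart rings. -/
def Good (n : ℕ) (φ : CohB1.tensorPow L n ⟶ CohB1.tensorPow L (n + 1)) : Prop :=
  ∀ i, ∃ r ∈ ratioRing k L s i, φ.app (gloc (s i)) (gen L s i n) = r • gen L s i (n + 1)

/-- All sections of the `n`-th power have coordinates in the chart rings. -/
def Spanned (n : ℕ) : Prop :=
  ∀ (v : Γ(CohB1.tensorPow L n, ⊤)) (i : Fin (m + 1)),
    ∃ r ∈ ratioRing k L s i, res _ le_top v = r • gen L s i n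

variable {L s}

omit [IsIntegral X] [IsProper (X ↘ Spec (CommRingCat.of k))] in
theorem good_twMap {n : ℕ} {φ : CohB1.tensorPow L n ⟶ CohB1.tensorPow L (n + 1)}
    (h : Good k L s n φ) : Good k L s (n + 1) (twMap L φ) := by
  intro i
  obtain ⟨r, hr, e⟩ := h i
  refine ⟨r, hr, ?_⟩
  refine (twMap_tmulSec φ _ (gen L s i n) (res L le_top (s i))).trans ?_
  rw [e]
  exact tmulSec_smul_left r _ _

omit [IsIntegral X] [IsProper (X ↘ Spec (CommRingCat.of k))] in
theorem good_homOfSection (h : Spanned k L s 1) (σ : Γ(CohB1.tensorPow L 1, ⊤)) :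
    Good k L s 0 (homOfSection σ) := by
  intro i
  obtain ⟨r, hr, e⟩ := h σ i
  refine ⟨r, hr, ?_⟩
  refine (congrArg _ (res_oneSec (le_top : gloc (s i) ≤ ⊤)).symm).trans ?_
  exact ((app_res _ _ _).trans (congrArg (res _ le_top) (homOfSection_one σ))).trans e

omit [IsIntegral X] [IsProper (X ↘ Spec (CommRingCat.of k))] in
theorem toSec_mem_ratioRing (i : Fin (m + 1)) (a : k) :
    toSec k (gloc (s i)) a ∈ ratioRing k L s i :=
  Subring.subset_closure (Or.inl ⟨(Scheme.ΓSpecIso (CommRingCat.of k)).inv a, rfl⟩)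

omit [IsIntegral X] [IsProper (X ↘ Spec (CommRingCat.of k))] in
theorem spanned_zero (h0 : Module.finrank k (HH X (structureModule X) 0) = 1)
    (hne : oneSec X (⊤ : X.Opens) ≠ 0) : Spanned k L s 0 := by
  intro v i
  have h1 : Module.finrank k Γ(structureModule X, ⊤) = 1 :=
    (h0Equiv k (structureModule X)).finrank_eq.symm.trans h0
  obtain ⟨a, ha⟩ := (finrank_eq_one_iff_of_nonzero' _ hne).1 h1 v
  refine ⟨_, toSec_mem_ratioRing k i a, ?_⟩
  refine (congrArg (res (structureModule X) (le_top : gloc (s i) ≤ ⊤)) ha.symm).trans ?_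
  rw [smul_sec, res_smul, toSec_res, res_oneSec]
  rfl

omit [IsIntegral X] [IsProper (X ↘ Spec (CommRingCat.of k))] in
theorem spanned_one (hspan : ∀ t : Γ(L, ⊤), t ∈ Submodule.span k (Set.range s)) :
    Spanned k L s 1 := by
  intro v i
  obtain ⟨e, he⟩ := exists_leftUnitor L
  have hgen : e.hom.app (gloc (s i)) (gen L s i 1) = res L le_top (s i) :=
    (he _ (oneSec X (gloc (s i))) (res L le_top (s i))).trans (by rw [toFun_oneSec, one_smul])
  obtain ⟨a, ha⟩ := (Submodule.mem_span_range_iff_exists_fun k).1 (hspan (e.hom.app ⊤ v))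
  choose c hc using fun l => (gen_gloc (s i) (le_refl (gloc (s i)))).exists_coeff le_rfl
    (res L le_top (s l))
  refine ⟨∑ l, toSec k (gloc (s i)) (a l) * c l, ?_, ?_⟩
  · exact Subring.sum_mem _ fun l _ => Subring.mul_mem _ (toSec_mem_ratioRing k i (a l))
      (Subring.subset_closure (Or.inr ⟨l, by simpa using hc l⟩))
  · obtain ⟨r, hr⟩ := ((gen_gloc (s i) (le_refl (gloc (s i)))).pow 1).exists_coeff le_rfl
      (res _ le_top v)
    rw [res_self] at hr
    have h1 : res L le_top (e.hom.app ⊤ v) = r • res L (le_top : gloc (s i) ≤ ⊤) (s i) := by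
      rw [← app_res]
      refine (congrArg (e.hom.app (gloc (s i))) hr).trans ?_
      refine (Scheme.Modules.Hom.app_smul _ _ _).trans ?_
      exact congrArg (r • ·) hgen
    rw [← ha, res_sum] at h1
    have h2 : ∀ l, res L (le_top : gloc (s i) ≤ ⊤) (a l • s l) =
        (toSec k (gloc (s i)) (a l) * c l) • res L (le_top : gloc (s i) ≤ ⊤) (s i) := by
      intro l
      rw [smul_sec, res_smul, toSec_res, hc l, res_self, smul_smul]
    rw [Finset.sum_congr rfl fun l _ => h2 l, ← Finset.sum_smul] at h1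
    rw [← (gen_gloc (s i) (le_refl (gloc (s i)))).smul_inj le_rfl
      (r := ∑ l, toSec k (gloc (s i)) (a l) * c l) (r' := r) (by simpa using h1)] at hr
    exact hr

variable (L s) in
/-- The inductive invariant: a twisting map of the cokernel of a map of consecutive powers. -/
def PowData (n : ℕ) : Prop :=
  ∃ (C : X.Modules) (a : CohB1.tensorPow L n ⟶ CohB1.tensorPow L (n + 1))
    (π : CohB1.tensorPow L (n + 1) ⟶ C) (β : CohB1.tensorPow L (n + 1) ⟶ CohB1.tensorPow L (n + 2))
    (γ : C ⟶ CohB1.tensorMod C L) (w : a ≫ π = 0), (ShortComplex.mk a π w).ShortExact ∧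
    IsIso γ ∧ π ≫ γ = β ≫ twMap L π ∧ Good k L s n a ∧ Good k L s (n + 1) β

omit [IsIntegral X] [IsProper (X ↘ Spec (CommRingCat.of k))] in
theorem powData_succ (hL : PicF.IsInvertible L) {n : ℕ} (h : PowData k L s n) :
    PowData k L s (n + 1) := by
  obtain ⟨C, a, π, β, γ, w, hS, hγ, hsq, ha, hβ⟩ := h
  exact ⟨CohB1.tensorMod C L, twMap L a, twMap L π, twMap L β, twMap L γ,
    (twMap_comp a π).symm.trans ((congrArg (twMap L) w).trans (twMap_zero _ _)),
    shortExact_twMap hL hS, inferInstance,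
    (twMap_comp π γ).symm.trans ((congrArg (twMap L) hsq).trans (twMap_comp β _)),
    good_twMap k ha, good_twMap k hβ⟩

omit [IsIntegral X] [IsProper (X ↘ Spec (CommRingCat.of k))] in
/-- Sections of a twist decompose along a short exact sequence with a twisting map. -/
theorem exists_decomp (k : Type u) [Field k] {X : Scheme.{u}} [X.Over (Spec (CommRingCat.of k))]
    {L : X.Modules} (hL : PicF.IsInvertible L) {A B C : X.Modules} {a : A ⟶ B} {π : B ⟶ C}
    {w : a ≫ π = 0} (hS : (ShortComplex.mk a π w).ShortExact) (hA : Subsingleton (HH X A 1))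
    (β : B ⟶ CohB1.tensorMod B L) (γ : C ⟶ CohB1.tensorMod C L) [IsIso γ]
    (hsq : π ≫ γ = β ≫ twMap L π) (v : Γ(CohB1.tensorMod B L, ⊤)) :
    ∃ (x : Γ(B, ⊤)) (y : Γ(CohB1.tensorMod A L, ⊤)),
      v = β.app ⊤ x + (twMap L a).app ⊤ y := by
  obtain ⟨c, hc⟩ : ∃ c : Γ(C, ⊤), γ.app ⊤ c = (twMap L π).app ⊤ v :=
    ⟨(inv γ).app ⊤ _, congr(($(IsIso.inv_hom_id γ)).app ⊤ ((twMap L π).app ⊤ v))⟩
  obtain ⟨x, hx⟩ := (exact_right k hS 0 ((h0Equiv k C).symm c)).1 (@Subsingleton.elim _ hA _ _)
  have hw : π.app ⊤ (h0Equiv k B x) = c := by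
    rw [← h0Equiv_hMap k π x]
    exact (congrArg (h0Equiv k C) hx).trans (LinearEquiv.apply_symm_apply _ _)
  have hker : (twMap L π).app ⊤ (v - β.app ⊤ (h0Equiv k B x)) = 0 := by
    rw [map_sub, sub_eq_zero, ← hc, ← hw]
    exact congr(($hsq).app ⊤ (h0Equiv k B x))
  obtain ⟨y, hy⟩ := (exact_mid k (shortExact_twMap hL hS) 0
      ((h0Equiv k _).symm (v - β.app ⊤ (h0Equiv k B x)))).1 ((h0Equiv k _).injective (by
        rw [map_zero]
        refine (h0Equiv_hMap k (twMap L π) _).trans ?_
        rw [LinearEquiv.apply_symm_apply]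
        exact hker))
  refine ⟨h0Equiv k B x, h0Equiv k _ y, ?_⟩
  have hu : (twMap L a).app ⊤ (h0Equiv k _ y) = v - β.app ⊤ (h0Equiv k B x) :=
    (h0Equiv_hMap k (twMap L a) y).symm.trans
      ((congrArg (h0Equiv k _) hy).trans (LinearEquiv.apply_symm_apply _ _))
  rw [hu]
  abel

omit [IsIntegral X] [IsProper (X ↘ Spec (CommRingCat.of k))] in
theorem spanned_step (hL : PicF.IsInvertible L) {n : ℕ} (h : PowData k L s n)
    (hH : Subsingleton (HH X (CohB1.tensorPow L n) 1)) (hn : Spanned k L s (n + 1)) :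
    Spanned k L s (n + 2) := by
  obtain ⟨C, a, π, β, γ, w, hS, hγ, hsq, ha, hβ⟩ := h
  intro v i
  obtain ⟨x, y, hv⟩ := exists_decomp k hL hS hH β γ hsq v
  obtain ⟨r₁, hr₁, e₁⟩ := hn x i
  obtain ⟨r₂, hr₂, e₂⟩ := hn y i
  obtain ⟨rb, hrb, eb⟩ := hβ i
  obtain ⟨ra, hra, ea⟩ := good_twMap k ha i
  refine ⟨r₁ * rb + r₂ * ra, Subring.add_mem _ (Subring.mul_mem _ hr₁ hrb)
    (Subring.mul_mem _ hr₂ hra), ?_⟩
  have hb : res (CohB1.tensorPow L (n + 2)) (le_top : gloc (s i) ≤ ⊤) (β.app ⊤ x) =
      (r₁ * rb) • gen L s i (n + 2) := by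
    refine (app_res β _ x).symm.trans ((congrArg (β.app _) e₁).trans ?_)
    exact (Scheme.Modules.Hom.app_smul _ _ _).trans ((congrArg (r₁ • ·) eb).trans (smul_smul _ _ _))
  have ha' : res (CohB1.tensorPow L (n + 2)) (le_top : gloc (s i) ≤ ⊤) ((twMap L a).app ⊤ y) =
      (r₂ * ra) • gen L s i (n + 2) := by
    refine (app_res (twMap L a) _ y).symm.trans ((congrArg ((twMap L a).app _) e₂).trans ?_)
    exact (Scheme.Modules.Hom.app_smul _ _ _).trans ((congrArg (r₂ • ·) ea).trans (smul_smul _ _ _))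
  rw [add_smul]
  exact (congrArg (res _ le_top) hv).trans ((res_add _ _ _).trans (congrArg₂ (· + ·) hb ha'))

include hdim in
theorem spanned (h0 : Module.finrank k (HH X (structureModule X) 0) = 1)
    (hg : Curv2.genus k X = 0) (hL : PicF.IsInvertible L) (d : ℕ)
    (hdeg : Curv2.deg k X L 1 = d)
    (hh : Module.finrank k (HH X L 0) = d + 1)
    (hspan : ∀ t : Γ(L, ⊤), t ∈ Submodule.span k (Set.range s)) (n : ℕ) : Spanned k L s n := by
  have hne : oneSec X (⊤ : X.Opens) ≠ 0 := fun h =>
    one_ne_zero (α := Γ(X, ⊤)) (congrArg toFun h)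
  obtain ⟨e, -⟩ := exists_leftUnitor L
  have hdeg1 : Curv2.deg k X (CohB1.tensorMod (structureModule X) L) 1 = d :=
    (deg_congr (k := k) e 1).trans hdeg
  have hh1 : Module.finrank k (HH X (CohB1.tensorMod (structureModule X) L) 0) = d + 1 :=
    (finrank_congr (k := k) e 0).trans hh
  have hpow : ∀ n, Curv2.deg k X (CohB1.tensorPow L n) 1 = (n * d : ℕ) := by
    intro n
    induction n with
    | zero => simp [Curv2.deg, CohB1.tensorPow]
    | succ n ih =>
      refine (deg_tensor_invertible k hdim (isInvertible_tensorPow hL n) hL).trans ?_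
      rw [ih, hdeg]
      push_cast
      ring
  have hH : ∀ n, Subsingleton (HH X (CohB1.tensorPow L n) 1) := fun n =>
    subsingleton_h1_of_deg_ge k hdim h0 (isInvertible_tensorPow hL n) (by rw [hg, hpow]; omega)
  obtain ⟨σ, τ, C, π, γ, w, hS, -, -, -, hγ, hsq, -⟩ :=
    exists_pencil_iso k hdim h0 hL d hdeg1 hh1
  have h1 : Spanned k L s 1 := spanned_one k hspan
  have hD : ∀ n, PowData k L s n := by
    intro n
    induction n with
    | zero => exact ⟨C, homOfSection σ, π, twMap L (homOfSection τ), γ, w, hS, hγ, hsq,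
        good_homOfSection k h1 σ, good_twMap k (good_homOfSection k h1 τ)⟩
    | succ n ih => exact powData_succ k hL ih
  have hall : ∀ n, Spanned k L s (n + 1) := by
    intro n
    induction n with
    | zero => exact h1
    | succ n ih => exact spanned_step k hL (hD n) (hH n) ih
  cases n with
  | zero => exact spanned_zero k h0 hne
  | succ n => exact hall n

include hdim in
/-- The chart rings are the rings of functions. -/
theorem ratioRing_eq_top (h0 : Module.finrank k (HH X (structureModule X) 0) = 1)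
    (hg : Curv2.genus k X = 0) (hL : PicF.IsInvertible L) (d : ℕ)
    (hdeg : Curv2.deg k X L 1 = d)
    (hh : Module.finrank k (HH X L 0) = d + 1)
    (hspan : ∀ t : Γ(L, ⊤), t ∈ Submodule.span k (Set.range s)) (i : Fin (m + 1)) :
    ratioRing k L s i = ⊤ := by
  have := isNoetherian_of_proper k X
  refine top_le_iff.1 fun f _ => ?_
  obtain ⟨n, hn⟩ := Groth.Chow.exists_extend_sec (isInvertible_structureModule X) hL (s i)
    (f • oneSec X (gloc (s i)))
  obtain ⟨b, hb⟩ := hn n le_rfl
  obtain ⟨e, he⟩ := exists_leftUnitor (CohB1.tensorPow L n)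
  obtain ⟨r, hr, hv⟩ := spanned k hdim h0 hg hL d hdeg hh hspan n (e.hom.app ⊤ b) i
  rw [← app_res, hb, he, toFun_smul, toFun_oneSec, mul_one] at hv
  rw [((gen_gloc (s i) (le_refl (gloc (s i)))).pow n).smul_inj le_rfl
    (r := f) (r' := r) (by simpa [gen] using hv)]
  exact hr

include hdim in
/-- **Genus zero curves embed by invertible modules of positive degree.** -/
theorem exists_closedImmersion_of_genus_zero (h0 : Module.finrank k (HH X (structureModule X) 0) = 1)
    (hg : Curv2.genus k X = 0) (L : X.Modules) (hL : PicF.IsInvertible L) (d : ℕ) (hd : 0 < d)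
    (hdeg : Curv2.deg k X L 1 = d) :
    ∃ i : X ⟶ CohB1.ProjSpace d k, IsClosedImmersion i ∧
      i ≫ CohB1.ProjSpace.toSpec d k = X ↘ (Spec (CommRingCat.of k)) ∧
      Nonempty ((Scheme.Modules.pullback i).obj (Twist.twistProjSpace d k 1) ≅ L) := by
  classical
  have := isNoetherian_of_proper k X
  have hh : Module.finrank k (HH X L 0) = d + 1 := by
    have h1 := subsingleton_h1_of_deg_ge k hdim h0 hL (by rw [hg, hdeg]; omega)
    have e := euler_eq k hdim h0 (L := L)
    rw [euler_eq_h0_sub_h1 k X hdim L, finrank_eq_zero_of_subsingleton h1,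
      hdeg, hg] at e
    omega
  haveI := finite_HH k X (isCoh_of_isInvertible hL) 0
  let B := (Module.finBasisOfFinrankEq k (HH X L 0) hh).map (h0Equiv k L)
  let s : Fin (d + 1) → Γ(L, ⊤) := fun i => B i
  have hspan : ∀ t : Γ(L, ⊤), t ∈ Submodule.span k (Set.range s) := fun t => B.mem_span t
  have hne : ∀ i, genericPoint X ∈ gloc (s i) := fun i => genericPoint_mem_gloc hL (B.ne_zero i)
  have haff : ∀ i, IsAffineOpen (gloc (s i)) := fun i =>
    Groth.VarietyBC.CurveAffine.isAffineOpen_gloc k hdim hL (s i) (hne i) fun h => by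
      have := deg_eq_zero_of_gloc_eq_top k h
      omega
  let q : X ⟶ Spec (CommRingCat.of k) := X ↘ Spec (CommRingCat.of k)
  have hU : ⨆ j, Groth.Chow.ToPn.U L s j = ⊤ := by
    refine top_le_iff.1 fun y _ => ?_
    haveI := Groth.EulerDeg.compactSpace_of_proper k X
    obtain ⟨x, hx, hxc⟩ := IsClosed.exists_closed_singleton (isClosed_closure (s := ({y} : Set X)))
      ⟨y, subset_closure rfl⟩
    obtain ⟨t, ht⟩ := exists_mem_gloc k hdim hL (by rw [hg, hh]; omega) hxc
    suffices ∃ j, x ∈ gloc (s j) by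
      obtain ⟨j, hj⟩ := this
      exact Opens.mem_iSup.2 ⟨j, (specializes_iff_mem_closure.2 hx).mem_open (gloc (s j)).isOpen hj⟩
    by_contra hall
    push Not at hall
    obtain ⟨W, e, -, hxW, he⟩ := exists_affine_gen_mem hL x
    choose a ha using fun j => he.exists_coeff le_rfl (res L (le_top : W ≤ ⊤) (s j))
    replace ha : ∀ j, res L (le_top : W ≤ ⊤) (s j) = a j • e := fun j => by simpa using ha j
    obtain ⟨c, hc⟩ := (Submodule.mem_span_range_iff_exists_fun k).1 (hspan t)
    have ht' : res L (le_top : W ≤ ⊤) t =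
        (∑ j, toSec k W (c j) * a j) • e := by
      rw [← hc, res_sum, Finset.sum_smul]
      refine Finset.sum_congr rfl fun j _ => ?_
      rw [smul_sec, res_smul, toSec_res, ha, smul_smul]
    have h1 : X.presheaf.germ W x hxW (∑ j, toSec k W (c j) * a j) ∈
        IsLocalRing.maximalIdeal (X.presheaf.stalk x) := by
      rw [map_sum]
      refine Ideal.sum_mem _ fun j _ => ?_
      rw [map_mul]
      refine Ideal.mul_mem_left _ _ ((IsLocalRing.mem_maximalIdeal _).2 fun hu => hall j ?_)
      exact ((gloc_inf_eq_basicOpen he (ha j)).ge ((X.mem_basicOpen (a j) x hxW).2 hu)).1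
    exact (IsLocalRing.mem_maximalIdeal _).1 h1
      ((X.mem_basicOpen _ x hxW).1 ((gloc_inf_eq_basicOpen he ht').le ⟨ht, hxW⟩))
  obtain ⟨r, hr⟩ : ∃ r : X ⟶ Proj (CohB1.polyGrading d k),
      ∀ i, (Groth.Chow.ToPn.U L s i).ι ≫ r = Groth.Chow.ToPn.rU q L s i :=
    Groth.Chow.ToPn.exists_r q L s hU
  have hq : r ≫ CohB1.ProjSpace.toSpec d k = q := Groth.Chow.ToPn.r_toSpec hr hU
  haveI : IsImmersion r := Groth.Chow.isImmersion_r hr hU id (fun i => gloc (s i)) (fun _ => rfl)
    haff (fun y => Opens.mem_iSup.1 (hU.ge (Set.mem_univ y)))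
    fun i => ratioRing_eq_top k hdim h0 hg hL d hdeg hh hspan i
  haveI : IsSeparated (CohB1.ProjSpace.toSpec d k) := by
    exact MorphismProperty.comp_mem _ (Proj.toSpecZero (CohB1.polyGrading d k)) _ inferInstance
      inferInstance
  haveI : IsProper (r ≫ CohB1.ProjSpace.toSpec d k) := by
    rw [hq]; exact inferInstanceAs (IsProper (X ↘ Spec (CommRingCat.of k)))
  haveI : IsProper r := IsProper.of_comp r (CohB1.ProjSpace.toSpec d k)
  obtain ⟨τ, -⟩ := Groth.Chow.ToPn.exists_tau hr hU
  have hc : IsClosedImmersion r := .of_isPreimmersion _ r.isClosedMap.isClosed_range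
  exact ⟨r, hc, hq, ⟨τ⟩⟩

end Embedding

end Groth.Curves1.RR
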