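import Mathlib
import Groth.Agent.Curves1.RR.GlobGen
import Groth.Agent.CohTwo.FiniteSum
import Groth.Agent.PicAux.FreeBasis
import Groth.Agent.VarietyBC.BC

/-!
# Submodules of invertible modules with many sections are generated by them
-/

set_option linter.style.haveILetI false
set_option backward.isDefEq.respectTransparency.types false

universe u

open CategoryTheory Limits AlgebraicGeometry Coh TopologicalSpace Opposite

namespace Groth.Curves1.RR

open Groth.EulerDeg Groth.PicAux Groth.PropsBasic.Ample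
open Groth.CohTwo (powMod powProj powProj_total stalkLin stalkLin_germ stalkLin_sum stalkLin_comp stalkLin_id)

attribute [local instance] secModule

/-- The germ of a section of `homOfSection s`. -/
theorem stalkLin_homOfSection_mem {X : Scheme.{u}} {M : X.Modules} (s : Γ(M, ⊤)) (x : X)
    (u : (structureModule X).presheaf.stalk x) :
    stalkLin (homOfSection s) x u ∈
      Submodule.span (X.presheaf.stalk x) {M.presheaf.germ ⊤ x trivial s} := by
  obtain ⟨U, hU, a, rfl⟩ := Groth.QCohMod.exists_germ (structureModule X) x u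
  refine Submodule.mem_span_singleton.2 ⟨X.presheaf.germ U x hU (toFun a), ?_⟩
  change _ = stalkLin (homOfSection s) x ((structureModule X).presheaf.germ U x hU a)
  rw [stalkLin_germ, hom_structure_apply (homOfSection s) U a, homOfSection_one]
  refine Eq.trans ?_ (Groth.QCohMod.germ_smul M x hU (toFun a) (res M le_top s)).symm
  exact congrArg _ (Groth.QCohMod.germ_res M (le_top : U ≤ ⊤) x hU s).symm

/-- A generator has no torsion in the stalks. -/
theorem gen_germ_smul_inj {X : Scheme.{u}} {L : X.Modules} {U : X.Opens} {e : Γ(L, U)}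
    (he : Gen L U e) {y : X} (hy : y ∈ U) {a b : X.presheaf.stalk y}
    (h : a • L.presheaf.germ U y hy e = b • L.presheaf.germ U y hy e) : a = b := by
  rw [← sub_eq_zero]
  rw [← sub_eq_zero, ← sub_smul] at h
  obtain ⟨W, hW, r, hr⟩ := TopCat.Presheaf.exists_germ_eq X.presheaf (a - b)
  have hWU : y ∈ W ⊓ U := ⟨hW, hy⟩
  rw [← hr] at h ⊢
  rw [← TopCat.Presheaf.germ_res_apply X.presheaf (homOfLE (inf_le_left : W ⊓ U ≤ W)) y hWU r]
    at h ⊢
  have h' : (L.presheaf.germ (W ⊓ U) y hWU)
      (resX X (inf_le_left : W ⊓ U ≤ W) r • res L inf_le_right e) =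
        (L.presheaf.germ (W ⊓ U) y hWU) 0 := by
    rw [map_zero]
    refine (Groth.QCohMod.germ_smul L y hWU _ _).trans ?_
    rw [show Groth.QCohMod.germ L y hWU (res L (inf_le_right : W ⊓ U ≤ U) e) =
      L.presheaf.germ U y hy e from Groth.QCohMod.germ_res L inf_le_right y hWU e]
    exact h
  obtain ⟨V, hyV, i₁, i₂, hV⟩ := L.presheaf.germ_eq y hWU hWU _ _ h'
  have h0 : resX X i₁.le (resX X (inf_le_left : W ⊓ U ≤ W) r) = (0 : Γ(X, V)) := by
    refine he.smul_inj (i₁.le.trans inf_le_right) ?_
    rw [zero_smul]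
    refine Eq.trans ?_ ((hV).trans (map_zero (L.presheaf.map i₂.op).hom))
    rw [← res_res (M := L) (inf_le_right : W ⊓ U ≤ U) i₁.le]
    exact (res_smul i₁.le _ _).symm
  refine ((TopCat.Presheaf.germ_res_apply X.presheaf i₁ y hyV _).symm).trans ?_
  exact (congrArg (X.presheaf.germ V y hyV) h0).trans (map_zero _)

/-- A section generating at a point does not vanish there. -/
theorem evalAt_app_ne_zero {X : Scheme.{u}} {L : X.Modules} {x : X} {t : Γ(L, ⊤)}
    (ht : x ∈ gloc t) : (evalAt L x).app ⊤ t ≠ 0 := by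
  intro h
  have hg : Gen L (gloc t) (res L le_top t) := gen_gloc t (le_refl _)
  have hp := hg.pull (X.fromSpecResidueField x)
  have he0 : pullSec (X.fromSpecResidueField x) L (res L (le_top : gloc t ≤ ⊤) t) = 0 := by
    have h0 : pullSec (X.fromSpecResidueField x) L t = 0 := h
    rw [← res_pullSec (X.fromSpecResidueField x) L (le_top : gloc t ≤ ⊤), h0, res_zero]
  obtain ⟨w⟩ : Nonempty ↥(Spec (X.residueField x)) :=
    ⟨(default : PrimeSpectrum (X.residueField x))⟩
  have hz : w ∈ (X.fromSpecResidueField x) ⁻¹ᵁ gloc t := by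
    show X.fromSpecResidueField x w ∈ gloc t
    rwa [X.fromSpecResidueField_apply x]
  have h3 : (1 : Γ(Spec (X.residueField x), (X.fromSpecResidueField x) ⁻¹ᵁ gloc t)) = 0 :=
    hp.smul_inj le_rfl (by rw [res_self, he0, smul_zero, smul_zero])
  have h4 := congrArg ((Spec (X.residueField x)).presheaf.germ _ _ hz) h3
  rw [map_one, map_zero] at h4
  exact one_ne_zero h4

section Span

variable (k : Type u) [Field k] {X : Scheme.{u}} [X.Over (Spec (CommRingCat.of k))]
  [IsIntegral X] [IsProper (X ↘ Spec (CommRingCat.of k))] (hdim : topologicalKrullDim X ≤ 1)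
  {M L : X.Modules} (hL : PicF.IsInvertible L) (j : M ⟶ L) [Mono j]

include hdim hL j in
/-- A submodule of an invertible module with more than `g` sections is generated by them. -/
theorem span_germ_of_genus_lt (hlt : Curv2.genus k X < Module.finrank k (HH X M 0)) (x : X) :
    Submodule.span (X.presheaf.stalk x)
      (Set.range fun m : Γ(M, ⊤) => M.presheaf.germ ⊤ x trivial m) = ⊤ := by
  classical
  have := noetherianSpace_of_proper k X
  haveI : Module.Finite k (HH X M 0) := Module.finite_of_finrank_pos (by omega)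
  let r := Module.finrank k (HH X M 0)
  let b := Module.finBasis k (HH X M 0)
  let s : Fin r → Γ(M, ⊤) := fun i => h0Equiv k M (b i)
  let π : powMod (structureModule X) r ⟶ M := Sigma.desc fun i => homOfSection (s i)
  let ιB := Abelian.image.ι π
  let p := Abelian.factorThruImage π
  have hp : p ≫ ιB = π := Abelian.image.fac π
  have hιπ : ∀ i, (Sigma.ι (fun _ : Fin r => structureModule X) i ≫ p) ≫ ιB =
      homOfSection (s i) := fun i => by
    rw [Category.assoc, hp]; exact Sigma.ι_desc _ _
  have hB : Function.Surjective (hMap k ιB 0) := by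
    rw [← LinearMap.range_eq_top, ← top_le_iff, ← b.span_eq, Submodule.span_le]
    rintro _ ⟨i, rfl⟩
    refine ⟨(h0Equiv k _).symm
      ((Sigma.ι (fun _ : Fin r => structureModule X) i ≫ p).app ⊤ (oneSec X ⊤)), ?_⟩
    refine (h0Equiv k M).injective ?_
    rw [h0Equiv_hMap, LinearEquiv.apply_symm_apply]
    exact (congr(($(hιπ i)).app ⊤ (oneSec X ⊤))).trans (homOfSection_one (s i))
  have hfin : Module.finrank k (HH X (Abelian.image π) 0) = r :=
    (LinearEquiv.ofBijective (hMap k ιB 0)
      ⟨hMap_injective_zero_of_mono k ιB, hB⟩).finrank_eq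
  have h1 : Subsingleton (HH X (Abelian.image π) 1) := by
    by_contra hn
    rw [not_subsingleton_iff_nontrivial] at hn
    have := h0_le_genus k hdim hL (ιB ≫ j) hn
    omega
  have hs : SupportedAtClosed (cokernel ιB) := by
    obtain ⟨i⟩ : Nonempty (Fin r) := ⟨⟨0, by omega⟩⟩
    have hne : homOfSection (s i) ≫ j ≠ 0 := fun h => by
      have h' := zero_of_comp_mono j h
      refine b.ne_zero i ((h0Equiv k M).map_eq_zero_iff.1 ?_)
      show s i = 0
      rw [← homOfSection_one (s i), h']
      rfl
    refine supportedAtClosed_cokernel_of_surjective hdim ιB fun t => ?_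
    obtain ⟨w, hw⟩ := surjective_stalk_genericPoint (isInvertible_structureModule X) hL hne
      ((Groth.QCohMod.stalk (genericPoint X)).map j t)
    refine ⟨(Groth.QCohMod.stalk (genericPoint X)).map
      (Sigma.ι (fun _ : Fin r => structureModule X) i ≫ p) w, ?_⟩
    refine (Groth.QCohMod.mono_iff_stalk j).1 inferInstance (genericPoint X) ?_
    rw [← hw, ← hιπ i]
    simp only [Functor.map_comp, ConcreteCategory.comp_apply]
  have hS : (ShortComplex.mk ιB (cokernel.π ιB) (cokernel.condition ιB)).ShortExact :=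
    { exact := ShortComplex.exact_cokernel ιB }
  have h0C : Subsingleton (HH X (cokernel ιB) 0) := subsingleton_of_forall_eq 0 fun z => by
    obtain ⟨v, rfl⟩ := (exact_right k hS 0 z).1 (@Subsingleton.elim _ h1 _ _)
    exact (exact_mid k hS 0 v).2 (hB v)
  have hepi : Epi ιB := Preadditive.epi_of_cokernel_zero
    ((isZero_of_subsingleton_H0 hs h0C).eq_of_tgt _ _)
  have hπ : Epi π := hp ▸ epi_comp p ιB
  refine top_le_iff.1 fun z _ => ?_
  obtain ⟨w, hw⟩ := (Groth.QCohMod.epi_iff_stalk π).1 hπ x z
  have hw' : z = stalkLin π x w := hw.symm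
  have hsum : π = ∑ i, powProj (structureModule X) i ≫ homOfSection (s i) := by
    conv_lhs => rw [← Category.id_comp π, ← powProj_total (structureModule X) r, Preadditive.sum_comp]
    refine Finset.sum_congr rfl fun i _ => ?_
    rw [Category.assoc]
    exact congrArg _ (Sigma.ι_desc _ _)
  rw [hw', hsum, stalkLin_sum]
  refine Submodule.sum_mem _ fun i _ => ?_
  rw [stalkLin_comp]
  exact Submodule.span_mono (Set.singleton_subset_iff.2 (Set.mem_range_self (s i)))
    (stalkLin_homOfSection_mem (s i) x _)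

end Span

section Separation

variable (k : Type u) [Field k] [IsAlgClosed k] {X : Scheme.{u}} [X.Over (Spec (CommRingCat.of k))]
  [IsIntegral X] [IsProper (X ↘ Spec (CommRingCat.of k))] (hdim : topologicalKrullDim X ≤ 1)
  {L : X.Modules} (hL : PicF.IsInvertible L)

omit [IsIntegral X] in
/-- Over an algebraically closed field functions are congruent to constants at closed points. -/
theorem exists_sub_toSec_not_isUnit {x : X} (hx : IsClosed ({x} : Set X)) {V : X.Opens} (hV : x ∈ V)
    (f : Γ(X, V)) : ∃ a : k, ¬ IsUnit (X.presheaf.germ V x hV (f - toSec k V a)) := by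
  have hinv : (residueFieldIsoBase (X ↘ Spec (CommRingCat.of k)) x hx).inv =
      CommRingCat.ofHom (Curv2.resMap k X x) :=
    Spec.map_injective ((SpecMap_residueFieldIsoBase_inv _ x hx).trans
      (Groth.VarietyBC.fromSpecResidueField_str x))
  obtain ⟨a, ha⟩ : ∃ a : k, Curv2.resMap k X x a = X.residue x (X.presheaf.germ V x hV f) :=
    ⟨(residueFieldIsoBase (X ↘ Spec (CommRingCat.of k)) x hx).hom _, by
      rw [show Curv2.resMap k X x =
        (residueFieldIsoBase (X ↘ Spec (CommRingCat.of k)) x hx).inv.hom by rw [hinv]; rfl]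
      exact congr($((residueFieldIsoBase (X ↘ Spec (CommRingCat.of k)) x hx).hom_inv_id) _)⟩
  refine ⟨a, fun hu => ?_⟩
  have h1 : X.residue x (X.presheaf.germ V x hV (toSec k V a)) = Curv2.resMap k X x a :=
    congrArg (X.residue x) (TopCat.Presheaf.germ_res_apply X.presheaf _ x hV _)
  have h2 := hu.map (X.residue x).hom
  rw [map_sub, map_sub, h1, ha, sub_self] at h2
  exact not_isUnit_zero h2

include hdim hL in
/-- Sections of `L` vanishing at a closed point `x` generate, if `h⁰(L) ≥ g + 2`, the functions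
vanishing at `x`. -/
theorem germ_mem_span_of_genus_lt (hlt : Curv2.genus k X + 1 < Module.finrank k (HH X L 0))
    {x : X} (hx : IsClosed ({x} : Set X)) {U : X.Opens} {e : Γ(L, U)} (he : Gen L U e)
    {y : X} (hy : y ∈ U) (c : Γ(X, U))
    (hc : ∀ hxU : x ∈ U, ¬ IsUnit (X.presheaf.germ U x hxU c)) :
    X.presheaf.germ U y hy c ∈ Ideal.span {g | ∃ (t : Γ(L, ⊤)) (f : Γ(X, U)), x ∉ gloc t ∧
      res L le_top t = f • e ∧ g = X.presheaf.germ U y hy f} := by
  set η := evalAt L x with hη
  let ι := kernel.ι η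
  have hxη : ∀ v : Γ(kernel η, ⊤), η.app ⊤ (ι.app ⊤ v) = 0 := fun v =>
    congr(($(kernel.condition η)).app ⊤ v)
  have hin : ∀ t : Γ(L, ⊤), x ∉ gloc t → ∃ v : HH X (kernel η) 0, h0Equiv k L (hMap k ι 0 v) = t := by
    intro t ht
    have hker : (ShortComplex.mk ι (cokernel.π ι) (cokernel.condition ι)).ShortExact :=
      { exact := ShortComplex.exact_cokernel ι }
    have : Mono (cokernel.desc ι η (kernel.condition η)) :=
      inferInstanceAs (Mono (Abelian.factorThruCoimage η))
    obtain ⟨v, hv⟩ := (exact_mid k hker 0 ((h0Equiv k L).symm t)).1 (by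
      refine hMap_injective_zero_of_mono k (cokernel.desc ι η (kernel.condition η)) ?_
      rw [map_zero, ← LinearMap.comp_apply, ← hMap_comp, cokernel.π_desc]
      refine (h0Equiv k _).map_eq_zero_iff.1 ?_
      rw [h0Equiv_hMap, LinearEquiv.apply_symm_apply]
      exact evalAt_eq_zero hL t ht)
    exact ⟨v, (congrArg (h0Equiv k L) hv).trans (LinearEquiv.apply_symm_apply _ _)⟩
  haveI := finite_HH k X (isCoh_of_isInvertible hL) 0
  obtain ⟨t₀, ht₀⟩ := exists_mem_gloc k hdim hL (by omega) hx
  have hgen₀ : Gen L (gloc t₀) (res L le_top t₀) := gen_gloc t₀ (le_refl _)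
  have htop : (⊤ : Submodule k (HH X L 0)) ≤
      LinearMap.range (hMap k ι 0) ⊔ Submodule.span k {(h0Equiv k L).symm t₀} := by
    intro w _
    obtain ⟨f, hf⟩ := hgen₀.exists_coeff le_rfl (res L le_top (h0Equiv k L w))
    rw [res_self] at hf
    obtain ⟨a, ha⟩ := exists_sub_toSec_not_isUnit k hx ht₀ f
    have hout : x ∉ gloc (h0Equiv k L w - a • t₀) := fun hmem => ha (by
      have h1 : res L (le_top : gloc t₀ ≤ ⊤) (h0Equiv k L w - a • t₀) =
          (f - toSec k (gloc t₀) a) • res L le_top t₀ := by
        rw [sub_smul, ← hf, smul_sec, ← toSec_res k (le_top : gloc t₀ ≤ ⊤), ← res_smul]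
        exact map_sub (L.presheaf.map (homOfLE le_top).op).hom _ _
      exact (X.mem_basicOpen _ x ht₀).1 ((gloc_inf_eq_basicOpen hgen₀ h1).le ⟨hmem, ht₀⟩))
    obtain ⟨v, hv⟩ := hin _ hout
    refine Submodule.mem_sup.2 ⟨_, ⟨v, rfl⟩, a • (h0Equiv k L).symm t₀,
      Submodule.smul_mem _ _ (Submodule.mem_span_singleton_self _), (h0Equiv k L).injective ?_⟩
    rw [map_add, map_smul, hv, LinearEquiv.apply_symm_apply, sub_add_cancel]
  have hM : Curv2.genus k X < Module.finrank k (HH X (kernel η) 0) := by
    have h1 := (Submodule.finrank_mono htop).trans (Submodule.finrank_add_le_finrank_add_finrank _ _)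
    rw [finrank_top, LinearMap.finrank_range_of_inj (hMap_injective_zero_of_mono k ι)] at h1
    have h2 : Module.finrank k (Submodule.span k {(h0Equiv k L).symm t₀}) ≤ 1 :=
      (finrank_span_le_card _).trans (by simp)
    omega
  have hspan := span_germ_of_genus_lt k hdim hL ι hM y
  have hce : η.app U (c • e) = 0 := by
    rw [Scheme.Modules.Hom.app_smul]
    show (X.fromSpecResidueField x).app U c • (show Γ((Scheme.Modules.pullback
      (X.fromSpecResidueField x)).obj L, (X.fromSpecResidueField x) ⁻¹ᵁ U) from η.app U e) = 0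
    by_cases hxU : x ∈ U
    · rw [fromSpecResidueField_app_eq_zero hxU c (hc hxU), zero_smul]
    · have hbot : (X.fromSpecResidueField x) ⁻¹ᵁ U = ⊥ := eq_bot_iff.2 fun z hz =>
        hxU (X.fromSpecResidueField_apply x z ▸ (show X.fromSpecResidueField x z ∈ U from hz))
      have : Subsingleton Γ(Spec (X.residueField x), (X.fromSpecResidueField x) ⁻¹ᵁ U) := by
        rw [hbot]; infer_instance
      rw [Subsingleton.elim ((X.fromSpecResidueField x).app U c) 0, zero_smul]
  obtain ⟨z, hz⟩ : ∃ z, stalkLin ι y z = L.presheaf.germ U y hy (c • e) := by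
    have hk : ((ShortComplex.mk ι η (kernel.condition η)).map (Groth.QCohMod.stalk y)).Exact :=
      (ShortComplex.exact_kernel η).map (Groth.QCohMod.stalk y)
    exact (ShortComplex.ab_exact_iff _).1 hk (L.presheaf.germ U y hy (c • e))
      ((Groth.QCohMod.stalk_map_germ η y hy (c • e)).trans
        ((congrArg _ hce).trans (map_zero _)))
  set I := Ideal.span {g | ∃ (t : Γ(L, ⊤)) (f : Γ(X, U)), x ∉ gloc t ∧
      res L le_top t = f • e ∧ g = X.presheaf.germ U y hy f}
  obtain ⟨q, hq, hqe⟩ : ∃ q ∈ I, stalkLin ι y z = q • L.presheaf.germ U y hy e := by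
    have hzs : z ∈ Submodule.span (X.presheaf.stalk y)
        (Set.range fun m : Γ(kernel η, ⊤) => (kernel η).presheaf.germ ⊤ y trivial m) :=
      hspan.ge trivial
    clear hz
    induction hzs using Submodule.span_induction with
    | zero => exact ⟨0, I.zero_mem, by rw [map_zero, zero_smul]⟩
    | add a b _ _ ha hb =>
      obtain ⟨p, hp, ha⟩ := ha
      obtain ⟨q, hq, hb⟩ := hb
      exact ⟨p + q, I.add_mem hp hq, by rw [map_add, ha, hb, add_smul]⟩
    | smul r a _ ha =>
      obtain ⟨p, hp, ha⟩ := ha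
      exact ⟨r * p, I.mul_mem_left r hp, by rw [map_smul, ha, mul_smul]⟩
    | mem a ha =>
      obtain ⟨m, rfl⟩ := ha
      obtain ⟨f, hf⟩ := he.exists_coeff le_rfl (res L le_top (ι.app ⊤ m))
      rw [res_self] at hf
      have hxm : x ∉ gloc (ι.app ⊤ m) := fun hmem => evalAt_app_ne_zero hmem (hxη m)
      refine ⟨_, Ideal.subset_span ⟨ι.app ⊤ m, f, hxm, hf, rfl⟩, ?_⟩
      rw [stalkLin_germ]
      refine (Groth.QCohMod.germ_res L (le_top : U ≤ ⊤) y hy (ι.app ⊤ m)).symm.trans ?_
      exact (congrArg _ hf).trans (Groth.QCohMod.germ_smul L y hy f e)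
  rw [hqe] at hz
  have hce' : L.presheaf.germ U y hy (c • e) =
      X.presheaf.germ U y hy c • L.presheaf.germ U y hy e :=
    Groth.QCohMod.germ_smul L y hy c e
  rw [hce'] at hz
  rw [← gen_germ_smul_inj he hy hz]
  exact hq

end Separation

end Groth.Curves1.RR
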