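import Mathlib
import Groth.Agent.Curves1.RR.SpanLemma
import Groth.Agent.S10867

/-!
# Invertible modules of degree at least `2g + 1` separate points and tangents
-/

set_option linter.style.haveILetI false
set_option backward.isDefEq.respectTransparency.types false

universe u

open CategoryTheory Limits AlgebraicGeometry Coh TopologicalSpace Opposite

namespace Groth.Curves1.RR

open Groth.EulerDeg Groth.PicAux Groth.PropsBasic.Ample

variable (k : Type u) [Field k] [IsAlgClosed k] {X : Scheme.{u}} [X.Over (Spec (CommRingCat.of k))]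
  [IsIntegral X] [IsProper (X ↘ Spec (CommRingCat.of k))] (hdim : topologicalKrullDim X ≤ 1)
  {L : X.Modules} (hL : PicF.IsInvertible L)

omit [IsAlgClosed k] [IsIntegral X] in
include hdim in
/-- Riemann–Roch gives `h⁰(L) ≥ g + 2` in degree `≥ 2g + 1`. -/
theorem genus_add_one_lt_h0 (h0 : Module.finrank k (HH X (structureModule X) 0) = 1)
    (hdeg : 2 * (Curv2.genus k X : ℤ) + 1 ≤ Curv2.deg k X L 1) :
    Curv2.genus k X + 1 < Module.finrank k (HH X L 0) := by
  have e := euler_eq k hdim h0 (L := L)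
  rw [euler_eq_h0_sub_h1 k X hdim L] at e
  omega

include hdim hL in
/-- A morphism whose charts carry all the sections of an invertible module with at least `g + 2`
sections is a closed immersion. -/
theorem isClosedImmersion_of_sections {Y : Scheme.{u}} (q : Y ⟶ Spec (CommRingCat.of k))
    [IsSeparated q] [LocallyOfFiniteType q] [QuasiCompact q] (r : X ⟶ Y)
    (hr : r ≫ q = X ↘ Spec (CommRingCat.of k))
    (hlt : Curv2.genus k X + 1 < Module.finrank k (HH X L 0)) {ι : Type*} (D : ι → Y.Opens)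
    (hD : ∀ x : X, ∃ i, r x ∈ D i) (e : ∀ i, Γ(L, r ⁻¹ᵁ D i)) (he : ∀ i, Gen L (r ⁻¹ᵁ D i) (e i))
    (H : ∀ i (t : Γ(L, ⊤)), ∃ σ : Γ(Y, D i), res L le_top t = r.app (D i) σ • e i) :
    IsClosedImmersion r := by
  haveI : IsProper (r ≫ q) := by rw [hr]; infer_instance
  haveI : LocallyOfFiniteType (r ≫ q) := inferInstance
  haveI : IsProper r := IsProper.of_comp r q
  -- the functions of the sections, on a smaller open
  have key : ∀ (i : ι) (U' : X.Opens) (hU' : U' ≤ r ⁻¹ᵁ D i) (y : X) (hy : y ∈ U') (t : Γ(L, ⊤))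
      (f : Γ(X, U')), res L le_top t = f • res L hU' (e i) →
      ∃ σ : Γ(Y, D i), X.presheaf.germ U' y hy f =
        r.stalkMap y (Y.presheaf.germ (D i) (r y) (hU' hy) σ) ∧
        ∀ (x : X) (hx : r x ∈ D i), x ∉ gloc t → ¬ IsUnit (Y.presheaf.germ (D i) (r x) hx σ) := by
    intro i U' hU' y hy t f hf
    obtain ⟨σ, hσ⟩ := H i t
    have h1 : f = resX X hU' (r.app (D i) σ) := by
      refine ((he i).res hU').smul_inj le_rfl ?_
      rw [res_self, ← hf, ← res_smul, ← hσ, res_res]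
    refine ⟨σ, ?_, fun x hx hxt hu => hxt ?_⟩
    · rw [h1, Scheme.Hom.germ_stalkMap_apply]
      exact TopCat.Presheaf.germ_res_apply X.presheaf _ y hy _
    · have h2 : x ∈ gloc t ⊓ r ⁻¹ᵁ D i := by
        rw [gloc_inf_eq_basicOpen (he i) hσ, X.mem_basicOpen _ x hx,
          ← Scheme.Hom.germ_stalkMap_apply]
        exact hu.map (r.stalkMap x).hom
      exact h2.1
  refine Groth.Agent.S10867.result k r q ?_ ?_
  · intro x hx y hy hxy
    by_contra hne
    obtain ⟨i, hi⟩ := hD x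
    have hyi : r y ∈ D i := (show r x = r y from hxy) ▸ hi
    let U' : X.Opens := r ⁻¹ᵁ D i ⊓ ⟨({x} : Set X)ᶜ, isOpen_compl_iff.2 hx⟩
    have hle : U' ≤ r ⁻¹ᵁ D i := inf_le_left
    have hyU : y ∈ U' := ⟨hyi, fun h => hne (Set.mem_singleton_iff.1 h).symm⟩
    have h1 := germ_mem_span_of_genus_lt k hdim hL hlt hx ((he i).res hle) hyU (1 : Γ(X, U'))
      fun hxU => absurd rfl hxU.2
    rw [map_one] at h1
    refine (Ideal.ne_top_iff_one _).1 (IsLocalRing.maximalIdeal.isMaximal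
      (X.presheaf.stalk y)).ne_top ((Ideal.span_le.2 ?_) h1)
    rintro _ ⟨t, f, hxt, hf, rfl⟩
    obtain ⟨σ, hσ, hn⟩ := key i U' hle y hyU t f hf
    rw [SetLike.mem_coe, IsLocalRing.mem_maximalIdeal, mem_nonunits_iff, hσ, isUnit_map_iff]
    intro hu
    have tr : ∀ (p p' : Y) (hp : p ∈ D i) (hp' : p' ∈ D i), p = p' →
        IsUnit (Y.presheaf.germ (D i) p hp σ) → IsUnit (Y.presheaf.germ (D i) p' hp' σ) := by
      rintro p _ hp hp' rfl h; exact h
    exact hn x hi hxt (tr _ _ _ _ (show r y = r x from hxy.symm) hu)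
  · intro x hx
    refine le_antisymm (sup_le (Ideal.map_le_iff_le_comap.mpr fun a ha => ?_)
      (Ideal.pow_le_self two_ne_zero)) (le_sup_of_le_left fun g hg => ?_)
    · rw [Ideal.mem_comap, IsLocalRing.mem_maximalIdeal]
      exact map_nonunit (r.stalkMap x).hom a ha
    obtain ⟨i, hi⟩ := hD x
    obtain ⟨W, hW, c, rfl⟩ := TopCat.Presheaf.exists_germ_eq X.presheaf g
    have hle : W ⊓ r ⁻¹ᵁ D i ≤ r ⁻¹ᵁ D i := inf_le_right
    have hxU : x ∈ W ⊓ r ⁻¹ᵁ D i := ⟨hW, hi⟩
    rw [← TopCat.Presheaf.germ_res_apply X.presheaf (homOfLE (inf_le_left : W ⊓ r ⁻¹ᵁ D i ≤ W)) x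
      hxU c] at hg ⊢
    refine (Ideal.span_le.2 ?_) (germ_mem_span_of_genus_lt k hdim hL hlt hx ((he i).res hle) hxU _
      fun _ => (IsLocalRing.mem_maximalIdeal _).1 hg)
    rintro _ ⟨t, f, hxt, hf, rfl⟩
    obtain ⟨σ, hσ, hn⟩ := key i _ hle x hxU t f hf
    rw [SetLike.mem_coe, hσ]
    exact Ideal.mem_map_of_mem _ ((IsLocalRing.mem_maximalIdeal _).2 (hn x hi hxt))

end Groth.Curves1.RR
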