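import Mathlib
import Groth.Agent.Curves1.RR.VeryAmpleCrit
import Groth.Agent.Curves1.RR.Descend
import Groth.Agent.HilbStab.BC.H0
import Groth.Agent.Chow.ToPn
import Groth.Agent.EtaleBase.FpqcDescent
import Groth.Agent.Variety2.ProjBasics

/-!
# Degree `≥ 2g + 1` gives very ampleness over any field
-/

set_option linter.style.haveILetI false
set_option backward.isDefEq.respectTransparency.types false

universe u

open CategoryTheory Limits AlgebraicGeometry Coh TopologicalSpace Opposite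

namespace Groth.Curves1.RR

open Groth.PicAux Groth.Chow

/-- Constants pulled back along a morphism over the base are constants. -/
theorem app_constants {R : Type u} [CommRing R] {X Y : Scheme.{u}}
    [X.Over (Spec (CommRingCat.of R))] [Y.Over (Spec (CommRingCat.of R))] (f : X ⟶ Y)
    (hf : f ≫ (Y ↘ Spec (CommRingCat.of R)) = X ↘ Spec (CommRingCat.of R)) (U : Y.Opens) (a : R) :
    f.app U (Groth.CohBase.toSec R U a) = Groth.CohBase.toSec R (f ⁻¹ᵁ U) a := by
  have h := Scheme.Hom.appLE_comp_appLE f (Y ↘ Spec (CommRingCat.of R)) ⊤ U (f ⁻¹ᵁ U) le_top le_rfl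
  have h2 := congr($h ((Scheme.ΓSpecIso (CommRingCat.of R)).inv a))
  rw [CommRingCat.comp_apply, Scheme.Hom.appLE_eq_app] at h2
  refine h2.trans ?_
  have key : ∀ (φ : X ⟶ Spec (CommRingCat.of R)), φ = X ↘ Spec (CommRingCat.of R) →
      ∀ hle, φ.appLE ⊤ (f ⁻¹ᵁ U) hle ((Scheme.ΓSpecIso (CommRingCat.of R)).inv a) =
        Groth.CohBase.toSec R (f ⁻¹ᵁ U) a := by
    rintro _ rfl hle; rfl
  exact key _ hf _

open scoped Groth.HilbStab.BC in
/-- The base change of `ToPn.r` to an algebraically closed field is a closed immersion, in degree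
`≥ 2g + 1`. -/
theorem isClosedImmersion_lift {k K : Type u} [Field k] [Field K] [Algebra k K] [IsAlgClosed K]
    {X X' Y' : Scheme.{u}} [X.Over (Spec (CommRingCat.of k))] [X'.Over (Spec (CommRingCat.of K))]
    [Y'.Over (Spec (CommRingCat.of K))]
    [IsProper (X ↘ Spec (CommRingCat.of k))] [IsProper (X' ↘ Spec (CommRingCat.of K))] [IsIntegral X']
    [IsSeparated (Y' ↘ Spec (CommRingCat.of K))] [LocallyOfFiniteType (Y' ↘ Spec (CommRingCat.of K))]
    [QuasiCompact (Y' ↘ Spec (CommRingCat.of K))]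
    {g : X' ⟶ X} (hsq : Groth.CohBase.IsBC (A := k) (A' := K) g)
    (hdim : topologicalKrullDim X' ≤ 1) {L : X.Modules} (hL : PicF.IsInvertible L)
    (hlt : Curv2.genus K X' + 1 < Module.finrank K (HH X' ((Scheme.Modules.pullback g).obj L) 0))
    {n : ℕ} (s : Fin (n + 1) → ProjUP.Γm L)
    (hs : Submodule.span k (Set.range fun i => (show Groth.CohBase.secA k L ⊤ from s i)) = ⊤)
    (hU : ⨆ i, ToPn.U L s i = ⊤) {r : X ⟶ CohB1.ProjSpace n k}
    (hr : ∀ i, (ToPn.U L s i).ι ≫ r = ToPn.rU (X ↘ Spec (CommRingCat.of k)) L s i)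
    (pr : Y' ⟶ CohB1.ProjSpace n k) (r' : X' ⟶ Y')
    (hr1 : r' ≫ pr = g ≫ r)
    (hr2 : r' ≫ (Y' ↘ Spec (CommRingCat.of K)) = X' ↘ Spec (CommRingCat.of K)) :
    IsClosedImmersion r' := by
  let D : Fin (n + 1) → (CohB1.ProjSpace n k).Opens := fun i =>
    Proj.basicOpen (CohB1.polyGrading n k) (MvPolynomial.X i)
  have hV : ∀ i, r' ⁻¹ᵁ (pr ⁻¹ᵁ D i) = g ⁻¹ᵁ ToPn.U L s i := fun i => by
    rw [← Scheme.Hom.comp_preimage, hr1, Scheme.Hom.comp_preimage,
      show r ⁻¹ᵁ D i = ToPn.U L s i from ToPn.preimage_D hr hU i]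
  let L' := (Scheme.Modules.pullback g).obj L
  let e : ∀ i, Γ(L', r' ⁻¹ᵁ (pr ⁻¹ᵁ D i)) := fun i =>
    res L' (hV i).le (pullSec g L (res L (le_top : ToPn.U L s i ≤ ⊤) (s i)))
  have he : ∀ i, Gen L' (r' ⁻¹ᵁ (pr ⁻¹ᵁ D i)) (e i) := fun i =>
    ((ToPn.gen_U L s i).pull g).res (hV i).le
  refine isClosedImmersion_of_sections K hdim (isInvertible_pullback g hL)
    (Y' ↘ Spec (CommRingCat.of K)) r' hr2 hlt (fun i => pr ⁻¹ᵁ D i)
    (fun x => ?_) e he fun i t => ?_
  · obtain ⟨i, hi⟩ := Opens.mem_iSup.1 (hU.ge (Set.mem_univ (g x)))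
    exact ⟨i, (hV i).ge hi⟩
  have := (Groth.EulerDeg.isCoh_of_isInvertible hL).1
  -- the base sections
  have hbase : ∀ l, ∃ σ : Γ(Y', pr ⁻¹ᵁ D i),
      res L' (le_top : r' ⁻¹ᵁ (pr ⁻¹ᵁ D i) ≤ ⊤) (pullSec g L (s l) : Γ(L', ⊤)) =
        r'.app (pr ⁻¹ᵁ D i) σ • e i := by
    intro l
    let τ : Γ(CohB1.ProjSpace n k, D i) := Proj.awayToSection _ _
      (HomogeneousLocalization.Away.mk (CohB1.polyGrading n k) (ToPn.X_mem i) 1 (MvPolynomial.X l)
        (by rw [one_smul]; exact ToPn.X_mem l))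
    have hτ : r.appLE (D i) (ToPn.U L s i) (ToPn.preimage_D hr hU i).ge τ = ToPn.c L s i l := by
      refine (ToPn.appLE_awayToSection hr i (ToPn.preimage_D hr hU i).ge _).trans ?_
      rw [ToPn.α, ToPn.chart_mk, MvPolynomial.eval₂_X]
    refine ⟨pr.app (D i) τ, ?_⟩
    have h1 : r'.app (pr ⁻¹ᵁ D i) (pr.app (D i) τ) =
        resX X' (hV i).le (g.app (ToPn.U L s i) (ToPn.c L s i l)) := by
      have key : ∀ (φ : X' ⟶ CohB1.ProjSpace n k), φ = g ≫ r → ∀ hle,
          φ.appLE (D i) (r' ⁻¹ᵁ (pr ⁻¹ᵁ D i)) hle τ =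
            resX X' (hV i).le (g.app (ToPn.U L s i) (ToPn.c L s i l)) := by
        rintro _ rfl hle
        rw [← Scheme.Hom.appLE_comp_appLE g r (D i) (ToPn.U L s i) (r' ⁻¹ᵁ (pr ⁻¹ᵁ D i))
          (ToPn.preimage_D hr hU i).ge (hV i).le, CommRingCat.comp_apply, hτ]
        rfl
      refine Eq.trans ?_ (key (r' ≫ pr) hr1 (le_of_eq (Scheme.Hom.comp_preimage r' pr (D i)).symm))
      erw [Scheme.Hom.appLE_eq_app]
      rfl
    rw [h1]
    have h2 : res L' (hV i).le (res _ (g.preimage_mono (le_top : ToPn.U L s i ≤ ⊤))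
        (pullSec g L (s l))) =
        resX X' (hV i).le (g.app (ToPn.U L s i) (ToPn.c L s i l)) • e i := by
      rw [res_pullSec g L (le_top : ToPn.U L s i ≤ ⊤), ToPn.c_spec L s i l, pullSec_smul, res_smul]
    rw [Groth.PicAux.res_res] at h2
    exact h2
  -- their span
  have hspan : (show Groth.CohBase.secA K L' (g ⁻¹ᵁ ⊤) from t) ∈
      Submodule.span K (Set.range fun l => Groth.HilbStab.BC.pullLin hsq L ⊤ (show Groth.CohBase.secA k L ⊤ from s l)) := by
    refine (Submodule.span_le.2 ?_) ((Groth.HilbStab.BC.span_pullLin hsq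
      (Groth.EulerDeg.isCoh_of_isInvertible hL)).ge (Submodule.mem_top : _ ∈ ⊤))
    rintro _ ⟨v, rfl⟩
    have hv : v ∈ Submodule.span k (Set.range fun l => (show Groth.CohBase.secA k L ⊤ from s l)) :=
      hs.ge Submodule.mem_top
    induction hv using Submodule.span_induction with
    | zero => rw [map_zero]; exact zero_mem _
    | add a b _ _ ha hb => rw [map_add]; exact add_mem ha hb
    | smul c a _ ha =>
      rw [map_smul, ← algebraMap_smul K c]
      exact Submodule.smul_mem _ _ ha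
    | mem a ha =>
      obtain ⟨l, rfl⟩ := ha
      exact Submodule.subset_span ⟨l, rfl⟩
  obtain ⟨a, ha⟩ := (Submodule.mem_span_range_iff_exists_fun K).1 hspan
  choose σ hσ using hbase
  refine ⟨∑ l, Groth.CohBase.toSec K (pr ⁻¹ᵁ D i) (a l) * σ l, ?_⟩
  have ht : t = ∑ l, Groth.CohBase.toSec K (⊤ : X'.Opens) (a l) •
      (show Γ(L', (⊤ : X'.Opens)) from pullSec g L (s l)) :=
    ha.symm
  rw [ht, res_sum, map_sum, Finset.sum_smul]
  refine Finset.sum_congr rfl fun l _ => ?_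
  rw [res_smul, map_mul, app_constants r' hr2, mul_smul, ← hσ l]
  congr 1
  exact Groth.CohBase.resFun_toSec K _ _

variable (k : Type u) [Field k] {X : Scheme.{u}} [X.Over (Spec (CommRingCat.of k))]
  [IsProper (X ↘ Spec (CommRingCat.of k))] [GeometricallyIntegral (X ↘ Spec (CommRingCat.of k))]

attribute [local instance] Curv2.resAlgebra in
/-- **Invertible modules of degree `≥ 2g + 1` are very ample.** -/
theorem veryAmple_of_deg_ge (hdim : topologicalKrullDim X = 1)
    (h0 : Module.finrank k (HH X (structureModule X) 0) = 1) (L : X.Modules)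
    (hL : PicF.IsInvertible L) (hdeg : 2 * (Curv2.genus k X : ℤ) + 1 ≤ Curv2.deg k X L 1) :
    ∃ (n : ℕ) (i : X ⟶ CohB1.ProjSpace n k), IsClosedImmersion i ∧
      i ≫ CohB1.ProjSpace.toSpec n k = X ↘ (Spec (CommRingCat.of k)) ∧
      Nonempty ((Scheme.Modules.pullback i).obj (Twist.twistProjSpace n k 1) ≅ L) := by
  haveI : IsIntegral X := self_of_isIntegral_of_geometrically
    (GeometricallyIntegral.geometrically_isIntegral (f := X ↘ Spec (CommRingCat.of k)))
  have hlt := genus_add_one_lt_h0 k hdim.le h0 hdeg (L := L)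
  haveI := Groth.EulerDeg.finite_HH k X (Groth.EulerDeg.isCoh_of_isInvertible hL) 0
  obtain ⟨n, hn⟩ : ∃ n, Module.finrank k (HH X L 0) = n + 1 :=
    ⟨_, (Nat.succ_pred_eq_of_pos (by omega : 0 < Module.finrank k (HH X L 0))).symm⟩
  let b := (Module.finBasisOfFinrankEq k (HH X L 0) hn).map (Groth.HilbStab.BC.secTopEquiv k L)
  let s : Fin (n + 1) → ProjUP.Γm L := fun i => b i
  have hgen : ProjUP.GeneratedBy L s := fun x => by
    rw [eq_top_iff, ← span_germ_of_genus_lt k hdim.le hL (𝟙 L) (by omega) x, Submodule.span_le]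
    rintro _ ⟨m, rfl⟩
    obtain ⟨c, hc⟩ : ∃ c : Fin (n + 1) → k,
        m = ∑ l, Groth.CohBase.toSec k (⊤ : X.Opens) (c l) • (s l : Γ(L, ⊤)) :=
      ⟨_, (b.sum_repr (show Groth.CohBase.secA k L ⊤ from m)).symm⟩
    show L.presheaf.germ ⊤ x trivial m ∈ _
    rw [hc, map_sum]
    refine Submodule.sum_mem _ fun l _ => ?_
    rw [show L.presheaf.germ ⊤ x trivial (Groth.CohBase.toSec k (⊤ : X.Opens) (c l) •
      (s l : Γ(L, ⊤))) = X.presheaf.germ ⊤ x trivial (Groth.CohBase.toSec k (⊤ : X.Opens) (c l)) •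
        L.presheaf.germ ⊤ x trivial (s l) from Groth.QCohMod.germ_smul L (U := ⊤) x trivial _ _]
    exact Submodule.smul_mem _ _ (Submodule.subset_span ⟨l, rfl⟩)
  have hU := ToPn.iSup_U L s hL hgen
  obtain ⟨r, hr⟩ := ToPn.exists_r (X ↘ Spec (CommRingCat.of k)) L s hU
  have hq := ToPn.r_toSpec hr hU
  obtain ⟨τ, -⟩ := ToPn.exists_tau hr hU
  refine ⟨n, r, ?_, hq, ⟨τ⟩⟩
  let K := AlgebraicClosure k
  let ψ := Spec.map (CommRingCat.ofHom (algebraMap k K))
  letI : (Curv2.bc k X K).Over (Spec (CommRingCat.of K)) := ⟨Curv2.bcSnd k X K⟩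
  have hpb : IsPullback (Curv2.bcFst k X K) ((Curv2.bc k X K) ↘ Spec (CommRingCat.of K))
      (X ↘ Spec (CommRingCat.of k)) ψ := IsPullback.of_hasPullback _ _
  haveI : GeometricallyIntegral ((Curv2.bc k X K) ↘ Spec (CommRingCat.of K)) :=
    inferInstanceAs (GeometricallyIntegral (pullback.snd _ _))
  haveI : IsProper ((Curv2.bc k X K) ↘ Spec (CommRingCat.of K)) :=
    inferInstanceAs (IsProper (pullback.snd _ _))
  haveI : IsIntegral (Curv2.bc k X K) := inferInstance
  haveI : IsProper (CohB1.ProjSpace.toSpec n k) := Groth.Variety2.isProper_projSpace_toSpec n k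
  letI : (pullback (CohB1.ProjSpace.toSpec n k) ψ).Over (Spec (CommRingCat.of K)) :=
    ⟨pullback.snd _ _⟩
  haveI : IsProper ((pullback (CohB1.ProjSpace.toSpec n k) ψ) ↘ Spec (CommRingCat.of K)) :=
    inferInstanceAs (IsProper (pullback.snd _ _))
  let r' : Curv2.bc k X K ⟶ pullback (CohB1.ProjSpace.toSpec n k) ψ :=
    pullback.lift (Curv2.bcFst k X K ≫ r) ((Curv2.bc k X K) ↘ Spec (CommRingCat.of K))
      (by rw [Category.assoc, hq]; exact hpb.w)
  have hr' : IsClosedImmersion r' := by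
    refine isClosedImmersion_lift hpb ((dim_of_isPullback _ _ hpb).trans hdim).le hL ?_ s
      b.span_eq hU hr (pullback.fst _ _) r' (pullback.lift_fst _ _ _) (pullback.lift_snd _ _ _)
    rw [show Curv2.genus K (Curv2.bc k X K) = Curv2.genus k X from finrank_structure hpb 1,
      finrank_pullback hpb L (Groth.EulerDeg.isCoh_of_isInvertible hL).1]
    exact hlt
  have hsq : IsPullback (Curv2.bcFst k X K) r' r (pullback.fst (CohB1.ProjSpace.toSpec n k) ψ) := by
    refine IsPullback.of_bot ?_ (pullback.lift_fst _ _ _).symm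
      (IsPullback.of_hasPullback (CohB1.ProjSpace.toSpec n k) ψ)
    rw [pullback.lift_snd, hq]
    exact hpb
  haveI : Surjective ψ := ⟨fun y => ⟨⟨⊥, Ideal.isPrime_bot⟩, Subsingleton.elim _ _⟩⟩
  haveI : Flat ψ := inferInstance
  have hW : (@Surjective ⊓ @Flat ⊓ @QuasiCompact : MorphismProperty Scheme.{u})
      (pullback.fst (CohB1.ProjSpace.toSpec n k) ψ) :=
    ⟨⟨inferInstance, inferInstance⟩, inferInstance⟩
  exact MorphismProperty.of_isPullback_of_descendsAlong (P := @IsClosedImmersion) hsq.flip hW hr'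

end Groth.Curves1.RR
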