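import Mathlib
import Groth.Agent.Curves1.RR.PointDiv
import Groth.Agent.Curves1.RR.Powers
import Groth.Agent.Curves1.RR.GenusZeroP1
import Groth.Agent.AlgSp3.RedInduced
import Groth.Agent.Variety2.Normal
import Groth.Agent.VarietyBC.SmoothChart

/-!
# Two linearly equivalent rational points
-/

set_option linter.style.haveILetI false
set_option backward.isDefEq.respectTransparency.types false

universe u

open CategoryTheory Limits AlgebraicGeometry Coh TopologicalSpace Opposite

namespace Groth.Curves1.RR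

open Groth.EulerDeg Groth.PicAux

attribute [local instance] secModule Curv2.resAlgebra

/-- A connected normal noetherian scheme is integral. -/
theorem isIntegral_of_normal {X : Scheme.{u}} [IsNoetherian X] [ConnectedSpace X]
    (h : Pi1.IsNormalScheme X) : IsIntegral X := by
  haveI : ∀ x : X, _root_.IsReduced (X.presheaf.stalk x) := fun x => by
    haveI := (h x).1
    infer_instance
  haveI : IsReduced X := isReduced_of_isReduced_stalk X
  obtain ⟨x⟩ : Nonempty X := inferInstance
  have huniv : irreducibleComponent x = Set.univ :=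
    IsClopen.eq_univ ⟨isClosed_irreducibleComponent,
      Groth.Variety2.isOpen_irreducibleComponents (fun y => (h y).1)
        (irreducibleComponent_mem_irreducibleComponents x)⟩ ⟨x, mem_irreducibleComponent⟩
  haveI : IrreducibleSpace X := irreducibleSpace_def _ |>.2 (by
    rw [Set.top_eq_univ, ← huniv]; exact isIrreducible_irreducibleComponent)
  exact isIntegral_of_irreducibleSpace_of_isReduced X

variable (k : Type u) [Field k] {X : Scheme.{u}} [X.Over (Spec (CommRingCat.of k))]
  [IsProper (X ↘ Spec (CommRingCat.of k))]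

/-- The ideal of a rational point. -/
theorem exists_point_of_section (s : Spec (CommRingCat.of k) ⟶ X)
    (hs : s ≫ (X ↘ Spec (CommRingCat.of k)) = 𝟙 _) :
    IsClosedImmersion s ∧ ∃ (x : X) (hx : IsClosed ({x} : Set X)), s.ker = pointIdeal x hx ∧
      Module.finrank k (X.residueField x) = 1 := by
  haveI : IsClosedImmersion (s ≫ (X ↘ Spec (CommRingCat.of k))) := by rw [hs]; infer_instance
  haveI hc : IsClosedImmersion s := IsClosedImmersion.of_comp s (X ↘ Spec (CommRingCat.of k))
  obtain ⟨⟨x, φ⟩, hxs⟩ := (Scheme.SpecToEquivOfField k X).symm.surjective s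
  change Spec.map φ ≫ X.fromSpecResidueField x = s at hxs
  have hrange : Set.range s = {x} := by
    ext z
    simp only [Set.mem_range, Set.mem_singleton_iff]
    refine ⟨fun ⟨w, hw⟩ => ?_, fun h => ⟨default, ?_⟩⟩
    · rw [← hw, ← hxs, Scheme.Hom.comp_apply]
      exact X.fromSpecResidueField_apply x _
    · rw [h, ← hxs, Scheme.Hom.comp_apply]
      exact X.fromSpecResidueField_apply x _
  have hx : IsClosed ({x} : Set X) := hrange ▸ s.isClosedEmbedding.isClosed_range
  refine ⟨hc, x, hx, ?_, ?_⟩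
  · refine (Groth.AlgSp3.ker_eq_vanishingIdeal_of_isReduced s).trans (congrArg _ ?_)
    exact Closeds.ext (show closure (Set.range s) = {x} by rw [hrange, hx.closure_eq])
  · have h1 : CommRingCat.ofHom (algebraMap k (X.residueField x)) ≫ φ = 𝟙 _ := by
      refine Spec.map_injective ?_
      rw [Spec.map_comp, Spec.map_id, ← hs, ← hxs, Category.assoc,
        Groth.VarietyBC.fromSpecResidueField_str]
    have h2 : Function.Surjective (algebraMap k (X.residueField x)) := fun r =>
      ⟨φ r, φ.hom.injective (ConcreteCategory.congr_hom h1 (φ r))⟩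
    exact ((AlgEquiv.ofBijective (Algebra.ofId k (X.residueField x))
      ⟨RingHom.injective _, h2⟩).toLinearEquiv.finrank_eq).symm.trans (Module.finrank_self k)

variable [IsIntegral X]

omit [IsProper (X ↘ Spec (CommRingCat.of k))] [IsIntegral X] in
/-- Proportional sections have the same zero scheme. -/
theorem zeroScheme_eq_of_smul {L : X.Modules} (hL : PicF.IsInvertible L)
    (s t : structureModule X ⟶ L) {a : k} (ha : a ≠ 0)
    (h : t.app ⊤ (oneSec X ⊤) = a • s.app ⊤ (oneSec X ⊤)) :
    PicF2.zeroScheme L t = PicF2.zeroScheme L s := by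
  refine Divisors.ext_of_cover fun x => ?_
  obtain ⟨U, e, hU, hxU, he⟩ := exists_affine_gen_mem hL x
  obtain ⟨c, hc⟩ := he.exists_coeff le_rfl (res L (le_top : U ≤ ⊤) (s.app ⊤ (oneSec X ⊤)))
  rw [res_self] at hc
  have hs : s.app U (oneSec X U) = c • e := by
    rw [← hc, ← app_res, res_oneSec]
  have ht : t.app U (oneSec X U) = (toSec k U a * c) • e := by
    rw [← res_oneSec (le_top : U ≤ ⊤), app_res, h, smul_sec, res_smul, toSec_res, hc, smul_smul]
  refine ⟨⟨U, hU⟩, hxU, ?_⟩
  rw [Variety2.Zero.zeroScheme_ideal_eq_span hL t ⟨U, hU⟩ he ht,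
    Variety2.Zero.zeroScheme_ideal_eq_span hL s ⟨U, hU⟩ he hs,
    Ideal.span_singleton_mul_left_unit ((IsUnit.mk0 a ha).map (toSec k U))]

/-- **Two distinct linearly equivalent rational points force `P¹`.** -/
theorem iso_projectiveLine_of_linEquiv (hdim : topologicalKrullDim X = 1)
    (hn : Pi1.IsNormalScheme X) (x y : Spec (CommRingCat.of k) ⟶ X)
    (hx : x ≫ (X ↘ Spec (CommRingCat.of k)) = 𝟙 _) (hy : y ≫ (X ↘ Spec (CommRingCat.of k)) = 𝟙 _)
    (hxy : x ≠ y) (e : ClSub.idealMod x.ker ≅ ClSub.idealMod y.ker) :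
    ∃ e : X ≅ CohB1.ProjSpace 1 k,
      e.hom ≫ CohB1.ProjSpace.toSpec 1 k = X ↘ (Spec (CommRingCat.of k)) := by
  obtain ⟨hcx, x₀, hx₀, hkx, hrx⟩ := exists_point_of_section k x hx
  obtain ⟨hcy, y₀, hy₀, hky, -⟩ := exists_point_of_section k y hy
  have hDx := isEffCartierIdeal_pointIdeal k hdim x₀ hx₀ (hn x₀).2
  have hDy := isEffCartierIdeal_pointIdeal k hdim y₀ hy₀ (hn y₀).2
  rw [← hkx] at hDx
  rw [← hky] at hDy
  obtain ⟨L, hL, hLx⟩ := exists_isInverseOf (isInvertible_idealMod hDx)
  have hLx' := isInverseOf_symm hLx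
  have hdeg : Curv2.deg k X L 1 = 1 := by
    rw [deg_inverse_idealMod k hdim.le hDx hL hLx', hkx, finrank_quotMod_pointIdeal, hrx]
    rfl
  have hLy : ClSub.IsInverseOf L (ClSub.idealMod y.ker) := by
    obtain ⟨ψ⟩ := hLx'
    exact ⟨PicGrp.tensorModIso (Iso.refl L) e.symm ≪≫ ψ⟩
  obtain ⟨s, hs, -⟩ := exists_section_zeroScheme_eq hDx hLx'
  obtain ⟨t, ht, -⟩ := exists_section_zeroScheme_eq hDy hLy
  have hne : ∀ (z : Spec (CommRingCat.of k) ⟶ X) (z₀ : X) (hz₀ : IsClosed ({z₀} : Set X)),
      z.ker = pointIdeal z₀ hz₀ → ∀ u : structureModule X ⟶ L, PicF2.zeroScheme L u = z.ker →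
        u.app ⊤ (oneSec X ⊤) ≠ 0 := by
    intro z z₀ hz₀ hz u hu h0
    have hbot : ((pointIdeal z₀ hz₀).support : Set X) = Set.univ := by
      refine Set.eq_univ_iff_forall.2 fun w => ?_
      obtain ⟨U, f, hU, hwU, hf⟩ := exists_affine_gen_mem hL w
      refine (Scheme.IdealSheafData.mem_support_iff_of_mem (U := ⟨U, hU⟩) hwU).2 ?_
      rw [← hz, ← hu, Variety2.Zero.zeroScheme_ideal_eq_span hL u ⟨U, hU⟩ hf (c := 0) (by
        change u.app U (oneSec X U) = (0 : Γ(X, U)) • f
        rw [zero_smul, ← res_oneSec (le_top : U ≤ ⊤), app_res, h0, res_zero]),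
        Ideal.span_singleton_zero]
      simp
    rw [support_pointIdeal] at hbot
    haveI : Subsingleton X := ⟨fun a b =>
      (hbot.ge (Set.mem_univ a) : a ∈ ({z₀} : Set X)).trans
        (hbot.ge (Set.mem_univ b) : b ∈ ({z₀} : Set X)).symm⟩
    haveI : Subsingleton (IrreducibleCloseds X) := ⟨fun a b => IrreducibleCloseds.ext
      (a.isIrreducible.nonempty.eq_univ.trans b.isIrreducible.nonempty.eq_univ.symm)⟩
    have h2 : topologicalKrullDim X ≤ 0 := Order.krullDim_nonpos_of_subsingleton
    rw [hdim] at h2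
    exact absurd h2 (by norm_num)
  have h0 := h0_eq_one_of_deg_eq_one k hdim.le L hdeg
  haveI := finite_HH k X (isCoh_of_isInvertible hL) 0
  haveI : Module.Finite k Γ(L, (⊤ : X.Opens)) := Module.Finite.equiv (h0Equiv k L)
  have hv : s.app ⊤ (oneSec X ⊤) ≠ 0 := hne x x₀ hx₀ hkx s hs
  have hnt : Nontrivial (HH X L 0) := by
    have : Nontrivial Γ(L, (⊤ : X.Opens)) := nontrivial_of_ne _ _ hv
    exact (h0Equiv k L).toEquiv.nontrivial
  have h2 : 2 ≤ Module.finrank k (HH X L 0) := by
    rw [(h0Equiv k L).finrank_eq]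
    by_contra hlt
    have h1 : Module.finrank k Γ(L, (⊤ : X.Opens)) = 1 := by
      have := Module.finrank_pos_iff_exists_ne_zero (R := k) (M := Γ(L, (⊤ : X.Opens)))
      have h3 := this.2 ⟨_, hv⟩
      omega
    obtain ⟨a, ha⟩ := (finrank_eq_one_iff_of_nonzero' _ hv).1 h1 (t.app ⊤ (oneSec X ⊤))
    have ha0 : a ≠ 0 := fun h => hne y y₀ hy₀ hky t ht (by rw [← ha, h, zero_smul])
    have heq : x.ker = y.ker := by
      rw [← hs, ← ht]
      exact (zeroScheme_eq_of_smul k hL s t ha0 ha.symm).symm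
    haveI := hcx
    have hl := IsClosedImmersion.lift_fac x y heq.le
    refine hxy ?_
    have h5 : IsClosedImmersion.lift x y heq.le = 𝟙 _ :=
      (Category.comp_id _).symm.trans ((congrArg (IsClosedImmersion.lift x y heq.le ≫ ·) hx.symm).trans
        ((Category.assoc _ _ _).symm.trans
          ((congrArg (· ≫ (X ↘ Spec (CommRingCat.of k))) hl).trans hy)))
    rw [h5, Category.id_comp] at hl
    exact hl
  have hb := (h0_le_deg_add_one k hdim.le h0 hL hnt).2
  have hg := genus_eq_zero_of_h0_eq k hdim.le h0 hL (by omega) (by omega)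
  exact iso_projectiveLine k hdim h0 hg L hL hdeg

end Groth.Curves1.RR
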