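import Groth.Agent.Curves1.RR.GenusZero
import Groth.Agent.Curves1.RR.PointDiv
import Groth.Agent.Curves1.DimOne
import Groth.Agent.CurveNorm.Main
import Groth.Agent.CurveBridge.SubLine
import Groth.Agent.PicAux.EffCartierSection
import Groth.Agent.Ega4Algebra1.RegularNormal
import Groth.Agent.OmegaSheaf.Pull
import Groth.Agent.Curves1.CurveMor.Smooth

/-!
# Regular points of least degree on integral curves of genus zero
-/

set_option linter.style.haveILetI false

universe u

open CategoryTheory CategoryTheory.Limits AlgebraicGeometry TopologicalSpace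

namespace Groth.Curves1.RR.MinimalPoints

open Groth.EulerDeg Groth.PicAux Groth.Curves1.RR Groth.PropsBasic.Ample

attribute [local instance] secModule

variable (k : Type u) [Field k] (X : Scheme.{u}) [X.Over (Spec (CommRingCat.of k))]
  [IsIntegral X] [IsProper (X ↘ Spec (CommRingCat.of k))]

include k in
/-- The points with nonregular local ring form a finite set. -/
theorem finite_nonregular (hdim : topologicalKrullDim X = 1) :
    {x : X | ¬ IsRegularLocalRing (X.presheaf.stalk x)}.Finite := by
  have := isNoetherian_of_proper k X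
  obtain ⟨U, hU, hξ, -⟩ := exists_isAffineOpen_mem_and_subset (x := genericPoint X)
    (U := (⊤ : X.Opens)) trivial
  have : Nonempty (U : Scheme.{u}) := ⟨⟨_, hξ⟩⟩
  let π := X ↘ Spec (CommRingCat.of k)
  haveI := functionField_isFractionRing_of_isAffineOpen X U hU
  letI : Algebra k Γ(X, U) :=
    (CommRingCat.Hom.hom ((Scheme.ΓSpecIso (CommRingCat.of k)).inv ≫ π.appLE ⊤ U le_top)).toAlgebra
  haveI : Algebra.FiniteType k Γ(X, U) := by
    refine RingHom.finiteType_algebraMap.1 ?_
    refine RingHom.FiniteType.comp (π.finiteType_appLE (isAffineOpen_top _) hU le_top) ?_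
    exact RingHom.FiniteType.of_surjective _
      (ConcreteCategory.bijective_of_isIso (Scheme.ΓSpecIso (CommRingCat.of k)).inv).2
  have hN2 : CAlg.IsN2 Γ(X, U) :=
    Groth.Calg1.isN2_self_of_isNagata
      (Groth.Calg1.isNagata_of_finiteType (Groth.CurveNorm.isNagata_field k))
  haveI : Module.Finite Γ(X, U) (integralClosure Γ(X, U) X.functionField) :=
    Groth.Calg4.finite_ic_of_isN2 hN2 X.functionField X.functionField
  classical
  obtain ⟨G, hG⟩ := Module.Finite.fg_top (R := Γ(X, U)) (M := integralClosure Γ(X, U) X.functionField)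
  obtain ⟨c, hc⟩ := IsLocalization.exist_integer_multiples_of_finset
    (nonZeroDivisors Γ(X, U)) (G.image (Subtype.val : integralClosure Γ(X, U) X.functionField → X.functionField))
  have hall : ∀ y : integralClosure Γ(X, U) X.functionField,
      IsLocalization.IsInteger Γ(X, U) (c.1 • (y : X.functionField)) := by
    intro y
    have hy : y ∈ Submodule.span Γ(X, U) (G : Set (integralClosure Γ(X, U) X.functionField)) :=
      hG ▸ Submodule.mem_top
    refine Submodule.span_induction ?_ ?_ ?_ ?_ hy
    · intro z hz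
      exact hc _ (Finset.mem_image.2 ⟨z, hz, rfl⟩)
    · rw [ZeroMemClass.coe_zero, smul_zero]
      exact IsLocalization.isInteger_zero
    · intro a b _ _ ha hb
      rw [AddMemClass.coe_add, smul_add]
      exact IsLocalization.isInteger_add ha hb
    · intro r a _ ha
      rw [SetLike.val_smul, smul_comm]
      exact IsLocalization.isInteger_smul ha
  set V : X.Opens := X.basicOpen c.1
  have hVU : V ≤ U := X.basicOpen_le _
  have hne : (V : Set X)ᶜ ≠ Set.univ := by
    intro h
    rw [Set.compl_univ_iff] at h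
    exact nonZeroDivisors.coe_ne_zero c ((basicOpen_eq_bot_iff c.1).1 (SetLike.coe_injective h))
  refine (Groth.Curves1.finite_of_isClosed hdim.le V.isOpen.isClosed_compl hne).1.subset ?_
  intro x hx hxV
  refine hx ?_
  have hxU : x ∈ U := hVU hxV
  letI := TopCat.Presheaf.algebra_section_stalk X.presheaf (⟨x, hxU⟩ : U)
  set P := (hU.primeIdealOf ⟨x, hxU⟩).asIdeal
  haveI : IsLocalization.AtPrime (X.presheaf.stalk x) P := hU.isLocalization_stalk ⟨x, hxU⟩
  have hcu : IsUnit (algebraMap Γ(X, U) (X.presheaf.stalk x) c.1) :=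
    (X.mem_basicOpen c.1 x hxU).1 hxV
  haveI : IsScalarTower Γ(X, U) (X.presheaf.stalk x) X.functionField :=
    IsScalarTower.of_algebraMap_eq fun a => (Groth.CurveBridge.germ_generic U x hxU a).symm
  have hic : IsIntegrallyClosed (X.presheaf.stalk x) := by
    refine (isIntegrallyClosed_iff X.functionField).2 fun {y} hy => ?_
    obtain ⟨⟨s, hs⟩, hsy⟩ := IsIntegral.exists_multiple_integral_of_isLocalization P.primeCompl y hy
    obtain ⟨a, ha⟩ := hall ⟨_, hsy⟩
    have hsu : IsUnit (algebraMap Γ(X, U) (X.presheaf.stalk x) s) :=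
      IsLocalization.map_units (X.presheaf.stalk x) (⟨s, hs⟩ : P.primeCompl)
    obtain ⟨w, hw⟩ := (hcu.mul hsu).exists_left_inv
    refine ⟨w * algebraMap Γ(X, U) (X.presheaf.stalk x) a, ?_⟩
    have h1 : algebraMap (X.presheaf.stalk x) X.functionField
        (algebraMap Γ(X, U) (X.presheaf.stalk x) a) =
        algebraMap (X.presheaf.stalk x) X.functionField
          (algebraMap Γ(X, U) (X.presheaf.stalk x) c.1 * algebraMap Γ(X, U) (X.presheaf.stalk x) s) * y := by
      rw [map_mul, ← IsScalarTower.algebraMap_apply, ← IsScalarTower.algebraMap_apply,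
        ← IsScalarTower.algebraMap_apply, ha]
      simp only [Submonoid.smul_def, Algebra.smul_def]
      ring
    rw [map_mul, h1, ← mul_assoc, ← map_mul, hw, map_one, one_mul]
  haveI : Ring.KrullDimLE 1 (X.presheaf.stalk x) :=
    Ring.krullDimLE_iff.2 (Groth.VarietyBC.CurveProj.stalk_dim_le hdim.le x)
  haveI : (⊥ : Ideal (X.presheaf.stalk x)).IsPrime := Ideal.isPrime_bot
  haveI : Ring.DimensionLEOne (X.presheaf.stalk x) :=
    ⟨fun {p} hp h => Ring.krullDimLE_one_iff_of_isPrime_bot.1 inferInstance p hp h⟩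
  haveI : IsDedekindDomain (X.presheaf.stalk x) := { }
  haveI : IsPrincipalIdealRing (X.presheaf.stalk x) := by
    by_cases hF : IsField (X.presheaf.stalk x)
    · letI := hF.toField; infer_instance
    · haveI : IsDiscreteValuationRing (X.presheaf.stalk x) :=
        ((IsDiscreteValuationRing.TFAE (X.presheaf.stalk x) hF).out 2 0 :
          IsDedekindDomain (X.presheaf.stalk x) ↔ IsDiscreteValuationRing (X.presheaf.stalk x)).1 ‹_›
      infer_instance
  infer_instance

variable {X}

include k in
/-- A closed point with regular local ring has invertible ideal. -/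
theorem isEffCartierIdeal_of_regular (hdim : topologicalKrullDim X = 1) (x : X)
    (hx : IsClosed ({x} : Set X)) (hr : IsRegularLocalRing (X.presheaf.stalk x)) :
    BlowUp.IsEffCartierIdeal (pointIdeal x hx) :=
  isEffCartierIdeal_pointIdeal k hdim x hx
    (Groth.Ega4Algebra1.isIntegrallyClosed_of_isRegularLocalRing _)

omit [IsIntegral X] in
/-- A closed point has positive degree. -/
theorem finrank_pointIdeal_pos (x : X) (hx : IsClosed ({x} : Set X)) :
    0 < Module.finrank k (Coh.HH X (ClSub.quotMod (pointIdeal x hx)) 0) := by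
  letI := Curv2.resAlgebra k X x
  rw [finrank_quotMod_pointIdeal k x hx]
  haveI := Groth.Curves1.CurveMor.finite_residueField_of_isClosed (k := k) hx
  exact Module.finrank_pos

theorem deg_idealMod (hdim : topologicalKrullDim X ≤ 1) {D : X.IdealSheafData}
    (hD : BlowUp.IsEffCartierIdeal D) :
    Curv2.deg k X (ClSub.idealMod D) 1 =
      -(Module.finrank k (Coh.HH X (ClSub.quotMod D) 0) : ℤ) := by
  have hI := isInvertible_idealMod hD
  obtain ⟨M, hM, hIM⟩ := exists_isInverseOf hI
  have h1 := deg_inverse_idealMod k hdim hD hM (isInverseOf_symm hIM)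
  have h2 := deg_tensor_invertible k hdim hI hM
  rw [deg_congr (k := k) hIM.some] at h2
  have h3 : Curv2.deg k X (Coh.structureModule X) 1 = 0 := by simp [Curv2.deg]
  omega

omit [IsIntegral X] in
/-- A section generating at the image of a point does not pull back to zero. -/
theorem pullSec_ne_zero {Y : Scheme.{u}} (f : Y ⟶ X) {M : X.Modules} (t : Γ(M, ⊤)) (z : Y)
    (hz : f z ∈ gloc t) : pullSec f M t ≠ 0 := by
  intro h0
  have hgen := (gen_gloc t (V := gloc t) le_rfl).pull f
  have hzero : pullSec f M (res M (le_top : gloc t ≤ ⊤) t) = 0 :=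
    (res_pullSec f M (le_top : gloc t ≤ ⊤) t).symm.trans
      ((congrArg (res ((Scheme.Modules.pullback f).obj M) (f.preimage_mono (le_top : gloc t ≤ ⊤))) h0).trans
        (res_zero _))
  have h3 : (1 : Γ(Y, f ⁻¹ᵁ gloc t)) = 0 :=
    hgen.smul_inj le_rfl (by rw [res_self, hzero, smul_zero, smul_zero])
  have h4 := congrArg (Y.presheaf.germ (f ⁻¹ᵁ gloc t) z hz) h3
  rw [map_one, map_zero] at h4
  exact one_ne_zero h4

/-- A section of an invertible module and its zero scheme. -/
theorem exists_zeroScheme {L : X.Modules} (hL : PicF.IsInvertible L) (t : Γ(L, ⊤)) (ht : t ≠ 0) :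
    ∃ Z : X.IdealSheafData, BlowUp.IsEffCartierIdeal Z ∧ ClSub.IsInverseOf L (ClSub.idealMod Z) ∧
      ∀ x ∈ gloc t, x ∉ Z.support := by
  have hs : homOfSection t ≠ 0 := fun h => ht (by
    rw [← homOfSection_one t, h]; rfl)
  have hreg := regularSection_of_ne_zero hL hs
  refine ⟨_, isEffCartierIdeal_zeroScheme hL hreg, isInverseOf_zeroScheme hL hreg, fun x hx => ?_⟩
  refine (mem_genLocus_iff_not_mem_support hL (homOfSection t) x).1 ?_
  exact hx

variable (hdim : topologicalKrullDim X = 1) (hg : Curv2.genus k X = 0)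
include hdim hg

theorem euler_pos {L : X.Modules} (hd : 0 ≤ Curv2.deg k X L 1) :
    0 < Module.finrank k (Coh.HH X L 0) := by
  have e1 := euler_eq_deg_add k (X := X) L 1
  have e2 := euler_structure k X hdim.le
  have e3 := euler_eq_h0_sub_h1 k X hdim.le L
  have hpos : 0 < Module.finrank k (Coh.HH X (Coh.structureModule X) 0) := by
    have := finite_HH k X (isCoh_of_isInvertible (isInvertible_structureModule X)) 0
    haveI : Nontrivial (Coh.HH X (Coh.structureModule X) 0) := by
      haveI : Nontrivial Γ(Coh.structureModule X, (⊤ : X.Opens)) :=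
        inferInstanceAs (Nontrivial Γ(X, ⊤))
      exact (h0Equiv k (Coh.structureModule X)).toEquiv.nontrivial
    exact Module.finrank_pos
  rw [hg] at e2
  push_cast at e1 e2
  omega

/-- Invertible modules of degree zero are trivial. -/
theorem nonempty_iso_structure {L : X.Modules} (hL : PicF.IsInvertible L)
    (hd : Curv2.deg k X L 1 = 0) : Nonempty (L ≅ Coh.structureModule X) := by
  have := isNoetherian_of_proper k X
  have := finite_HH k X (isCoh_of_isInvertible hL) 0
  haveI : Nontrivial (Coh.HH X L 0) := Module.nontrivial_of_finrank_pos (euler_pos k hdim hg hd.ge)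
  haveI : Nontrivial Γ(L, (⊤ : X.Opens)) := (h0Equiv k L).toEquiv.symm.nontrivial
  obtain ⟨t, ht⟩ := exists_ne (0 : Γ(L, (⊤ : X.Opens)))
  obtain ⟨Z, hZ, hLZ, -⟩ := exists_zeroScheme hL t ht
  have h0 := deg_inverse_idealMod k hdim.le hZ hL hLZ
  rw [hd] at h0
  have := finite_HH k X (isCoh_quotMod Z) 0
  haveI : Subsingleton (Coh.HH X (ClSub.quotMod Z) 0) :=
    (Module.finrank_zero_iff (R := k)).1 (by omega)
  have hz : IsZero (ClSub.quotMod Z) := isZero_of_subsingleton_H0
    (supportedAtClosed_quotMod hdim.le hZ) inferInstance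
  have h1 : IsIso (ClSub.idealModι Z) :=
    (Groth.PicAux.shortExact_idealMod Z).isIso_f_iff.2 hz
  exact ⟨(SecTwist.unitorR L).symm ≪≫ PicGrp.tensorModIso (Iso.refl L) (asIso (ClSub.idealModι Z)).symm
    ≪≫ hLZ.some⟩

/-- A degree is at least the degree of some regular point outside a given finite set. -/
theorem exists_regular_point [Infinite k] (S : Set X) (hS : S.Finite) {M : X.Modules}
    (hM : PicF.IsInvertible M) (hpos : 0 < Curv2.deg k X M 1) :
    ∃ (x : X) (hx : IsClosed ({x} : Set X)), x ∉ S ∧ IsRegularLocalRing (X.presheaf.stalk x) ∧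
      (Module.finrank k (Coh.HH X (ClSub.quotMod (Scheme.IdealSheafData.vanishingIdeal ⟨{x}, hx⟩)) 0) : ℤ) ≤
        Curv2.deg k X M 1 := by
  classical
  have := isNoetherian_of_proper k X
  have := finite_HH k X (isCoh_of_isInvertible hM) 0
  have hlt : Curv2.genus k X < Module.finrank k (Coh.HH X M 0) := by
    rw [hg]; exact euler_pos k hdim hg hpos.le
  have hW : ∀ y : X, IsClosed ({y} : Set X) →
      LinearMap.ker (Groth.EulerDeg.hMap k (evalAt M y) 0) ≠ ⊤ := by
    intro y hy htop
    obtain ⟨t, ht⟩ := exists_mem_gloc k hdim.le hM hlt hy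
    have h0 : (evalAt M y).app ⊤ t = 0 := by
      have := LinearMap.mem_ker.1 (htop.ge (Submodule.mem_top (x := (h0Equiv k M).symm t)))
      have h2 := congrArg (h0Equiv k _) this
      rwa [h0Equiv_hMap, LinearEquiv.apply_symm_apply, map_zero] at h2
    exact pullSec_ne_zero (X.fromSpecResidueField y) t default
      (by rw [X.fromSpecResidueField_apply]; exact ht) h0
  obtain ⟨y₀, -, hy₀⟩ := IsClosed.exists_closed_singleton (isClosed_univ (X := X)) Set.univ_nonempty
  let T : Set X := insert y₀ {y : X | IsClosed ({y} : Set X) ∧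
    (y ∈ S ∨ ¬ IsRegularLocalRing (X.presheaf.stalk y))}
  have hTf : T.Finite := ((hS.union (finite_nonregular k X hdim)).subset fun y hy => hy.2).insert _
  have := hTf.to_subtype
  obtain ⟨v, hv⟩ := Submodule.exists_forall_notMem_of_forall_ne_top
    (fun y : T => LinearMap.ker (Groth.EulerDeg.hMap k (evalAt M y.1) 0))
    (fun y => hW y.1 (y.2.elim (fun h => h ▸ hy₀) fun h => h.1))
  set t := h0Equiv k M v with htdef
  have hmem : ∀ y ∈ T, y ∈ gloc t := by
    intro y hy
    by_contra hn
    refine hv ⟨y, hy⟩ (LinearMap.mem_ker.2 ?_)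
    refine (h0Equiv k _).map_eq_zero_iff.1 ?_
    rw [h0Equiv_hMap]
    exact evalAt_eq_zero hM _ hn
  have ht0 : t ≠ 0 := fun h => hv ⟨y₀, Or.inl rfl⟩ (by
    rw [show v = 0 from (h0Equiv k M).map_eq_zero_iff.1 h]; exact Submodule.zero_mem _)
  obtain ⟨Z, hZ, hMZ, hsupp⟩ := exists_zeroScheme hM t ht0
  have hdeg := deg_inverse_idealMod k hdim.le hZ hM hMZ
  have hne : (Z.support : Set X).Nonempty := by
    rw [Set.nonempty_iff_ne_empty]
    intro he
    have hz : IsZero (ClSub.quotMod Z) := by
      rw [Groth.QCohMod.isZero_iff_support_eq_empty]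
      exact Set.subset_empty_iff.1 ((support_quotMod_subset Z).trans he.subset)
    haveI : Subsingleton Γ(ClSub.quotMod Z, (⊤ : X.Opens)) := ⟨fun a b => by
      have h0 : (𝟙 (ClSub.quotMod Z) : ClSub.quotMod Z ⟶ ClSub.quotMod Z) = 0 := hz.eq_of_src _ _
      exact (congr($(congrArg (fun φ => Scheme.Modules.Hom.app φ ⊤) h0) a)).trans
        (congr($(congrArg (fun φ => Scheme.Modules.Hom.app φ ⊤) h0) b)).symm⟩
    haveI : Subsingleton (Coh.HH X (ClSub.quotMod Z) 0) :=
      (h0Equiv k (ClSub.quotMod Z)).toEquiv.subsingleton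
    rw [Module.finrank_zero_of_subsingleton] at hdeg
    omega
  obtain ⟨x, hxZ, hx⟩ := IsClosed.exists_closed_singleton Z.support.isClosed hne
  have hxT : x ∉ T := fun h => hsupp x (hmem x h) hxZ
  have hxS : x ∉ S := fun h => hxT (Or.inr ⟨hx, Or.inl h⟩)
  have hxr : IsRegularLocalRing (X.presheaf.stalk x) := by
    by_contra h
    exact hxT (Or.inr ⟨hx, Or.inr h⟩)
  refine ⟨x, hx, hxS, hxr, ?_⟩
  have hI := isEffCartierIdeal_of_regular k hdim x hx hxr
  have hle : Z ≤ pointIdeal x hx :=
    Scheme.IdealSheafData.le_support_iff_le_vanishingIdeal.1 (Set.singleton_subset_iff.2 hxZ)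
  obtain ⟨j, hj⟩ : ∃ j : ClSub.idealMod Z ⟶ ClSub.idealMod (pointIdeal x hx),
      j ≫ ClSub.idealModι _ = ClSub.idealModι Z := by
    refine ⟨kernel.lift (ClSub.toSubscheme (pointIdeal x hx)) (ClSub.idealModι Z) ?_, kernel.lift_ι _ _ _⟩
    ext W s
    show (pointIdeal x hx).subschemeι.app W (OmegaSh.idealSect Z W s) = 0
    have := Scheme.Hom.congr_app (Scheme.IdealSheafData.inclusion_subschemeι hle).symm W
    rw [this, Scheme.Hom.comp_app]
    change (pointIdeal x hx).subscheme.presheaf.map _ ((Scheme.IdealSheafData.inclusion hle).app _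
      (Z.subschemeι.app W (OmegaSh.idealSect Z W s))) = 0
    rw [Groth.OmegaSheaf.subschemeι_app_idealSect, map_zero, map_zero]
  haveI : Mono (ClSub.idealModι Z) := inferInstanceAs (Mono (kernel.ι _))
  haveI : Mono (j ≫ ClSub.idealModι (pointIdeal x hx)) := by rw [hj]; infer_instance
  haveI : Mono j := mono_of_mono j (ClSub.idealModι (pointIdeal x hx))
  have hle2 := Groth.CurveBridge.deg_le_of_mono j k hdim (isInvertible_idealMod hZ)
    (isInvertible_idealMod hI)
  rw [deg_idealMod k hdim.le hZ, deg_idealMod k hdim.le hI] at hle2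
  change (Module.finrank k (Coh.HH X (ClSub.quotMod (pointIdeal x hx)) 0) : ℤ) ≤ _
  omega

end Groth.Curves1.RR.MinimalPoints
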