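import Mathlib
import Groth.Agent.Curves1.RR.SpanLemma
import Groth.Agent.EulerDeg.DimOne
import Groth.Agent.QCohMod.SubMod
import Groth.Agent.RefRank.Stalk

/-!
# Sections vanishing at a set of points; the filtration of `H¹` it induces

For a module `M` on a curve and a set `A` of non-closed points, `N A M ⊆ H¹(M)` is the image of the
`H¹` of the sheaf of sections whose germs vanish at the points of `A`.
-/

set_option linter.style.haveILetI false
set_option backward.isDefEq.respectTransparency.types false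

universe u

open CategoryTheory Limits AlgebraicGeometry Coh TopologicalSpace Opposite

namespace Groth.Curves1.RR.Red

open Groth.EulerDeg
open Groth.CohTwo (stalkLin stalkLin_germ stalkLin_comp stalkLin_zero)

variable {X : Scheme.{u}}

/-- Sections whose germs vanish at the points of `A`. -/
noncomputable def vanish (A : Set X) (M : X.Modules) : Groth.QCohMod.SubMod M where
  mem W :=
    { carrier := {t | ∀ η ∈ A, ∀ h : η ∈ W, Groth.QCohMod.germ M η h t = 0}
      add_mem' := fun hs ht η hη h => by rw [map_add, hs η hη h, ht η hη h, add_zero]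
      zero_mem' := fun η _ h => map_zero _
      smul_mem' := fun r s hs η hη h => by
        rw [Groth.QCohMod.germ_smul, hs η hη h, smul_zero] }
  res_mem {W W'} h s hs η hη hW' :=
    (Groth.QCohMod.germ_res M h η hW' s).trans (hs η hη (h hW'))
  local_mem {W} s hs η hη hW := by
    obtain ⟨W', h, hx, hs'⟩ := hs η hW
    rw [← Groth.QCohMod.germ_res M h η hx s]
    exact hs' η hη hx

/-- The sheaf of sections vanishing on `A`, included in `M`. -/
noncomputable abbrev vι (A : Set X) (M : X.Modules) : (vanish A M).toMod ⟶ M := (vanish A M).ι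

theorem stalkLin_injective {M M' : X.Modules} (φ : M ⟶ M') [Mono φ] (x : X) :
    Function.Injective (stalkLin φ x) :=
  (Groth.QCohMod.mono_iff_stalk φ).1 inferInstance x

theorem stalkLin_surjective {M M' : X.Modules} (φ : M ⟶ M') [Epi φ] (x : X) :
    Function.Surjective (stalkLin φ x) :=
  (Groth.QCohMod.epi_iff_stalk φ).1 inferInstance x

theorem stalk_vι_eq_zero {A : Set X} {M : X.Modules} {η : X} (hη : η ∈ A)
    (z : (vanish A M).toMod.presheaf.stalk η) : stalkLin (vι A M) η z = 0 := by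
  obtain ⟨U, hU, s, rfl⟩ := Groth.QCohMod.exists_germ _ η z
  exact (stalkLin_germ _ η hU s).trans ((vanish A M).ι_app_mem s η hη hU)

theorem stalk_toMod_eq_zero {A : Set X} {M : X.Modules} {η : X} (hη : η ∈ A)
    (z : (vanish A M).toMod.presheaf.stalk η) : z = 0 :=
  stalkLin_injective (vι A M) η ((stalk_vι_eq_zero hη z).trans (map_zero _).symm)

/-- A map vanishing at the points of `A` factors through the sections vanishing there. -/
theorem exists_lift {A : Set X} {N M : X.Modules} (φ : N ⟶ M)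
    (h : ∀ η ∈ A, ∀ z, stalkLin φ η z = 0) : ∃ ψ : N ⟶ (vanish A M).toMod, ψ ≫ vι A M = φ := by
  have hmem : ∀ (W : X.Opens) (s : Γ(N, W)), φ.app W s ∈ (vanish A M).mem W := fun W s η hη hW =>
    (stalkLin_germ φ η hW s).symm.trans (h η hη _)
  refine ⟨⟨PresheafOfModules.homMk
    { app := fun W => AddCommGrpCat.ofHom (AddMonoidHom.mk'
        (fun (s : Γ(N, W.unop)) => (⟨φ.app W.unop s, hmem _ s⟩ : (vanish A M).mem W.unop))
        (fun s t => Subtype.ext (map_add _ _ _)))
      naturality := fun W W' i => by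
        ext s
        exact Subtype.ext (Groth.QCohMod.res_app φ (leOfHom i.unop) s).symm }
    (fun W r s => Subtype.ext (φ.app_smul _ _))⟩, ?_⟩
  exact Groth.CohTwo.hom_ext_app fun W s => rfl

/-- Away from the closure of finitely many points, vanishing at them is no condition. -/
theorem stalk_vι_surjective {A : Set X} (hA : A.Finite) {M : X.Modules} {y : X}
    (hy : ∀ η ∈ A, ¬ η ⤳ y) : Function.Surjective (stalkLin (vι A M) y) := by
  intro z
  obtain ⟨U, hU, s, rfl⟩ := Groth.QCohMod.exists_germ M y z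
  let W : X.Opens := U ⊓ ⟨(⋃ η ∈ A, closure ({η} : Set X))ᶜ,
    (hA.isClosed_biUnion fun _ _ => isClosed_closure).isOpen_compl⟩
  have hyW : y ∈ W := ⟨hU, fun h => by
    simp only [Set.mem_iUnion] at h
    obtain ⟨η, hη, hyη⟩ := h
    exact hy η hη (specializes_iff_mem_closure.2 hyη)⟩
  obtain ⟨t, ht⟩ := (vanish A M).exists_ι_app_eq (Groth.QCohMod.res M (inf_le_left : W ≤ U) s)
    fun η hη hW => absurd (Set.mem_biUnion hη (subset_closure (Set.mem_singleton η))) hW.2
  refine ⟨Groth.QCohMod.germ _ y hyW t, ?_⟩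
  exact (stalkLin_germ (vι A M) y hyW t).trans
    ((congrArg _ ht).trans (Groth.QCohMod.germ_res M inf_le_left y hyW s))

/-- A cokernel is supported at closed points when the map is surjective at the others. -/
theorem supportedAtClosed_cokernel {A B : X.Modules} (φ : A ⟶ B)
    (h : ∀ η : X, ¬ IsClosed ({η} : Set X) → Function.Surjective (stalkLin φ η)) :
    SupportedAtClosed (cokernel φ) := by
  intro x hx
  by_contra hc
  have : Epi ((Groth.QCohMod.stalk x).map φ) := (AddCommGrpCat.epi_iff_surjective _).2 (h x hc)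
  exact hx (AddCommGrpCat.subsingleton_of_isZero
    ((isZero_cokernel_of_epi ((Groth.QCohMod.stalk x).map φ)).of_iso
      (PreservesCokernel.iso (Groth.QCohMod.stalk x) φ)))

variable (k : Type u) [Field k] [X.Over (Spec (CommRingCat.of k))] [NoetherianSpace X]

omit [NoetherianSpace X] in
theorem hMap_zero_apply (M M' : X.Modules) (n : ℕ) (x : HH X M n) :
    hMap k (0 : M ⟶ M') n x = 0 := by
  have h := hMap_add (k := k) (0 : M ⟶ M') 0 n x
  rw [add_zero] at h
  exact left_eq_add.1 h

omit [NoetherianSpace X] in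
theorem hMap_comp_apply {A B C : X.Modules} (φ : A ⟶ B) (ψ : B ⟶ C) (n : ℕ) (x : HH X A n) :
    hMap k (φ ≫ ψ) n x = hMap k ψ n (hMap k φ n x) := by
  rw [hMap_comp, LinearMap.comp_apply]

/-- A map surjective at the non-closed points is surjective on `H¹`. -/
theorem surjective_h1 (hdim : topologicalKrullDim X ≤ 1) {A B : X.Modules} (φ : A ⟶ B)
    (h : ∀ η : X, ¬ IsClosed ({η} : Set X) → Function.Surjective (stalkLin φ η)) :
    Function.Surjective (hMap k φ 1) := by
  have he : Function.Surjective (hMap k (Abelian.factorThruImage φ) 1) := by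
    let S := ShortComplex.mk (kernel.ι (Abelian.factorThruImage φ)) (Abelian.factorThruImage φ)
      (kernel.condition _)
    have hS : S.ShortExact :=
      { exact := ShortComplex.exact_of_f_is_kernel _ (kernelIsKernel _) }
    have := subsingleton_HH_of_dim_le_one X hdim (kernel (Abelian.factorThruImage φ)) 2 le_rfl
    exact fun y => (exact_right k hS 1 y).1 (Subsingleton.elim _ _)
  have hi : Function.Surjective (hMap k (Abelian.image.ι φ) 1) := by
    refine surjective_h1_of_supportedAtClosed k _ (supportedAtClosed_cokernel _ fun η hη t => ?_)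
    obtain ⟨s, hs⟩ := h η hη t
    refine ⟨stalkLin (Abelian.factorThruImage φ) η s, ?_⟩
    rw [← stalkLin_comp, Abelian.image.fac, hs]
  have hcomp : ⇑(hMap k φ 1) = ⇑(hMap k (Abelian.image.ι φ) 1) ∘
      ⇑(hMap k (Abelian.factorThruImage φ) 1) := funext fun x => by
    rw [Function.comp_apply, ← hMap_comp_apply, Abelian.image.fac]
  rw [hcomp]
  exact hi.comp he

/-- A map vanishing at the non-closed points vanishes on `H¹`. -/
theorem hMap_eq_zero {A B : X.Modules} (φ : A ⟶ B)
    (h : ∀ η : X, ¬ IsClosed ({η} : Set X) → ∀ z, stalkLin φ η z = 0) (x : HH X A 1) :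
    hMap k φ 1 x = 0 := by
  have hI : SupportedAtClosed (Abelian.image φ) := fun η hη => by
    by_contra hc
    refine hη (subsingleton_of_forall_eq 0 fun t => ?_)
    obtain ⟨s, rfl⟩ := stalkLin_surjective (Abelian.factorThruImage φ) η t
    refine stalkLin_injective (Abelian.image.ι φ) η ?_
    rw [map_zero, ← stalkLin_comp, Abelian.image.fac, h η hc s]
  have := subsingleton_HH_succ_of_supportedAtClosed hI 0
  rw [← Abelian.image.fac φ, hMap_comp_apply,
    Subsingleton.elim (hMap k (Abelian.factorThruImage φ) 1 x) 0, map_zero]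

/-- The image in `H¹(M)` of the `H¹` of the sections vanishing on `A`. -/
noncomputable def N (A : Set X) (M : X.Modules) : Submodule k (HH X M 1) :=
  LinearMap.range (hMap k (vι A M) 1)

omit [NoetherianSpace X] in
theorem range_le_N {A : Set X} {M' M : X.Modules} (φ : M' ⟶ M)
    (h : ∀ η ∈ A, ∀ z, stalkLin φ η z = 0) : LinearMap.range (hMap k φ 1) ≤ N k A M := by
  obtain ⟨ψ, hψ⟩ := exists_lift φ h
  rintro _ ⟨x, rfl⟩
  exact ⟨hMap k ψ 1 x, by rw [← hMap_comp_apply, hψ]⟩

omit [NoetherianSpace X] in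
theorem N_anti {A B : Set X} (h : A ⊆ B) (M : X.Modules) : N k B M ≤ N k A M :=
  range_le_N k (vι B M) fun _ hη z => stalk_vι_eq_zero (h hη) z

omit [NoetherianSpace X] in
theorem map_N_le {A : Set X} {M M' : X.Modules} (φ : M ⟶ M') :
    (N k A M).map (hMap k φ 1) ≤ N k A M' := by
  rintro _ ⟨_, ⟨x, rfl⟩, rfl⟩
  rw [← hMap_comp_apply]
  exact range_le_N k (vι A M ≫ φ)
    (fun η hη z => by rw [stalkLin_comp, stalk_vι_eq_zero hη z, map_zero]) ⟨x, rfl⟩

theorem N_eq_bot {A : Set X} {M : X.Modules}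
    (h : ∀ η : X, ¬ IsClosed ({η} : Set X) → η ∉ A → Subsingleton (M.presheaf.stalk η)) :
    N k A M = ⊥ := by
  rw [N, LinearMap.range_eq_bot]
  refine LinearMap.ext fun x => hMap_eq_zero k _ (fun η hη z => ?_) x
  by_cases hA : η ∈ A
  · exact stalk_vι_eq_zero hA z
  · exact @Subsingleton.elim _ (h η hη hA) _ _

theorem N_le_ker {A : Set X} {M M' : X.Modules} (φ : M ⟶ M')
    (h : ∀ η : X, ¬ IsClosed ({η} : Set X) → η ∉ A → ∀ z, stalkLin φ η z = 0) :
    N k A M ≤ LinearMap.ker (hMap k φ 1) := by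
  rintro _ ⟨x, rfl⟩
  rw [LinearMap.mem_ker, ← hMap_comp_apply]
  refine hMap_eq_zero k _ (fun η hη z => ?_) x
  rw [stalkLin_comp]
  by_cases hA : η ∈ A
  · rw [stalk_vι_eq_zero hA, map_zero]
  · exact h η hη hA _

omit [NoetherianSpace X] in
theorem ker_le_N {A : Set X} {M M' : X.Modules} (φ : M ⟶ M') [Epi φ]
    (h : ∀ η ∈ A, Function.Injective (stalkLin φ η)) :
    LinearMap.ker (hMap k φ 1) ≤ N k A M := by
  let S := ShortComplex.mk (kernel.ι φ) φ (kernel.condition φ)
  have hS : S.ShortExact := { exact := ShortComplex.exact_of_f_is_kernel _ (kernelIsKernel φ) }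
  intro x hx
  obtain ⟨y, rfl⟩ := (exact_mid k hS 1 x).1 (LinearMap.mem_ker.1 hx)
  refine range_le_N k (kernel.ι φ) (fun η hη z => h η hη ?_) ⟨y, rfl⟩
  rw [map_zero, ← stalkLin_comp, kernel.condition, stalkLin_zero]

variable {k}

omit [NoetherianSpace X] in
/-- The finitely many non-closed points form an antichain. -/
theorem not_specializes (hgen : ∀ x y : X, ¬ IsClosed ({x} : Set X) → ¬ IsClosed ({y} : Set X) →
      x ⤳ y → x = y)
    {A : Set X} (hA : ∀ η ∈ A, ¬ IsClosed ({η} : Set X)) {y : X} (hy : ¬ IsClosed ({y} : Set X))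
    (hyA : y ∉ A) : ∀ η ∈ A, ¬ η ⤳ y :=
  fun η hη h => hyA (hgen η y (hA η hη) hy h ▸ hη)

variable (k)

/-- Vanishing on `A ∩ B` is spanned by vanishing on `A` and on `B`. -/
theorem N_inter_le (hdim : topologicalKrullDim X ≤ 1)
    (hgen : ∀ x y : X, ¬ IsClosed ({x} : Set X) → ¬ IsClosed ({y} : Set X) → x ⤳ y → x = y)
    {A B : Set X} (hAf : A.Finite) (hBf : B.Finite) (hA : ∀ η ∈ A, ¬ IsClosed ({η} : Set X))
    (hB : ∀ η ∈ B, ¬ IsClosed ({η} : Set X)) (M : X.Modules) :
    N k (A ∩ B) M ≤ N k A M ⊔ N k B M := by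
  obtain ⟨a, ha⟩ := exists_lift (A := A ∩ B) (vι A M) fun η hη z => stalk_vι_eq_zero hη.1 z
  obtain ⟨b, hb⟩ := exists_lift (A := A ∩ B) (vι B M) fun η hη z => stalk_vι_eq_zero hη.2 z
  let c : (vanish A M).toMod ⊞ (vanish B M).toMod ⟶ (vanish (A ∩ B) M).toMod := biprod.desc a b
  have hc : Function.Surjective (hMap k c 1) := surjective_h1 k hdim c fun η hη z => by
    by_cases hηA : η ∈ A
    · by_cases hηB : η ∈ B
      · exact ⟨0, (map_zero _).trans (stalk_toMod_eq_zero (A := A ∩ B) ⟨hηA, hηB⟩ z).symm⟩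
      · obtain ⟨w, hw⟩ := stalk_vι_surjective hBf (not_specializes hgen hB hη hηB)
          (stalkLin (vι (A ∩ B) M) η z)
        refine ⟨stalkLin biprod.inr η w, stalkLin_injective (vι (A ∩ B) M) η ?_⟩
        rw [← stalkLin_comp, ← stalkLin_comp]
        simp only [c, biprod.inr_desc_assoc, hb, hw]
    · obtain ⟨w, hw⟩ := stalk_vι_surjective hAf (not_specializes hgen hA hη hηA)
        (stalkLin (vι (A ∩ B) M) η z)
      refine ⟨stalkLin biprod.inl η w, stalkLin_injective (vι (A ∩ B) M) η ?_⟩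
      rw [← stalkLin_comp, ← stalkLin_comp]
      simp only [c, biprod.inl_desc_assoc, ha, hw]
  rintro _ ⟨x, rfl⟩
  obtain ⟨w, rfl⟩ := hc x
  have hw : c ≫ vι (A ∩ B) M = biprod.fst ≫ vι A M + biprod.snd ≫ vι B M := by
    refine biprod.hom_ext' _ _ ?_ ?_ <;> simp [c, ha, hb]
  rw [← hMap_comp_apply, hw, hMap_add, hMap_comp_apply, hMap_comp_apply]
  exact Submodule.add_mem_sup (LinearMap.mem_range_self _ _) (LinearMap.mem_range_self _ _)

/-- If `a : P ⟶ L` and `b : Q ⟶ L` are jointly surjective and `b` is injective at the points of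
`A`, where `a` vanishes, a class of `Q` mapped into the image of `a` vanishes on `A`. -/
theorem mem_N_of_pair {A : Set X} {P Q L : X.Modules} (a : P ⟶ L) (b : Q ⟶ L)
    [Epi (biprod.desc a b)] (ha : ∀ η ∈ A, ∀ z, stalkLin a η z = 0)
    (hb : ∀ η ∈ A, Function.Injective (stalkLin b η)) {m : HH X Q 1} {p : HH X P 1}
    (h : hMap k b 1 m = hMap k a 1 p) : m ∈ N k A Q := by
  let c := biprod.desc a b
  let S := ShortComplex.mk (kernel.ι c) c (kernel.condition c)
  have hS : S.ShortExact := { exact := ShortComplex.exact_of_f_is_kernel _ (kernelIsKernel c) }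
  obtain ⟨y, hy⟩ := (exact_mid k hS 1
      (hMap k biprod.inr 1 m - hMap k biprod.inl 1 p : HH X (P ⊞ Q) 1)).1 (by
    change hMap k c 1 _ = 0
    rw [map_sub, ← hMap_comp_apply, ← hMap_comp_apply]
    simp only [c, biprod.inr_desc, biprod.inl_desc, h, sub_self])
  have hm : hMap k (kernel.ι c ≫ biprod.snd) 1 y = m := by
    rw [hMap_comp_apply, show hMap k (kernel.ι c) 1 y = _ from hy, map_sub, ← hMap_comp_apply,
      ← hMap_comp_apply]
    simp only [biprod.inr_snd, biprod.inl_snd]
    rw [hMap_zero_apply, sub_zero, hMap_id]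
    rfl
  rw [← hm]
  refine range_le_N k _ (fun η hη z => hb η hη ?_) ⟨y, rfl⟩
  rw [map_zero, ← stalkLin_comp]
  have h2 : (kernel.ι c ≫ biprod.snd) ≫ b = -((kernel.ι c ≫ biprod.fst) ≫ a) := by
    rw [eq_neg_iff_add_eq_zero, Category.assoc, Category.assoc, ← Preadditive.comp_add, add_comm]
    rw [show biprod.fst ≫ a + biprod.snd ≫ b = c by
      refine biprod.hom_ext' _ _ ?_ ?_ <;> simp [c]]
    exact kernel.condition c
  rw [h2]
  show (Groth.QCohMod.stalk η).map (-((kernel.ι c ≫ biprod.fst) ≫ a)) z = 0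
  rw [Functor.map_neg]
  show -(stalkLin ((kernel.ι c ≫ biprod.fst) ≫ a) η z) = 0
  rw [stalkLin_comp, ha η hη, neg_zero]

end Groth.Curves1.RR.Red
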