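import Mathlib
import Groth.Agent.Curves1.RR.PointDiv
import Groth.Agent.Curves1.RR.ReducedVanish
import Groth.Agent.Curves1.CurveMor.Smooth

/-!
# The ideal module of a closed point on a (possibly reducible) curve
-/

set_option linter.style.haveILetI false
set_option backward.isDefEq.respectTransparency.types false

universe u

open CategoryTheory Limits AlgebraicGeometry Coh TopologicalSpace Opposite

namespace Groth.Curves1.RR

open Groth.EulerDeg
open Groth.CohTwo (stalkLin)

attribute [local instance] secModule Curv2.resAlgebra

variable {X : Scheme.{u}}

/-- The inclusion of an ideal module is injective on stalks. -/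
theorem injective_stalkLin_idealModι (I : X.IdealSheafData) (x : X) :
    Function.Injective (stalkLin (ClSub.idealModι I) x) := by
  have : Mono (ClSub.idealModι I) := inferInstanceAs (Mono (kernel.ι _))
  exact Red.stalkLin_injective _ x

/-- An ideal module is torsion-free. -/
theorem isTorsionFree_idealMod (I : X.IdealSheafData) : TorSh.IsTorsionFree (ClSub.idealMod I) :=
  fun x => ⟨fun r hr a b hab => by
    refine injective_stalkLin_idealModι I x ((Groth.RefRank.oneEquiv (X := X) x).symm.injective ?_)
    refine hr.1 ?_
    have h1 := congrArg (fun t => (Groth.RefRank.oneEquiv (X := X) x).symm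
      (stalkLin (ClSub.idealModι I) x t)) hab
    simpa only [map_smul, smul_eq_mul] using h1⟩

/-- Off the support an ideal module agrees with the structure sheaf. -/
theorem surjective_stalkLin_idealModι (I : X.IdealSheafData) {x : X}
    (hx : x ∉ (I.support : Set X)) :
    Function.Surjective (stalkLin (ClSub.idealModι I) x) := fun z => by
  have hs : Subsingleton ((ClSub.quotMod I).presheaf.stalk x) := by
    by_contra h
    exact hx (support_quotMod_subset I h)
  have h := (Groth.QCohMod.exact_iff_stalk _).1 (Groth.PicAux.shortExact_idealMod I).exact x
  rw [ShortComplex.ab_exact_iff] at h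
  exact h z (@Subsingleton.elim _ hs _ _)

/-- Off the support the stalk of an ideal module has rank one. -/
theorem finrank_stalk_idealMod (I : X.IdealSheafData) {x : X} (hx : x ∉ (I.support : Set X)) :
    Module.finrank (X.presheaf.stalk x) ((ClSub.idealMod I).presheaf.stalk x) = 1 :=
  ((LinearEquiv.ofBijective (stalkLin (ClSub.idealModι I) x)
    ⟨injective_stalkLin_idealModι I x, surjective_stalkLin_idealModι I hx⟩).trans
      (Groth.RefRank.oneEquiv (X := X) x).symm).finrank_eq.trans (Module.finrank_self _)

/-- A closed point is not the generic point of a component of dimension one. -/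
theorem ne_of_isClosed_of_dim {P η : X} (hP : IsClosed ({P} : Set X))
    (hη : topologicalKrullDim (closure ({η} : Set X)) = 1) : η ≠ P := by
  rintro rfl
  rw [hP.closure_eq] at hη
  haveI : Subsingleton (IrreducibleCloseds ({η} : Set X)) := ⟨fun a b => IrreducibleCloseds.ext
    (a.isIrreducible.nonempty.eq_univ.trans b.isIrreducible.nonempty.eq_univ.symm)⟩
  have h : topologicalKrullDim ({η} : Set X) ≤ 0 := Order.krullDim_nonpos_of_subsingleton
  rw [hη] at h
  exact absurd h (by norm_num)

variable (k : Type u) [Field k] [X.Over (Spec (CommRingCat.of k))]
  [IsProper (X ↘ Spec (CommRingCat.of k))]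

/-- The ideal of a closed point has degree `-[κ(x) : k]`. -/
theorem deg_idealMod_pointIdeal (x : X) (hx : IsClosed ({x} : Set X)) :
    Curv2.deg k X (ClSub.idealMod (pointIdeal x hx)) 1 =
      -(Module.finrank k (X.residueField x) : ℤ) := by
  have := isNoetherian_of_proper k X
  have hS := Groth.PicAux.shortExact_idealMod (pointIdeal x hx)
  have hO : IsCoh (structureModule X) := isCoh_of_isInvertible (isInvertible_structureModule X)
  have hQc := isCoh_quotMod (pointIdeal x hx)
  have : (ClSub.quotMod (pointIdeal x hx)).IsQuasicoherent := hQc.1
  have hI : IsCoh (ClSub.idealMod (pointIdeal x hx)) :=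
    Groth.QCohMod.isCoh_kernel (ClSub.toSubscheme _) hO
  have hsup : SupportedAtClosed (ClSub.quotMod (pointIdeal x hx)) := fun y hy => by
    have h := (support_pointIdeal x hx).le (support_quotMod_subset _ hy)
    rw [Set.mem_singleton_iff] at h
    rw [h]; exact hx
  have e := euler_add hS (finCoh k X hI) (finCoh k X hQc)
  dsimp only at e
  rw [euler_eq_h0 k hsup, finrank_quotMod_pointIdeal k x hx] at e
  simp only [Curv2.deg]
  push_cast
  linarith

/-- Over an algebraically closed field the residue field of a closed point is `k`. -/
theorem finrank_residueField_eq_one [IsAlgClosed k] (x : X) (hx : IsClosed ({x} : Set X)) :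
    Module.finrank k (X.residueField x) = 1 := by
  have := Groth.Curves1.CurveMor.finite_residueField_of_isClosed (k := k) hx
  exact ((AlgEquiv.ofBijective (Algebra.ofId k (X.residueField x))
      IsAlgClosed.algebraMap_bijective_of_isIntegral).toLinearEquiv.finrank_eq).symm.trans
        (Module.finrank_self k)

end Groth.Curves1.RR
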