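import Mathlib
import Groth.Agent.Curves1.RR.PointMod
import Groth.Agent.PicAux.EffCartierLine
import Groth.Agent.Divisors.EffCartierDim
import Groth.Agent.RefRank.SmoothFittingFlat
import Groth.Agent.VarietyBC.CurveProj
import Groth.Agent.Calg1.CompletionLocal
import Groth.Agent.VarietyBC.SmoothChart

/-!
# A closed point of a curve is a Cartier divisor exactly when it is smooth
-/

set_option linter.style.haveILetI false
set_option backward.isDefEq.respectTransparency.types false

universe u

open CategoryTheory Limits AlgebraicGeometry Coh TopologicalSpace Opposite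

namespace Groth.Curves1.RR

variable {X : Scheme.{u}}

/-- The ideal of a closed point generates the maximal ideal of its local ring. -/
theorem map_pointIdeal_eq_maximalIdeal (x : X) (hx : IsClosed ({x} : Set X)) (U : X.affineOpens)
    (hxU : x ∈ U.1) :
    ((pointIdeal x hx).ideal U).map (X.presheaf.germ U.1 x hxU).hom =
      IsLocalRing.maximalIdeal (X.presheaf.stalk x) := by
  let _ := TopCat.Presheaf.algebra_section_stalk X.presheaf ⟨x, hxU⟩
  have := U.2.isLocalization_stalk ⟨x, hxU⟩
  let p := U.2.primeIdealOf ⟨x, hxU⟩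
  have hp : U.2.fromSpec p = x := U.2.fromSpec_primeIdealOf ⟨x, hxU⟩
  have h1 : (pointIdeal x hx).ideal U = p.asIdeal := by
    rw [pointIdeal, Scheme.IdealSheafData.vanishingIdeal_ideal]
    have h2 : U.2.fromSpec ⁻¹' ({x} : Set X) = {p} := by
      ext q
      simp only [Set.mem_preimage, Set.mem_singleton_iff]
      exact ⟨fun h => U.2.fromSpec.isOpenEmbedding.injective (h.trans hp.symm), fun h => h ▸ hp⟩
    erw [h2]
    exact PrimeSpectrum.vanishingIdeal_singleton p
  rw [h1, ← IsLocalization.AtPrime.map_eq_maximalIdeal p.asIdeal (X.presheaf.stalk x)]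
  rfl

/-- A closed point is a Cartier divisor iff its local ring is a discrete valuation ring. -/
theorem isEffCartierIdeal_pointIdeal_iff [IsLocallyNoetherian X] (x : X)
    (hx : IsClosed ({x} : Set X)) :
    BlowUp.IsEffCartierIdeal (pointIdeal x hx) ↔
      ∃ _ : IsDomain (X.presheaf.stalk x), IsDiscreteValuationRing (X.presheaf.stalk x) := by
  constructor
  · intro h
    obtain ⟨U, hxU, f, hf, hfI⟩ := h x
    let _ := TopCat.Presheaf.algebra_section_stalk X.presheaf ⟨x, hxU⟩
    have := U.2.isLocalization_stalk ⟨x, hxU⟩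
    refine Groth.Divisors.exists_domain_dvr_of_maximalIdeal_span _
      (IsLocalization.map_nonZeroDivisors_le (U.2.primeIdealOf ⟨x, hxU⟩).asIdeal.primeCompl
        (X.presheaf.stalk x) (Submonoid.mem_map_of_mem _ hf)) ?_
    rw [← map_pointIdeal_eq_maximalIdeal x hx U hxU, hfI, Ideal.map_span, Set.image_singleton]
    rfl
  · rintro ⟨_, _⟩
    refine Groth.Divisors.isEffCartierIdeal_of_stalk _ fun y hy U hyU => ?_
    obtain rfl : y = x := (support_pointIdeal x hx).le hy
    obtain ⟨ϖ, hϖ⟩ := IsDiscreteValuationRing.exists_irreducible (X.presheaf.stalk y)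
    exact ⟨ϖ, mem_nonZeroDivisors_of_ne_zero hϖ.ne_zero,
      (map_pointIdeal_eq_maximalIdeal y hx U hyU).trans hϖ.maximalIdeal_eq⟩

/-- A closed point of a scheme whose components have dimension one has a local ring of dimension
one. -/
theorem ringKrullDim_stalk_eq_one
    (hequi : ∀ Z ∈ irreducibleComponents (X : Type u), topologicalKrullDim Z = 1)
    (x : X) (hx : IsClosed ({x} : Set X)) : ringKrullDim (X.presheaf.stalk x) = 1 := by
  refine le_antisymm (Groth.VarietyBC.CurveProj.stalk_dim_le
    (Groth.RefRank.SmoothFittingFlat.dim_le_of_components fun T hT => (hequi T hT).le) x) ?_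
  by_contra h
  have h0 : ringKrullDim (X.presheaf.stalk x) ≤ 0 := by
    have aux : ∀ d : WithBot ℕ∞, d < 1 → d ≤ 0 := fun d hd => by
      induction d using WithBot.recBotCoe with
      | bot => exact bot_le
      | coe d =>
        rw [← WithBot.coe_one, WithBot.coe_lt_coe, Order.lt_one_iff] at hd
        rw [hd]
        exact le_refl _
    exact aux _ (lt_of_not_ge h)
  haveI : Ring.KrullDimLE 0 (X.presheaf.stalk x) := Ring.krullDimLE_iff.2 h0
  haveI : Subsingleton (PrimeSpectrum (X.presheaf.stalk x)) :=
    ⟨fun p q => PrimeSpectrum.ext ((IsLocalRing.eq_maximalIdeal (p.isPrime.isMaximal')).trans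
      (IsLocalRing.eq_maximalIdeal (q.isPrime.isMaximal')).symm)⟩
  let T := irreducibleComponent x
  obtain ⟨η, hη⟩ := QuasiSober.sober (isIrreducible_irreducibleComponent (x := x))
    isClosed_irreducibleComponent
  have hmem : η ⤳ x := hη.specializes mem_irreducibleComponent
  have hne : η ≠ x := by
    refine ne_of_isClosed_of_dim hx ?_
    rw [hη.def]
    exact hequi _ (irreducibleComponent_mem_irreducibleComponents x)
  obtain ⟨p, hp⟩ : η ∈ Set.range (X.fromSpecStalk x) := by
    rw [Scheme.range_fromSpecStalk]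
    exact hmem
  refine hne (hp.symm.trans ?_)
  haveI : Subsingleton (Spec (X.presheaf.stalk x) : Scheme) := ‹Subsingleton (PrimeSpectrum _)›
  rw [Subsingleton.elim p (IsLocalRing.closedPoint _)]
  exact Scheme.fromSpecStalk_closedPoint

variable (k : Type u) [Field k] [IsAlgClosed k] [X.Over (Spec (CommRingCat.of k))]
  [IsProper (X ↘ Spec (CommRingCat.of k))]

attribute [local instance] Curv2.resAlgebra

/-- A closed point of a curve over an algebraically closed field is a Cartier divisor iff it is
smooth. -/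
theorem isInvertible_idealMod_pointIdeal_iff_smooth
    (hequi : ∀ Z ∈ irreducibleComponents (X : Type u), topologicalKrullDim Z = 1)
    (x : X) (hx : IsClosed ({x} : Set X)) :
    PicF.IsInvertible (ClSub.idealMod (pointIdeal x hx)) ↔
      ∃ U : X.Opens, x ∈ U ∧ Smooth (U.ι ≫ (X ↘ (Spec (CommRingCat.of k)))) := by
  have := Groth.EulerDeg.isNoetherian_of_proper k X
  haveI : LocallyOfFinitePresentation (X ↘ Spec (CommRingCat.of k)) := inferInstance
  haveI := Groth.Curves1.CurveMor.finite_residueField_of_isClosed (k := k) hx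
  haveI : Algebra.IsSeparable k (X.residueField x) := inferInstance
  haveI : Algebra.FormallyEtale k (X.residueField x) := Algebra.FormallyEtale.of_isSeparable k _
  have hkey : x ∈ (X ↘ Spec (CommRingCat.of k)).smoothLocus ↔
      ∃ _ : IsDomain (X.presheaf.stalk x), IsDiscreteValuationRing (X.presheaf.stalk x) := by
    rw [Groth.VarietyBC.mem_smoothLocus_iff_isRegularLocalRing x inferInstance,
      Groth.Calg1.isDVR_iff_regular_dim_one (A := X.presheaf.stalk x)]
    exact ⟨fun h => ⟨h, ringKrullDim_stalk_eq_one hequi x hx⟩, fun h => h.1⟩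
  rw [Groth.PicAux.isInvertible_idealMod_iff, isEffCartierIdeal_pointIdeal_iff x hx, ← hkey]
  refine ⟨fun h => ⟨(X ↘ Spec (CommRingCat.of k)).smoothLocus, h, ?_⟩, fun ⟨U, hxU, hU⟩ => ?_⟩
  · rw [← Scheme.Hom.smoothLocus_eq_top_iff, ← Scheme.Hom.preimage_smoothLocus_eq]
    exact Scheme.Opens.ι_preimage_self _
  · have h := Scheme.Hom.preimage_smoothLocus_eq U.ι (X ↘ Spec (CommRingCat.of k))
    rw [Scheme.Hom.smoothLocus_eq_top (U.ι ≫ (X ↘ Spec (CommRingCat.of k)))] at h
    have h2 : (⟨x, hxU⟩ : U) ∈ U.ι ⁻¹ᵁ (X ↘ Spec (CommRingCat.of k)).smoothLocus := by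
      rw [h]; trivial
    exact h2

end Groth.Curves1.RR
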