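import Mathlib
import Groth.Agent.Curves1.RR.EtaleGenusZero
import Groth.Agent.Curves1.CurveMor.Basic
import Groth.Agent.EulerDeg.GenericRank
import Groth.Agent.ProjFormula.Natural
import Groth.Agent.Cycles.SheafCyc
import Groth.Agent.CohTwo.PushStalkModule
import Groth.Agent.RefRank.Stalk
import Groth.Agent.LocCohBase.HomExtend

/-!
# Degrees along nonconstant morphisms of integral curves
-/

set_option linter.style.haveILetI false
set_option backward.isDefEq.respectTransparency.types false

universe u

open CategoryTheory Limits AlgebraicGeometry Coh TopologicalSpace Opposite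

namespace Groth.Curves1.RR

open Groth.EulerDeg Groth.CohTwo Groth.PicAux

variable {X Y : Scheme.{u}} [IsIntegral X]

/-- The stalk of a direct image at a point with a single preimage, the generic one, under a closed
map. -/
theorem bijective_pushStalk_genericPoint (f : X ⟶ Y) (hc : IsClosedMap f)
    (hu : ∀ x : X, f x = f (genericPoint X) → x = genericPoint X) :
    Function.Bijective (pushStalk f (structureModule X) (genericPoint X)) := by
  refine ⟨(injective_iff_map_eq_zero _).2 fun t ht => ?_, fun z => ?_⟩
  · obtain ⟨U, hU, s, rfl⟩ := Groth.QCohMod.exists_germ _ (f (genericPoint X)) t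
    change pushStalk f _ _ (((Scheme.Modules.pushforward f).obj (structureModule X)).presheaf.germ
      U (f (genericPoint X)) hU s) = 0 at ht
    rw [pushStalk_germ] at ht
    have h1 : X.presheaf.germ (f ⁻¹ᵁ U) (genericPoint X) hU
        (show Γ(X, f ⁻¹ᵁ U) from s) = 0 := by
      refine (Groth.RefRank.oneEquiv (X := X) (genericPoint X)).injective ?_
      rw [map_zero, Groth.RefRank.oneEquiv_apply, Groth.RefRank.smul_oneGerm]
      exact ht
    have h2 : (show Γ(X, f ⁻¹ᵁ U) from s) = 0 :=
      germ_injective_of_isIntegral _ (U := f ⁻¹ᵁ U) (genericPoint X) hU (h1.trans (map_zero _).symm)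
    have hs : s = 0 := h2
    rw [hs, map_zero]
  · obtain ⟨W, hW, m, rfl⟩ := Groth.QCohMod.exists_germ (structureModule X) (genericPoint X) z
    let V : Y.Opens := ⟨(f '' (W : Set X)ᶜ)ᶜ, (hc _ W.2.isClosed_compl).isOpen_compl⟩
    have hV : f (genericPoint X) ∈ V := fun ⟨x, hx, hfx⟩ => hx (hu x hfx ▸ hW)
    have hle : f ⁻¹ᵁ V ≤ W := fun x hx => not_not.1 fun h => hx ⟨x, h, rfl⟩
    refine ⟨((Scheme.Modules.pushforward f).obj (structureModule X)).presheaf.germ V
      (f (genericPoint X)) hV (show Γ((Scheme.Modules.pushforward f).obj (structureModule X), V)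
        from Groth.QCohMod.res (structureModule X) hle m), ?_⟩
    rw [pushStalk_germ]
    exact Groth.QCohMod.germ_res (structureModule X) hle (genericPoint X) hV m

/-- The generic rank of the direct image of the structure sheaf is the residue degree. -/
theorem finrank_push_stalk [IsIntegral Y] (f : X ⟶ Y) (hc : IsClosedMap f)
    (hu : ∀ x : X, f x = f (genericPoint X) → x = genericPoint X)
    (hξ : f (genericPoint X) = genericPoint Y) :
    Module.finrank (Y.presheaf.stalk (genericPoint Y))
      (((Scheme.Modules.pushforward f).obj (structureModule X)).presheaf.stalk (genericPoint Y)) =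
        f.residueDegree (genericPoint X) := by
  suffices H : ∀ η : Y, f (genericPoint X) = η → Module.finrank (Y.presheaf.stalk η)
      (((Scheme.Modules.pushforward f).obj (structureModule X)).presheaf.stalk η) =
        f.residueDegree (genericPoint X) from H _ hξ
  rintro _ rfl
  have hFY : IsField (Y.presheaf.stalk (f (genericPoint X))) :=
    hξ ▸ Field.toIsField Y.functionField
  have hFX : IsField (X.presheaf.stalk (genericPoint X)) := Field.toIsField X.functionField
  letI := (f.stalkMap (genericPoint X)).hom.toAlgebra
  letI := (f.residueFieldMap (genericPoint X)).hom.toAlgebra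
  have hb := bijective_pushStalk_genericPoint f hc hu
  let e₁ : ((Scheme.Modules.pushforward f).obj (structureModule X)).presheaf.stalk
      (f (genericPoint X)) ≃+ X.presheaf.stalk (genericPoint X) :=
    (AddEquiv.ofBijective _ hb).trans
      (Groth.RefRank.oneEquiv (X := X) (genericPoint X)).symm.toAddEquiv
  let e : ((Scheme.Modules.pushforward f).obj (structureModule X)).presheaf.stalk
      (f (genericPoint X)) ≃ₗ[Y.presheaf.stalk (f (genericPoint X))]
        X.presheaf.stalk (genericPoint X) :=
    e₁.toLinearEquiv fun a t => by
      show (Groth.RefRank.oneEquiv (X := X) (genericPoint X)).symm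
          (pushStalk f _ _ (a • t)) = _
      rw [pushStalk_smul, map_smul]
      rfl
  rw [e.finrank_eq]
  refine Algebra.finrank_eq_of_equiv_equiv
    (RingEquiv.ofBijective (Y.residue (f (genericPoint X))).hom
      ⟨?_, Y.residue_surjective _⟩)
    (RingEquiv.ofBijective (X.residue (genericPoint X)).hom ⟨?_, X.residue_surjective _⟩) ?_
  · letI := hFY.toField
    exact RingHom.injective _
  · letI := hFX.toField
    exact RingHom.injective _
  · ext a
    show f.residueFieldMap (genericPoint X) (Y.residue _ a) =
      X.residue _ (f.stalkMap (genericPoint X) a)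
    rfl

variable (k : Type u) [Field k] [X.Over (Spec (CommRingCat.of k))] [Y.Over (Spec (CommRingCat.of k))]
  [IsProper (X ↘ Spec (CommRingCat.of k))] [IsProper (Y ↘ Spec (CommRingCat.of k))]

/-- A nonconstant morphism of proper integral curves is finite, and degrees are multiplied by the
residue degree at the generic point. -/
theorem deg_pullback_of_dominant [IsIntegral Y] (hX : topologicalKrullDim X ≤ 1)
    (hY : topologicalKrullDim Y = 1) (f : X ⟶ Y)
    (hf : f ≫ (Y ↘ Spec (CommRingCat.of k)) = X ↘ Spec (CommRingCat.of k))
    (hξ : f (genericPoint X) = genericPoint Y) (n : ℕ) (E : Y.Modules)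
    (hE : FlatMod.IsFinLocFreeOfRank n E) :
    IsFinite f ∧ Curv2.deg k X ((Scheme.Modules.pullback f).obj E) n =
      (f.residueDegree (genericPoint X) : ℤ) * Curv2.deg k Y E n := by
  have := isNoetherian_of_proper k Y
  have := Groth.HilbStab.BC.isSeparated_of_proper k X
  have hgY : ¬ IsClosed ({genericPoint Y} : Set Y) := fun h => by
    have hsub : Subsingleton Y := by
      refine ⟨fun a b => ?_⟩
      have key : ∀ a : Y, a = genericPoint Y := fun a => by
        have : a ∈ closure ({genericPoint Y} : Set Y) := by
          rw [(genericPoint_spec Y).def]; trivial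
        rwa [h.closure_eq] at this
      rw [key a, key b]
    have h0 : topologicalKrullDim Y ≤ 0 := by
      rw [Groth.Variety2.Dim.dim_eq_iSup_height]
      refine iSup_le fun a => ?_
      have : Order.height a = 0 := by
        rw [Groth.Variety2.Dim.height_eq_zero_iff]
        rw [show ({a} : Set Y) = Set.univ from Set.eq_univ_of_forall fun b => Subsingleton.elim b a]
        exact isClosed_univ
      rw [this]; exact le_rfl
    rw [hY] at h0
    exact not_le.2 zero_lt_one h0
  have hgen : ∀ x : X, ¬ IsClosed ({x} : Set X) → x = genericPoint X :=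
    fun x hx => eq_genericPoint_of_not_isClosed hX hx
  have hq : ∀ x : X, ¬ IsClosed ({x} : Set X) → ¬ IsClosed ({f x} : Set Y) := fun x hx => by
    rw [hgen x hx, hξ]; exact hgY
  have : IsProper (f ≫ (Y ↘ Spec (CommRingCat.of k))) := hf ▸ inferInstance
  have : IsProper f := IsProper.of_comp f (Y ↘ Spec (CommRingCat.of k))
  have := Groth.Curves1.CurveMor.locallyQuasiFinite (X ↘ Spec (CommRingCat.of k))
    (Y ↘ Spec (CommRingCat.of k)) f hf hX hq
  have hfin : IsFinite f := IsFinite.of_isProper_of_locallyQuasiFinite f
  refine ⟨hfin, ?_⟩
  have hu : ∀ x : X, f x = f (genericPoint X) → x = genericPoint X := fun x hx => by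
    refine hgen x fun hc => hgY ?_
    rw [← hξ, ← hx]
    simpa only [Set.image_singleton] using f.isClosedMap _ hc
  have hF : IsCoh ((Scheme.Modules.pushforward f).obj (structureModule X)) :=
    Groth.Cycles.isCoh_push_of_isFinite f (isCoh_of_isInvertible (isInvertible_structureModule X))
  have hfE := Groth.LocFree.isFinLocFreeOfRank_pullback f hE
  have hfE' : IsQCoh ((Scheme.Modules.pullback f).obj E) :=
    Groth.LocCohBase.HomExtend.isQCoh_of_isFinLocFree (Groth.LocFree.isFinLocFree_of_rank hfE)
  obtain ⟨b, -⟩ := exists_braiding ((Scheme.Modules.pullback f).obj E) (structureModule X)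
  obtain ⟨l, -⟩ := exists_leftUnitor ((Scheme.Modules.pullback f).obj E)
  have h1 : Curv2.euler k X ((Scheme.Modules.pullback f).obj E) =
      Curv2.euler k Y (CohB1.tensorMod E ((Scheme.Modules.pushforward f).obj (structureModule X))) := by
    rw [← euler_push_affine k f hf _ hfE']
    exact euler_congr k ((Scheme.Modules.pushforward f).mapIso (b ≪≫ l).symm ≪≫
      ((Groth.ProjFormula.pfIso f E (Groth.LocFree.isFinLocFree_of_rank hE)).app
        (structureModule X)).symm)
  have h2 : Curv2.euler k X (structureModule X) =
      Curv2.euler k Y ((Scheme.Modules.pushforward f).obj (structureModule X)) :=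
    (euler_push_affine k f hf _ (isCoh_of_isInvertible (isInvertible_structureModule X)).1).symm
  have key := euler_tensor_curve k hY.le hE hF
  rw [finrank_push_stalk f f.isClosedMap hu hξ, ← h1, ← h2] at key
  simp only [Curv2.deg] at key ⊢
  linear_combination key

end Groth.Curves1.RR
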