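import Mathlib
import Groth.Agent.Curves1.RR.ReducedVanish

/-!
# Sections against functionals on `H¹`, for curves with several components

If `M` has rank at most one at the non-closed points in `A`, none at the others, no section killed
at all of them, and no proper subset of `A` carries all of `H¹(M)`, then `h⁰(M)` is at most the
dimension of the functionals on `H¹(O)` carried by `A`.
-/

set_option linter.style.haveILetI false
set_option backward.isDefEq.respectTransparency.types false

universe u

open CategoryTheory Limits AlgebraicGeometry Coh TopologicalSpace Opposite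

namespace Groth.Curves1.RR.Red

open Groth.EulerDeg Groth.PicAux
open Groth.CohTwo (stalkLin stalkLin_germ stalkLin_comp)

attribute [local instance] secModule

variable {X : Scheme.{u}}

/-- The germ of a global section is the image of that of `1`. -/
theorem stalkLin_homOfSection_oneSec {M : X.Modules} (t : Γ(M, ⊤)) (x : X) :
    stalkLin (homOfSection t) x ((structureModule X).presheaf.germ ⊤ x trivial (oneSec X ⊤)) =
      M.presheaf.germ ⊤ x trivial t := by
  rw [stalkLin_germ, homOfSection_one]

/-- If the germ of a section vanishes, so does its map on stalks. -/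
theorem stalkLin_homOfSection_eq_zero {M : X.Modules} {t : Γ(M, ⊤)} {x : X}
    (h : M.presheaf.germ ⊤ x trivial t = 0) (z : (structureModule X).presheaf.stalk x) :
    stalkLin (homOfSection t) x z = 0 := by
  have := stalkLin_homOfSection_mem t x z
  rw [h, Submodule.span_zero_singleton, Submodule.mem_bot] at this
  exact this

variable (k : Type u) [Field k] [X.Over (Spec (CommRingCat.of k))] [NoetherianSpace X]

omit [NoetherianSpace X] in
/-- Germs are linear over the constants. -/
theorem germ_top_smul {M : X.Modules} (a : k) (t : Γ(M, ⊤)) (x : X)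
    (h : M.presheaf.germ ⊤ x trivial t = 0) : M.presheaf.germ ⊤ x trivial (a • t) = 0 :=
  (Groth.QCohMod.germ_smul M (U := ⊤) x trivial (toSec k ⊤ a) t).trans (by
    rw [show Groth.QCohMod.germ M (U := ⊤) x trivial t = 0 from h, smul_zero])

/-- Sections vanishing at the points of `A` outside `W`. -/
noncomputable def secSub (A W : Set X) (M : X.Modules) : Submodule k Γ(M, ⊤) where
  carrier := {t | ∀ η ∈ A, η ∉ W → M.presheaf.germ ⊤ η trivial t = 0}
  add_mem' := fun hs ht η hη hW => by rw [map_add, hs η hη hW, ht η hη hW, add_zero]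
  zero_mem' := fun η _ _ => map_zero _
  smul_mem' := fun a t ht η hη hW => germ_top_smul k a t η (ht η hη hW)

/-- **Sections against functionals.** -/
theorem finrank_sections_le [Module.Finite k (HH X (structureModule X) 1)]
    (hdim : topologicalKrullDim X ≤ 1)
    (hgen : ∀ x y : X, ¬ IsClosed ({x} : Set X) → ¬ IsClosed ({y} : Set X) → x ⤳ y → x = y)
    (A : Finset X) (hA : ∀ η ∈ A, ¬ IsClosed ({η} : Set X)) (M : X.Modules)
    [Module.Finite k Γ(M, ⊤)]
    (hone : ∀ η ∈ A, ∀ a b : M.presheaf.stalk η, a ≠ 0 → ∃ r : X.presheaf.stalk η, r • a = b)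
    (hoff : ∀ η : X, ¬ IsClosed ({η} : Set X) → η ∉ A → Subsingleton (M.presheaf.stalk η))
    (hsep : ∀ t : Γ(M, ⊤), (∀ η ∈ A, M.presheaf.germ ⊤ η trivial t = 0) → t = 0)
    (hN : ∀ η ∈ A, N k ((A : Set X) \ {η}) M ≠ ⊥) :
    Module.finrank k Γ(M, ⊤) ≤
      Module.finrank k (N k (A : Set X) (structureModule X)).dualAnnihilator := by
  classical
  let O := structureModule X
  let P : Set X → Submodule k (Module.Dual k (HH X O 1)) := fun W => (N k W O).dualAnnihilator
  suffices H : ∀ W : Finset X, W ⊆ A →
      Module.finrank k (secSub k (A : Set X) (W : Set X) M) ≤ Module.finrank k (P W) by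
    refine le_trans (le_of_eq ?_) (H A le_rfl)
    refine (LinearEquiv.ofTop _ (eq_top_iff.2 fun t _ η hη hW => absurd hη hW)).finrank_eq.symm
  intro W
  induction W using Finset.strongInduction with
  | H W ih =>
    intro hWA
    rcases W.eq_empty_or_nonempty with rfl | ⟨η₀, hη₀⟩
    · have : secSub k (A : Set X) ((∅ : Finset X) : Set X) M = ⊥ :=
        eq_bot_iff.2 fun t ht => (Submodule.mem_bot k).2
          (hsep t fun η hη => ht η hη (Finset.notMem_empty η))
      rw [this, finrank_bot]
      exact Nat.zero_le _
    -- a functional seen by `η₀`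
    obtain ⟨x₀, hx₀, hx₀ne⟩ := Submodule.exists_mem_ne_zero_of_ne_bot (hN η₀ (hWA hη₀))
    have : Module.Free k (HH X M 1) := Module.Free.of_divisionRing k _
    obtain ⟨φ, hφ⟩ : ∃ φ : Module.Dual k (HH X M 1), φ x₀ ≠ 0 := by
      by_contra hall
      push Not at hall
      exact hx₀ne ((Module.forall_dual_apply_eq_zero_iff k x₀).1 hall)
    -- its minimal support
    let S := A.powerset.filter fun B : Finset X => N k (B : Set X) M ≤ LinearMap.ker φ
    have hS : S.Nonempty := ⟨A, Finset.mem_filter.2 ⟨Finset.mem_powerset.2 le_rfl,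
      (N_eq_bot k fun η hη hηA => hoff η hη hηA).trans_le bot_le⟩⟩
    obtain ⟨B, hBS, hBmin⟩ := S.exists_min_image Finset.card hS
    obtain ⟨hBA, hBk⟩ := Finset.mem_filter.1 hBS
    rw [Finset.mem_powerset] at hBA
    have hη₀B : η₀ ∈ B := by
      by_contra h
      refine hφ (LinearMap.mem_ker.1 (hBk (N_anti k ?_ M hx₀)))
      exact fun η hη => ⟨hBA hη, fun e => h (e ▸ hη)⟩
    let Φ : secSub k (A : Set X) (W : Set X) M →ₗ[k] Module.Dual k (HH X O 1) :=
      (pairing k M φ).comp (Submodule.subtype _)
    -- its kernel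
    have hker : LinearMap.ker Φ ≤
        (secSub k (A : Set X) ((W \ B : Finset X) : Set X) M).comap (Submodule.subtype _) := by
      rintro ⟨t, ht⟩ hΦ η hη hηW
      by_cases hηW' : η ∈ W
      swap
      · exact ht η hη hηW'
      have hηB : η ∈ B := by
        by_contra h
        exact hηW (Finset.mem_coe.2 (Finset.mem_sdiff.2 ⟨hηW', h⟩))
      let Z := A.filter fun η => M.presheaf.germ ⊤ η trivial t = 0
      suffices hBZ : B ⊆ Z from (Finset.mem_filter.1 (hBZ hηB)).2
      have hZ : N k (Z : Set X) M ≤ LinearMap.ker φ := by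
        obtain ⟨ψ, hψ⟩ := exists_lift (A := (Z : Set X)) (homOfSection t) fun η hη z =>
          stalkLin_homOfSection_eq_zero (Finset.mem_filter.1 (Finset.mem_coe.1 hη)).2 z
        have hsurj : Function.Surjective (hMap k ψ 1) := by
          refine surjective_h1 k hdim ψ fun η hη z => ?_
          by_cases hηZ : η ∈ Z
          · exact ⟨0, (map_zero _).trans (stalk_toMod_eq_zero (A := (Z : Set X)) hηZ z).symm⟩
          by_cases hηA : η ∈ A
          · have hne : M.presheaf.germ ⊤ η trivial t ≠ 0 := fun h =>
              hηZ (Finset.mem_filter.2 ⟨hηA, h⟩)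
            obtain ⟨r, hr⟩ := hone η hηA _ (stalkLin (vι (Z : Set X) M) η z) hne
            refine ⟨r • O.presheaf.germ ⊤ η trivial (oneSec X ⊤),
              stalkLin_injective (vι (Z : Set X) M) η ?_⟩
            rw [← stalkLin_comp, hψ, map_smul, stalkLin_homOfSection_oneSec, hr]
          · exact ⟨0, stalkLin_injective (vι (Z : Set X) M) η
              (@Subsingleton.elim _ (hoff η hη hηA) _ _)⟩
        rintro _ ⟨x, rfl⟩
        obtain ⟨y, rfl⟩ := hsurj x
        rw [← hMap_comp_apply, hψ]
        exact LinearMap.congr_fun (LinearMap.mem_ker.1 hΦ) y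
      have hBZk : N k ((B ∩ Z : Finset X) : Set X) M ≤ LinearMap.ker φ := by
        rw [Finset.coe_inter]
        refine (N_inter_le k hdim hgen B.finite_toSet Z.finite_toSet (fun η hη => hA η (hBA hη))
          (fun η hη => hA η (Finset.mem_filter.1 (Finset.mem_coe.1 hη)).1) M).trans (sup_le hBk hZ)
      have := hBmin (B ∩ Z) (Finset.mem_filter.2
        ⟨Finset.mem_powerset.2 (Finset.inter_subset_left.trans hBA), hBZk⟩)
      exact Finset.inter_eq_left.1 (Finset.eq_of_subset_of_card_le Finset.inter_subset_left this)
    -- its range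
    have hrange : LinearMap.range Φ ≤ P B ⊓ P W := by
      rintro _ ⟨⟨t, ht⟩, rfl⟩
      refine ⟨(Submodule.mem_dualAnnihilator _).2 fun x hx => ?_,
        (Submodule.mem_dualAnnihilator _).2 fun x hx => ?_⟩
      · exact LinearMap.mem_ker.1 (hBk (map_N_le k (homOfSection t) ⟨x, hx, rfl⟩))
      · show φ (hMap k (homOfSection t) 1 x) = 0
        rw [LinearMap.mem_ker.1 (N_le_ker k (homOfSection t) (fun η hη hηW z => ?_) hx), map_zero]
        by_cases hηA : η ∈ A
        · exact stalkLin_homOfSection_eq_zero (ht η hηA hηW) z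
        · exact @Subsingleton.elim _ (hoff η hη hηA) _ _
    have hdisj : LinearMap.range Φ ⊓ P ((W \ B : Finset X) : Set X) = ⊥ := by
      refine eq_bot_iff.2 fun ψ hψ => (Submodule.mem_bot k).2 (LinearMap.ext fun x => ?_)
      have h1 := (Submodule.mem_dualAnnihilator ψ).1 (hrange hψ.1).1
      have h2 := (Submodule.mem_dualAnnihilator ψ).1 hψ.2
      have htop : x ∈ N k (B : Set X) O ⊔ N k ((W \ B : Finset X) : Set X) O := by
        refine N_inter_le k hdim hgen B.finite_toSet (W \ B).finite_toSet
          (fun η hη => hA η (hBA hη)) (fun η hη => hA η (hWA (Finset.mem_sdiff.1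
            (Finset.mem_coe.1 hη)).1)) O ?_
        have hempty : ((B : Set X) ∩ ((W \ B : Finset X) : Set X)) = ∅ :=
          Set.eq_empty_iff_forall_notMem.2 fun η hη =>
            (Finset.mem_sdiff.1 (Finset.mem_coe.1 hη.2)).2 hη.1
        rw [hempty]
        exact surjective_h1 k hdim _ (fun η hη => stalk_vι_surjective Set.finite_empty
          fun _ h => absurd h (Set.notMem_empty _)) x
      obtain ⟨a, ha, b, hb, rfl⟩ := Submodule.mem_sup.1 htop
      rw [map_add, h1 a ha, h2 b hb, add_zero, LinearMap.zero_apply]
    have hmono : P ((W \ B : Finset X) : Set X) ≤ P W :=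
      Submodule.dualAnnihilator_anti (N_anti k (Finset.coe_subset.2 Finset.sdiff_subset) O)
    have hlt : W \ B ⊂ W := (Finset.ssubset_iff_of_subset Finset.sdiff_subset).2
      ⟨η₀, hη₀, fun h => (Finset.mem_sdiff.1 h).2 hη₀B⟩
    have h1 : Module.finrank k (secSub k (A : Set X) (W : Set X) M) ≤
        Module.finrank k (LinearMap.range Φ) +
          Module.finrank k (P ((W \ B : Finset X) : Set X)) := by
      rw [← LinearMap.finrank_range_add_finrank_ker Φ]
      refine Nat.add_le_add_left ((le_trans ?_ (ih (W \ B) hlt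
        (Finset.sdiff_subset.trans hWA)))) _
      exact LinearMap.finrank_le_finrank_of_injective
        (f := ((Submodule.subtype _).comp (Submodule.subtype (LinearMap.ker Φ))).codRestrict
          (secSub k (A : Set X) ((W \ B : Finset X) : Set X) M) fun t => hker t.2)
        fun a b hab => Subtype.ext (Subtype.ext (congrArg Subtype.val hab :))
    have h2 := Submodule.finrank_sup_add_finrank_inf_eq (LinearMap.range Φ)
      (P ((W \ B : Finset X) : Set X))
    rw [hdisj, finrank_bot, add_zero] at h2
    exact h1.trans (h2 ▸ Submodule.finrank_mono (sup_le (hrange.trans inf_le_right) hmono))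

end Groth.Curves1.RR.Red
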