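import Mathlib
import Groth.Agent.Curves1.RR.ReducedCore
import Groth.Agent.Curves1.CurveMor.Basic
import Groth.Agent.CohTwo.PushClosed
import Groth.Agent.CohFin.PushAffine
import Groth.Agent.PropsBasic2.Reduced
import Groth.Agent.CohBase.IdealOfClosed
import Groth.Agent.HilbStab.BC.CurvBC

/-!
# Restriction of an invertible module to the reduced subcurves of a reduced curve
-/

set_option linter.style.haveILetI false
set_option backward.isDefEq.respectTransparency.types false

universe u

open CategoryTheory Limits AlgebraicGeometry Coh TopologicalSpace Opposite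

namespace Groth.Curves1.RR.Red

open Groth.EulerDeg Groth.PicAux
open Groth.CohTwo (stalkLin stalkLin_germ stalkLin_comp)

attribute [local instance] secModule

section NonClosed

variable (k : Type u) [Field k] {X : Scheme.{u}} [X.Over (Spec (CommRingCat.of k))]
  [LocallyOfFiniteType (X ↘ Spec (CommRingCat.of k))]

include k

theorem eq_of_specializes_nonclosed (hdim : topologicalKrullDim X ≤ 1) (x y : X)
    (_ : ¬ IsClosed ({x} : Set X)) (hy : ¬ IsClosed ({y} : Set X)) (h : x ⤳ y) : x = y := by
  obtain ⟨hmax, -⟩ := Groth.Curves1.CurveMor.isMax_and_height_of_not_isClosed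
    (X ↘ Spec (CommRingCat.of k)) hdim hy
  exact (h.antisymm (Scheme.le_iff_specializes.1 (hmax (Scheme.le_iff_specializes.2 h)))).eq

theorem isField_stalk_nonclosed [IsReduced X] (hdim : topologicalKrullDim X ≤ 1) {x : X}
    (hx : ¬ IsClosed ({x} : Set X)) : IsField (X.presheaf.stalk x) :=
  isField_stalk_of_closure_mem_irreducibleComponents (X := X) x
    (Groth.Curves1.CurveMor.mem_genericPoints_of_isMax
      (Groth.Curves1.CurveMor.isMax_and_height_of_not_isClosed
        (X ↘ Spec (CommRingCat.of k)) hdim hx).1)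

theorem finite_nonclosed [NoetherianSpace X] (hdim : topologicalKrullDim X ≤ 1) :
    {x : X | ¬ IsClosed ({x} : Set X)}.Finite :=
  Groth.Curves1.CurveMor.finite_genericPoints.subset fun _ hx =>
    Groth.Curves1.CurveMor.mem_genericPoints_of_isMax
      (Groth.Curves1.CurveMor.isMax_and_height_of_not_isClosed
        (X ↘ Spec (CommRingCat.of k)) hdim hx).1

/-- A non-closed point in the closure of a set of non-closed points belongs to it. -/
theorem mem_of_mem_closure (hdim : topologicalKrullDim X ≤ 1) {A : Set X} (hAf : A.Finite)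
    (hA : ∀ η ∈ A, ¬ IsClosed ({η} : Set X)) {y : X} (hy : ¬ IsClosed ({y} : Set X))
    (h : y ∈ closure A) : y ∈ A := by
  rw [← Set.biUnion_of_singleton A, hAf.closure_biUnion] at h
  simp only [Set.mem_iUnion] at h
  obtain ⟨η, hη, hyη⟩ := h
  exact eq_of_specializes_nonclosed k hdim η y (hA η hη) hy (specializes_iff_mem_closure.2 hyη) ▸ hη

end NonClosed

variable {X : Scheme.{u}}

/-- The reduced closed subscheme of a closed set. -/
noncomputable abbrev sub (S : Closeds X) : Scheme.{u} :=
  (Scheme.IdealSheafData.vanishingIdeal S).subscheme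

/-- Its inclusion. -/
noncomputable abbrev inc (S : Closeds X) : sub S ⟶ X :=
  (Scheme.IdealSheafData.vanishingIdeal S).subschemeι

instance (S : Closeds X) : IsReduced (sub S) :=
  Groth.PropsBasic2.isReduced_vanishingIdeal_subscheme S

theorem range_inc (S : Closeds X) : Set.range (inc S) = (S : Set X) :=
  Groth.CohBase.range_reduced S

/-- The closure of a finite set of points, as a closed set. -/
def clo (A : Set X) : Closeds X := ⟨closure A, isClosed_closure⟩

/-- A function restricts to zero iff it vanishes at the points of the closed set. -/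
theorem app_eq_zero_iff (S : Closeds X) {U : X.Opens} (f : Γ(X, U)) :
    (inc S).app U f = 0 ↔ ∀ z ∈ (S : Set X), z ∉ X.basicOpen f := by
  rw [← basicOpen_eq_bot_iff, ← Scheme.preimage_basicOpen]
  constructor
  · intro h z hz hzf
    obtain ⟨w, rfl⟩ := (range_inc S).ge hz
    have hw : w ∈ inc S ⁻¹ᵁ X.basicOpen f := hzf
    rw [h] at hw
    exact hw
  · intro h
    refine eq_bot_iff.2 fun w hw => (h (inc S w) ?_ hw).elim
    rw [← range_inc S]
    exact Set.mem_range_self w

/-- Restriction of sections of `L`. -/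
noncomputable abbrev rest (S : Closeds X) (L : X.Modules) :
    L ⟶ (Scheme.Modules.pushforward (inc S)).obj ((Scheme.Modules.pullback (inc S)).obj L) :=
  (Scheme.Modules.pullbackPushforwardAdjunction (inc S)).unit.app L

theorem rest_app (S : Closeds X) (L : X.Modules) {U : X.Opens} (t : Γ(L, U)) :
    (rest S L).app U t = pullSec (inc S) L t := rfl

theorem subsingleton_stalk_push (S : Closeds X) (F : (sub S).Modules) {η : X}
    (hη : η ∉ (S : Set X)) :
    Subsingleton (((Scheme.Modules.pushforward (inc S)).obj F).presheaf.stalk η) := by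
  by_contra h
  refine hη ((range_inc S).le (Groth.CohTwo.support_push_subset (inc S) F ?_))
  exact h

/-- A section of a direct image with zero germ at `η` vanishes near `η`. -/
theorem exists_res_eq_zero (S : Closeds X) {F : (sub S).Modules} {U : X.Opens}
    (t : Γ((Scheme.Modules.pushforward (inc S)).obj F, U)) {η : X} (hη : η ∈ U)
    (h : ((Scheme.Modules.pushforward (inc S)).obj F).presheaf.germ U η hη t = 0) :
    ∃ (V : X.Opens) (hV : V ≤ U), η ∈ V ∧
      res F ((inc S).preimage_mono hV) (show Γ(F, inc S ⁻¹ᵁ U) from t) = 0 := by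
  obtain ⟨V, hηV, i₁, i₂, hV⟩ := ((Scheme.Modules.pushforward (inc S)).obj F).presheaf.germ_eq η hη
    hη t 0 (h.trans (map_zero _).symm)
  exact ⟨V, i₁.le, hηV, hV.trans (map_zero _)⟩

theorem epi_rest (S : Closeds X) {L : X.Modules} (hL : PicF.IsInvertible L) : Epi (rest S L) := by
  rw [Groth.QCohMod.epi_iff_stalk]
  intro y z
  obtain ⟨V, hyV, s, rfl⟩ := Groth.QCohMod.exists_germ _ y z
  obtain ⟨W, e, -, hyW, he⟩ := exists_affine_gen_mem hL y
  obtain ⟨_, ⟨U, hU, rfl⟩, hyU, hUV⟩ := X.isBasis_affineOpens.exists_subset_of_mem_open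
    (show y ∈ (V ⊓ W : X.Opens) from ⟨hyV, hyW⟩) (V ⊓ W).isOpen
  have hUV' : U ≤ V := fun a ha => (hUV ha).1
  have hUW : U ≤ W := fun a ha => (hUV ha).2
  have hg : Gen _ (inc S ⁻¹ᵁ U) (pullSec (inc S) L (res L hUW e)) := (he.res hUW).pull (inc S)
  obtain ⟨c, hc⟩ := hg.exists_coeff le_rfl
    (res ((Scheme.Modules.pullback (inc S)).obj L) ((inc S).preimage_mono hUV')
      (show Γ((Scheme.Modules.pullback (inc S)).obj L, inc S ⁻¹ᵁ V) from s))
  rw [res_self] at hc
  obtain ⟨F, rfl⟩ := (Scheme.IdealSheafData.vanishingIdeal S).subschemeι_app_surjective ⟨U, hU⟩ c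
  refine ⟨Groth.QCohMod.germ L y hyU (F • res L hUW e), ?_⟩
  refine (Groth.QCohMod.stalk_map_germ (rest S L) y hyU _).trans ?_
  refine Eq.trans (congrArg _ ?_) (Groth.QCohMod.germ_res _ hUV' y hyU s)
  rw [rest_app, pullSec_smul]
  exact hc.symm

/-- A function restricting to zero near a non-closed point of the closed set has zero germ there. -/
theorem germ_eq_zero_of_app_eq_zero {S : Closeds X} {η : X} (hη : η ∈ (S : Set X))
    (hf : IsField (X.presheaf.stalk η)) {V : X.Opens} (hηV : η ∈ V) (f : Γ(X, V))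
    (h : (inc S).app V f = 0) : X.presheaf.germ V η hηV f = 0 := by
  have := (app_eq_zero_iff S f).1 h η hη
  rw [Scheme.mem_basicOpen X f η hηV] at this
  by_contra hne
  letI F := hf.toField
  exact this (Ne.isUnit hne :)

theorem stalk_rest_injective {S : Closeds X} {L : X.Modules} (hL : PicF.IsInvertible L) {η : X}
    (hη : η ∈ (S : Set X)) (hf : IsField (X.presheaf.stalk η)) :
    Function.Injective (stalkLin (rest S L) η) := by
  refine (injective_iff_map_eq_zero _).2 fun z hz => ?_
  obtain ⟨U, hU, t, rfl⟩ := Groth.QCohMod.exists_germ L η z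
  obtain ⟨W, e, -, hW, he⟩ := exists_affine_gen_mem hL η
  obtain ⟨c, hc⟩ := he.exists_coeff (inf_le_right : U ⊓ W ≤ W) (res L (inf_le_left : U ⊓ W ≤ U) t)
  have hm : η ∈ U ⊓ W := ⟨hU, hW⟩
  have hg := (he.res (inf_le_right : U ⊓ W ≤ W)).pull (inc S)
  rw [← Groth.QCohMod.germ_res L (inf_le_left : U ⊓ W ≤ U) η hm t] at hz ⊢
  have hz' : ((Scheme.Modules.pushforward (inc S)).obj _).presheaf.germ (U ⊓ W) η hm
      ((rest S L).app (U ⊓ W) (res L inf_le_left t)) = 0 :=
    (stalkLin_germ (rest S L) η hm _).symm.trans hz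
  obtain ⟨V, hV, hηV, h0⟩ := exists_res_eq_zero S _ hm hz'
  rw [rest_app, hc, pullSec_smul, res_smul] at h0
  have h1 : resX (sub S) ((inc S).preimage_mono hV) ((inc S).app (U ⊓ W) c) = 0 :=
    hg.smul_inj ((inc S).preimage_mono hV) (by rw [h0, zero_smul])
  have h2 : (inc S).app V (resX X hV c) = 0 :=
    (congr($((inc S).naturality (homOfLE hV).op) c)).trans h1
  have h3 : X.presheaf.germ (U ⊓ W) η hm c = 0 := by
    rw [← germ_eq_zero_of_app_eq_zero hη hf hηV _ h2]
    exact (TopCat.Presheaf.germ_res_apply X.presheaf _ η hηV c).symm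
  refine (congrArg _ hc).trans ((Groth.QCohMod.germ_smul L η hm c _).trans ?_)
  rw [h3, zero_smul]

theorem stalk_toSubscheme_injective {S : Closeds X} {η : X} (hη : η ∈ (S : Set X))
    (hf : IsField (X.presheaf.stalk η)) :
    Function.Injective (stalkLin (ClSub.toSubscheme (Scheme.IdealSheafData.vanishingIdeal S)) η) := by
  refine (injective_iff_map_eq_zero _).2 fun z hz => ?_
  obtain ⟨U, hU, t, rfl⟩ := Groth.QCohMod.exists_germ (structureModule X) η z
  have hz' : ((Scheme.Modules.pushforward (inc S)).obj (structureModule (sub S))).presheaf.germ U η hU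
      ((ClSub.toSubscheme (Scheme.IdealSheafData.vanishingIdeal S)).app U t) = 0 :=
    (stalkLin_germ _ η hU _).symm.trans hz
  obtain ⟨V, hV, hηV, h0⟩ := exists_res_eq_zero S _ hU hz'
  have h2 : (inc S).app V (resX X hV (toFun t)) = 0 :=
    (congr($((inc S).naturality (homOfLE hV).op) (toFun t))).trans h0
  have h3 := germ_eq_zero_of_app_eq_zero hη hf hηV _ h2
  refine (Groth.QCohMod.germ_res (structureModule X) hV η hηV t).symm.trans ?_
  refine (Groth.RefRank.smul_oneGerm η hηV (resX X hV (toFun t))).symm.trans ?_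
  rw [h3, zero_smul]

/-- A section with zero germs at the points whose closure is the closed set is zero. -/
theorem eq_zero_of_germ_eq_zero {A : Set X} (hAf : A.Finite) {F : (sub (clo A)).Modules}
    (hF : PicF.IsInvertible F) (t : Γ((Scheme.Modules.pushforward (inc (clo A))).obj F, ⊤))
    (h : ∀ η ∈ A,
      ((Scheme.Modules.pushforward (inc (clo A))).obj F).presheaf.germ ⊤ η trivial t = 0) :
    t = 0 := by
  obtain ⟨U, e, -, -, he, hcov⟩ := Groth.PropsBasic.Ample.exists_gen_cover hF
  let t' : Γ(F, (⊤ : (sub (clo A)).Opens)) := t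
  suffices t' = 0 from this
  refine res_ext U (fun _ => le_top) hcov.ge fun x => ?_
  obtain ⟨c, hc⟩ := (he x).exists_coeff le_rfl (res F (le_top : U x ≤ ⊤) t')
  rw [res_self] at hc
  suffices c = 0 by rw [hc, this, zero_smul, res_zero]
  rw [← basicOpen_eq_bot_iff]
  refine eq_bot_iff.2 fun y hy => ?_
  have hcl : closure A = ⋃ η ∈ A, closure ({η} : Set X) := by
    conv_lhs => rw [← Set.biUnion_of_singleton A]
    exact hAf.closure_biUnion _
  have hyS : inc (clo A) y ∈ ⋃ η ∈ A, closure ({η} : Set X) :=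
    hcl.le ((range_inc (clo A)).le ⟨y, rfl⟩)
  simp only [Set.mem_iUnion] at hyS
  obtain ⟨η, hη, hyη⟩ := hyS
  obtain ⟨y', hy'⟩ : η ∈ Set.range (inc (clo A)) := (range_inc _).ge (subset_closure hη)
  have hsp : y' ⤳ y := (inc (clo A)).isClosedEmbedding.isInducing.specializes_iff.1
    (hy' ▸ specializes_iff_mem_closure.2 hyη)
  have hy'c : y' ∈ (sub (clo A)).basicOpen c := hsp.mem_open ((sub (clo A)).basicOpen c).isOpen hy
  obtain ⟨V, hV, hηV, h0⟩ := exists_res_eq_zero (clo A) t trivial (h η hη)
  have hy'V : y' ∈ inc (clo A) ⁻¹ᵁ V := show inc (clo A) y' ∈ V by rw [hy']; exact hηV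
  have h1 : resX (sub (clo A)) (inf_le_left : U x ⊓ inc (clo A) ⁻¹ᵁ V ≤ U x) c = 0 := by
    refine (he x).smul_inj inf_le_left ?_
    rw [← res_smul, ← hc, zero_smul, res_res]
    have h2 : res F (inf_le_right : U x ⊓ inc (clo A) ⁻¹ᵁ V ≤ _)
        (res F ((inc (clo A)).preimage_mono hV) t') = 0 :=
      (congrArg _ h0).trans (res_zero _)
    rwa [res_res] at h2
  have h3 : y' ∈ (sub (clo A)).basicOpen
      (resX (sub (clo A)) (inf_le_left : U x ⊓ inc (clo A) ⁻¹ᵁ V ≤ U x) c) := by
    refine (Scheme.mem_basicOpen _ _ y' (show y' ∈ U x ⊓ inc (clo A) ⁻¹ᵁ V from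
      ⟨(sub (clo A)).basicOpen_le c hy'c, hy'V⟩)).2 ?_
    have h4 := (Scheme.mem_basicOpen _ c y' ((sub (clo A)).basicOpen_le c hy'c)).1 hy'c
    rwa [← TopCat.Presheaf.germ_res_apply (sub (clo A)).presheaf (homOfLE inf_le_left) y' _ c] at h4
  rw [h1, Scheme.basicOpen_zero] at h3
  exact h3

/-- The restriction of an invertible module to a nonempty closed set is not zero. -/
theorem not_isZero_push (S : Closeds X) [Nonempty (sub S)] {L : X.Modules}
    (hL : PicF.IsInvertible L) :
    ¬ IsZero ((Scheme.Modules.pushforward (inc S)).obj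
      ((Scheme.Modules.pullback (inc S)).obj L)) := by
  intro h
  obtain ⟨w⟩ := ‹Nonempty (sub S)›
  obtain ⟨U, e, hU, he⟩ := (isInvertible_iff_exists_gen L).1 hL (inc S w)
  have h0 : (rest S L).app U e = 0 := by
    rw [show rest S L = 0 from h.eq_of_tgt _ _]
    rfl
  have h1 : (1 : Γ(sub S, inc S ⁻¹ᵁ U)) = 0 :=
    (he.pull (inc S)).smul_inj le_rfl (by
      rw [res_self, show pullSec (inc S) L e = 0 from h0, smul_zero, smul_zero])
  have h4 := congrArg ((sub S).presheaf.germ _ w hU) h1
  rw [map_one, map_zero] at h4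
  exact one_ne_zero h4

/-- A section not generating at a closed point restricts to zero there. -/
theorem rest_eq_zero (S : Closeds X) {L : X.Modules} (hL : PicF.IsInvertible L) {x : X}
    (hS : ∀ z ∈ (S : Set X), z = x) (t : Γ(L, ⊤)) (ht : x ∉ Groth.PropsBasic.Ample.gloc t) :
    (rest S L).app ⊤ t = 0 := by
  obtain ⟨U, e, -, -, he, hcov⟩ := Groth.PropsBasic.Ample.exists_gen_cover hL
  refine res_ext (fun i => inc S ⁻¹ᵁ U i) (fun _ => le_top) ?_ fun i => ?_
  · intro w _
    obtain ⟨i, hi⟩ := Opens.mem_iSup.1 (hcov.ge (Set.mem_univ (inc S w)))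
    exact Opens.mem_iSup.2 ⟨i, hi⟩
  obtain ⟨c, hc⟩ := (he i).exists_coeff le_rfl (res L (le_top : U i ≤ ⊤) t)
  rw [res_self] at hc
  have hz : (inc S).app (U i) c = 0 := (app_eq_zero_iff S c).2 fun z hz hzc => by
    rw [← Groth.PropsBasic.Ample.gloc_inf_eq_basicOpen (he i) hc] at hzc
    exact ht (hS z hz ▸ hzc.1)
  refine (res_pullSec (inc S) L (le_top : U i ≤ ⊤) t).trans ?_
  rw [hc, pullSec_smul, hz, zero_smul]
  exact (res_zero _).symm

section Connected

/-- A finite set of points with disconnected closure splits into two. -/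
theorem exists_split {A : Finset X} (hA : A.Nonempty)
    (hconn : ¬ ConnectedSpace (sub (clo (A : Set X)))) :
    ∃ A₁ A₂ : Finset X, A₁ ⊂ A ∧ A₂ ⊂ A ∧ (A₁ : Set X) ∪ A₂ = A ∧
      Disjoint (closure (A₁ : Set X)) (closure (A₂ : Set X)) := by
  classical
  let i := inc (clo (A : Set X))
  have hne : Nonempty (sub (clo (A : Set X))) := by
    obtain ⟨η, hη⟩ := hA
    obtain ⟨w, -⟩ : η ∈ Set.range i := (range_inc _).ge (subset_closure hη)
    exact ⟨w⟩
  obtain ⟨U, hU, hU1, hU2⟩ : ∃ U : Set (sub (clo (A : Set X))),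
      IsClopen U ∧ U ≠ ∅ ∧ U ≠ Set.univ := by
    by_contra hall
    push Not at hall
    refine hconn (connectedSpace_iff_clopen.2 ⟨hne, fun s hs => ?_⟩)
    by_cases h : s = ∅
    · exact Or.inl h
    · exact Or.inr (hall s hs (Set.nonempty_iff_ne_empty.2 h))
  have hC1 : IsClosed (i '' U) := i.isClosedEmbedding.isClosedMap _ hU.1
  have hC2 : IsClosed (i '' Uᶜ) := i.isClosedEmbedding.isClosedMap _ hU.compl.1
  have hdisj : Disjoint (i '' U) (i '' Uᶜ) :=
    (Set.disjoint_image_iff i.isClosedEmbedding.injective).2 disjoint_compl_right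
  have hmem : ∀ η ∈ A, η ∈ i '' U ∨ η ∈ i '' Uᶜ := fun η hη => by
    obtain ⟨w, rfl⟩ := (range_inc (clo (A : Set X))).ge (subset_closure hη)
    by_cases hw : w ∈ U
    · exact Or.inl ⟨w, hw, rfl⟩
    · exact Or.inr ⟨w, hw, rfl⟩
  refine ⟨A.filter (· ∈ i '' U), A.filter (· ∈ i '' Uᶜ), ?_, ?_, ?_, ?_⟩
  · refine Finset.filter_ssubset.2 ?_
    by_contra hall
    push Not at hall
    refine hU2 (Set.eq_univ_of_forall fun w => ?_)
    have : i w ∈ i '' U := closure_minimal (fun η hη => hall η hη) hC1 ((range_inc _).le ⟨w, rfl⟩)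
    obtain ⟨v, hv, hvw⟩ := this
    exact i.isClosedEmbedding.injective hvw ▸ hv
  · refine Finset.filter_ssubset.2 ?_
    by_contra hall
    push Not at hall
    refine hU1 (Set.eq_empty_iff_forall_notMem.2 fun w hwU => ?_)
    obtain ⟨v, hv, hvw⟩ := closure_minimal (fun η hη => hall η hη) hC2
      ((range_inc (clo (A : Set X))).le ⟨w, rfl⟩)
    exact hv (i.isClosedEmbedding.injective hvw ▸ hwU)
  · ext η
    simp only [Finset.coe_filter, Set.mem_union, Set.mem_ofPred_eq, Finset.mem_coe]
    exact ⟨fun h => h.elim And.left And.left, fun h => (hmem η h).imp (⟨h, ·⟩) (⟨h, ·⟩)⟩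
  · refine hdisj.mono (closure_minimal (fun η hη => ?_) hC1) (closure_minimal (fun η hη => ?_) hC2)
    all_goals exact (Finset.mem_filter.1 (Finset.mem_coe.1 hη)).2

variable (k : Type u) [Field k] [X.Over (Spec (CommRingCat.of k))] [NoetherianSpace X]

/-- A class vanishing on two sets with disjoint closures vanishes on their union. -/
theorem N_inf_le_of_disjoint {A₁ A₂ : Set X} (h₁ : A₁.Finite) (h₂ : A₂.Finite)
    (hdisj : Disjoint (closure A₁) (closure A₂)) (M : X.Modules) :
    N k A₁ M ⊓ N k A₂ M ≤ N k (A₁ ∪ A₂) M := by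
  rintro x ⟨⟨p, hp⟩, ⟨m, rfl⟩⟩
  have : Epi (biprod.desc (vι A₁ M) (vι A₂ M)) := by
    rw [Groth.QCohMod.epi_iff_stalk]
    intro y z
    by_cases hy : ∀ η ∈ A₁, ¬ η ⤳ y
    · obtain ⟨w, hw⟩ := stalk_vι_surjective h₁ hy z
      refine ⟨stalkLin biprod.inl y w, ?_⟩
      show stalkLin (biprod.desc (vι A₁ M) (vι A₂ M)) y _ = z
      rw [← stalkLin_comp, biprod.inl_desc, hw]
    · push Not at hy
      obtain ⟨η, hη, hηy⟩ := hy
      obtain ⟨w, hw⟩ := stalk_vι_surjective h₂ (fun η' hη' h' => hdisj.le_bot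
        ⟨closure_mono (Set.singleton_subset_iff.2 hη) hηy.mem_closure,
          closure_mono (Set.singleton_subset_iff.2 hη') h'.mem_closure⟩) z
      refine ⟨stalkLin biprod.inr y w, ?_⟩
      show stalkLin (biprod.desc (vι A₁ M) (vι A₂ M)) y _ = z
      rw [← stalkLin_comp, biprod.inr_desc, hw]
  obtain ⟨q, rfl⟩ := mem_N_of_pair k (A := A₁) (vι A₁ M) (vι A₂ M)
    (fun η hη z => stalk_vι_eq_zero hη z) (fun η _ => stalkLin_injective _ η) hp.symm
  rw [← hMap_comp_apply]
  refine range_le_N k _ (fun η hη z => ?_) (LinearMap.mem_range_self _ q)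
  rw [stalkLin_comp]
  rcases hη with hη | hη
  · rw [stalk_vι_eq_zero hη, map_zero]
  · exact stalk_vι_eq_zero hη _

end Connected

section Numerics

variable (k : Type u) [Field k] [X.Over (Spec (CommRingCat.of k))]
  [IsProper (X ↘ Spec (CommRingCat.of k))]

/-- The subcurves as schemes over the field. -/
@[implicit_reducible]
noncomputable def subOver (S : Closeds X) : (sub S).Over (Spec (CommRingCat.of k)) :=
  ⟨inc S ≫ (X ↘ Spec (CommRingCat.of k))⟩

theorem isProper_sub (S : Closeds X) :
    letI := subOver k S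
    IsProper ((sub S) ↘ Spec (CommRingCat.of k)) :=
  inferInstanceAs (IsProper (inc S ≫ (X ↘ Spec (CommRingCat.of k))))

theorem finrank_HH_push (S : Closeds X) (F : (sub S).Modules) (hF : IsQCoh F) (p : ℕ) :
    letI := subOver k S
    Module.finrank k (HH X ((Scheme.Modules.pushforward (inc S)).obj F) p) =
      Module.finrank k (HH (sub S) F p) := by
  letI := subOver k S
  haveI := isProper_sub k S
  have : F.IsQuasicoherent := hF
  have : CompactSpace (sub S) :=
    QuasiCompact.compactSpace_of_compactSpace ((sub S) ↘ Spec (CommRingCat.of k))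
  have := Groth.HilbStab.BC.isSeparated_of_proper k X
  have := Groth.HilbStab.BC.isSeparated_of_proper k (sub S)
  obtain ⟨e⟩ := Groth.CohFin.nonempty_linearEquiv_push (inc S) (X ↘ Spec (CommRingCat.of k)) p F
  exact e.finrank_eq

theorem topologicalKrullDim_sub (hdim : topologicalKrullDim X = 1) {A : Set X} {η : X} (hη : η ∈ A)
    (hηc : ¬ IsClosed ({η} : Set X)) : topologicalKrullDim (sub (clo A)) = 1 := by
  refine le_antisymm ((inc (clo A)).isClosedEmbedding.isInducing.topologicalKrullDim_le.trans hdim.le)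
    ?_
  obtain ⟨w, hw⟩ : η ∈ Set.range (inc (clo A)) := (range_inc _).ge (subset_closure hη)
  rw [Groth.Variety2.Dim.dim_eq_iSup_height]
  refine le_iSup_of_le w ?_
  have h1 : 1 ≤ Order.height w := by
    rw [Order.one_le_iff_ne_zero]
    intro h
    rw [Groth.Variety2.Dim.height_eq_zero_iff] at h
    apply hηc
    rw [← hw, ← Set.image_singleton]
    exact (inc (clo A)).isClosedEmbedding.isClosedMap _ h
  exact_mod_cast h1

/-- The functionals on `H¹(O)` carried by `A` are those of the subcurve. -/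
theorem finrank_dualAnnihilator_N [IsReduced X] (hdim : topologicalKrullDim X ≤ 1) {A : Set X}
    (hAf : A.Finite) (hA : ∀ η ∈ A, ¬ IsClosed ({η} : Set X)) :
    letI := subOver k (clo A)
    Module.finrank k (N k A (structureModule X)).dualAnnihilator =
      Curv2.genus k (sub (clo A)) := by
  letI := subOver k (clo A)
  haveI := isProper_sub k (clo A)
  have := noetherianSpace_of_proper k X
  haveI := finite_HH k X (isCoh_of_isInvertible (isInvertible_structureModule X)) 1
  let J := Scheme.IdealSheafData.vanishingIdeal (clo A)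
  let u := ClSub.toSubscheme J
  haveI : Epi u := Groth.CohBase.epi_unitPush_subschemeι J
  have hN : N k A (structureModule X) = LinearMap.ker (hMap k u 1) := by
    refine le_antisymm (N_le_ker k u fun η hη hηA z => ?_)
      (ker_le_N k u fun η hη => stalk_toSubscheme_injective (subset_closure hη)
        (isField_stalk_nonclosed k hdim (hA η hη)))
    exact @Subsingleton.elim _ (subsingleton_stalk_push (clo A) _
      fun h => hηA (mem_of_mem_closure k hdim hAf hA hη h)) _ _
  have h2 := Subspace.finrank_add_finrank_dualAnnihilator_eq (N k A (structureModule X))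
  have h3 := LinearMap.finrank_range_add_finrank_ker (hMap k u 1)
  rw [LinearMap.range_eq_top.2 (surjective_h1 k hdim u fun η _ => stalkLin_surjective u η),
    finrank_top, finrank_HH_push k (clo A) _
      (isCoh_of_isInvertible (isInvertible_structureModule _)).1, ← hN] at h3
  rw [Curv2.genus]
  omega

end Numerics

end Groth.Curves1.RR.Red
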