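import Mathlib
import Groth.Agent.Curves1.RR.ReducedRestrict
import Groth.Agent.Curves1.RR.GlobGen
import Groth.Agent.QCohMod.Coherent

/-!
# Global generation on reduced curves by degrees on the subcurves

If `χ(L|_Y) > h¹(Y, O)` for every connected union `Y` of components, then `H¹(L) = 0` and `L` is
globally generated.
-/

set_option linter.style.haveILetI false
set_option backward.isDefEq.respectTransparency.types false

universe u

open CategoryTheory Limits AlgebraicGeometry Coh TopologicalSpace Opposite

namespace Groth.Curves1.RR.Red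

open Groth.EulerDeg Groth.PicAux
open Groth.CohTwo (stalkLin stalkLin_germ stalkLin_comp)

attribute [local instance] secModule

variable {X : Scheme.{u}}

/-- The restriction of `L` to the closure of `A`, pushed forward. -/
noncomputable abbrev restMod (S : Closeds X) (L : X.Modules) : X.Modules :=
  (Scheme.Modules.pushforward (inc S)).obj ((Scheme.Modules.pullback (inc S)).obj L)

theorem isCoh_restMod (S : Closeds X) [IsLocallyNoetherian X] {L : X.Modules}
    (hL : PicF.IsInvertible L) : IsCoh (restMod S L) :=
  Groth.CohTwo.isCoh_push (inc S) (isCoh_of_isInvertible (isInvertible_pullback (inc S) hL))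

/-- At a point whose local ring is a field an invertible module has rank one. -/
theorem exists_smul_eq_of_isField {L : X.Modules} (hL : PicF.IsInvertible L) {η : X}
    (hf : IsField (X.presheaf.stalk η)) {a : L.presheaf.stalk η} (ha : a ≠ 0)
    (b : L.presheaf.stalk η) : ∃ r : X.presheaf.stalk η, r • a = b := by
  obtain ⟨W, e, -, hW, he⟩ := exists_affine_gen_mem hL η
  have hgen : ∀ c : L.presheaf.stalk η, ∃ r : X.presheaf.stalk η,
      r • L.presheaf.germ W η hW e = c := by
    intro c
    obtain ⟨U, hU, s, rfl⟩ := Groth.QCohMod.exists_germ L η c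
    obtain ⟨f, hf⟩ := he.exists_coeff (inf_le_right : U ⊓ W ≤ W) (res L (inf_le_left : U ⊓ W ≤ U) s)
    have hm : η ∈ U ⊓ W := ⟨hU, hW⟩
    refine ⟨X.presheaf.germ (U ⊓ W) η hm f, ?_⟩
    refine Eq.trans ?_ ((congrArg (Groth.QCohMod.germ L η hm) hf.symm).trans
      (Groth.QCohMod.germ_res L inf_le_left η hm s))
    rw [show L.presheaf.germ W η hW e = Groth.QCohMod.germ L η hm (res L inf_le_right e) from
      (Groth.QCohMod.germ_res L inf_le_right η hm e).symm]
    exact (Groth.QCohMod.germ_smul L η hm f _).symm
  obtain ⟨p, rfl⟩ := hgen a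
  obtain ⟨q, rfl⟩ := hgen b
  obtain ⟨p', hp'⟩ := hf.mul_inv_cancel (fun h => ha (by rw [h, zero_smul]) : p ≠ 0)
  exact ⟨q * p', by rw [smul_smul, mul_assoc, mul_comm p', hp', mul_one]⟩

section

variable (k : Type u) [Field k] [X.Over (Spec (CommRingCat.of k))]
  [IsProper (X ↘ Spec (CommRingCat.of k))] [IsReduced X]

/-- Sections of a submodule of the restriction of `L` against functionals on `H¹(O)`. -/
theorem finrank_h0_le_of_mono (hdim : topologicalKrullDim X ≤ 1) (A : Finset X)
    (hA : ∀ η ∈ A, ¬ IsClosed ({η} : Set X)) {L : X.Modules} (hL : PicF.IsInvertible L)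
    {M : X.Modules} (ι : M ⟶ restMod (clo (A : Set X)) L) [Mono ι]
    (hN : ∀ η ∈ A, N k ((A : Set X) \ {η}) M ≠ ⊥) (hM : IsCoh M) :
    Module.finrank k (HH X M 0) ≤
      Module.finrank k (N k (A : Set X) (structureModule X)).dualAnnihilator := by
  have := noetherianSpace_of_proper k X
  have := finite_HH k X hM 0
  have := finite_HH k X (isCoh_of_isInvertible (isInvertible_structureModule X)) 1
  have := Module.Finite.equiv (h0Equiv k M)
  rw [(h0Equiv k M).finrank_eq]
  refine finrank_sections_le k hdim
    (fun x y => eq_of_specializes_nonclosed k hdim x y) A hA M ?_ ?_ ?_ hN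
  · intro η hη a b ha
    have : Epi (rest (clo (A : Set X)) L) := epi_rest _ hL
    obtain ⟨a', ha'⟩ := stalkLin_surjective (rest (clo (A : Set X)) L) η (stalkLin ι η a)
    obtain ⟨b', hb'⟩ := stalkLin_surjective (rest (clo (A : Set X)) L) η (stalkLin ι η b)
    have ha0 : a' ≠ 0 := fun h => ha (stalkLin_injective ι η (by rw [← ha', h, map_zero, map_zero]))
    obtain ⟨r, hr⟩ := exists_smul_eq_of_isField hL (isField_stalk_nonclosed k hdim (hA η hη)) ha0 b'
    exact ⟨r, stalkLin_injective ι η (by rw [map_smul, ← ha', ← map_smul, hr, hb'])⟩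
  · intro η hη hηA
    exact @Function.Injective.subsingleton _ _ _ (stalkLin_injective ι η)
      (subsingleton_stalk_push _ _
        fun h => hηA (mem_of_mem_closure k hdim A.finite_toSet hA hη h))
  · intro t ht
    refine Groth.QCohMod.app_injective_of_mono ι ⊤ ((?_ : ι.app ⊤ t = 0).trans (map_zero _).symm)
    refine eq_zero_of_germ_eq_zero A.finite_toSet (isInvertible_pullback _ hL) _ fun η hη => ?_
    exact (stalkLin_germ ι η (U := ⊤) trivial t).symm.trans ((congrArg _ (ht η hη)).trans (map_zero _))

omit [IsReduced X] in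
/-- The Euler characteristic of the restriction is that on the subcurve. -/
theorem euler_restMod (hdim : topologicalKrullDim X ≤ 1) (S : Closeds X) {L : X.Modules}
    (hL : PicF.IsInvertible L) :
    letI := subOver k S
    Curv2.euler k X (restMod S L) =
      Curv2.euler k (sub S) ((Scheme.Modules.pullback (inc S)).obj L) := by
  letI := subOver k S
  haveI := isProper_sub k S
  have hq := (isCoh_of_isInvertible (isInvertible_pullback (inc S) hL)).1
  rw [euler_eq_h0_sub_h1 k X hdim, euler_eq_h0_sub_h1 k (sub S)
    ((inc S).isClosedEmbedding.isInducing.topologicalKrullDim_le.trans hdim),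
    finrank_HH_push k S _ hq, finrank_HH_push k S _ hq]

/-- Degree at least `2g` on the subcurve: `χ` of the restriction exceeds its genus. -/
theorem lt_euler_restMod (hdim : topologicalKrullDim X ≤ 1) {A : Set X} (hAf : A.Finite)
    (hA : ∀ η ∈ A, ¬ IsClosed ({η} : Set X)) (hne : A.Nonempty) {L : X.Modules}
    (hL : PicF.IsInvertible L)
    (hdeg : letI := subOver k (clo A)
      2 * (Curv2.genus k (sub (clo A)) : ℤ) ≤
        Curv2.deg k (sub (clo A)) ((Scheme.Modules.pullback (inc (clo A))).obj L) 1) :
    (Module.finrank k (N k A (structureModule X)).dualAnnihilator : ℤ) <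
      Curv2.euler k X (restMod (clo A) L) := by
  letI := subOver k (clo A)
  haveI := isProper_sub k (clo A)
  have hdimY := (inc (clo A)).isClosedEmbedding.isInducing.topologicalKrullDim_le.trans hdim
  rw [finrank_dualAnnihilator_N k hdim hAf hA, euler_restMod k hdim _ hL]
  rw [euler_eq_deg_add k _ 1, euler_structure k (sub (clo A)) hdimY]
  have hfin := finite_HH k (sub (clo A)) (isCoh_of_isInvertible (isInvertible_structureModule _)) 0
  have hnt : Nontrivial (HH (sub (clo A)) (structureModule (sub (clo A))) 0) := by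
    obtain ⟨η, hη⟩ := hne
    obtain ⟨w, -⟩ : η ∈ Set.range (inc (clo A)) := (range_inc _).ge (subset_closure hη)
    have : Nontrivial Γ(sub (clo A), ⊤) :=
      ((sub (clo A)).presheaf.germ ⊤ w trivial).hom.domain_nontrivial
    exact @Equiv.nontrivial _ _ (h0Equiv k (structureModule (sub (clo A)))).toEquiv ‹Nontrivial Γ(sub (clo A), ⊤)›
  have h0 : 0 < Module.finrank k (HH (sub (clo A)) (structureModule (sub (clo A))) 0) :=
    Module.finrank_pos
  push_cast
  omega

variable {L : X.Modules} (hL : PicF.IsInvertible L) (hdim : topologicalKrullDim X ≤ 1)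
  (hχ : ∀ A : Finset X, (∀ η ∈ A, ¬ IsClosed ({η} : Set X)) → A.Nonempty →
    ConnectedSpace (sub (clo (A : Set X))) →
    (Module.finrank k (N k (A : Set X) (structureModule X)).dualAnnihilator : ℤ) <
      Curv2.euler k X (restMod (clo (A : Set X)) L))

include hL hdim hχ

/-- Every class in `H¹(L)` vanishes on every set of non-closed points. -/
theorem N_eq_top (A : Finset X) (hA : ∀ η ∈ A, ¬ IsClosed ({η} : Set X)) :
    N k (A : Set X) L = ⊤ := by
  classical
  have := noetherianSpace_of_proper k X
  have := isNoetherian_of_proper k X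
  induction A using Finset.strongInduction with
  | H A ih =>
    rcases A.eq_empty_or_nonempty with rfl | hne
    · rw [Finset.coe_empty]
      exact LinearMap.range_eq_top.2 (surjective_h1 k hdim _ fun η _ =>
        stalk_vι_surjective Set.finite_empty fun _ h => absurd h (Set.notMem_empty _))
    by_cases hconn : ConnectedSpace (sub (clo (A : Set X)))
    swap
    · obtain ⟨A₁, A₂, h₁, h₂, hU, hd⟩ := exists_split hne hconn
      refine top_le_iff.1 ?_
      have := N_inf_le_of_disjoint k A₁.finite_toSet A₂.finite_toSet hd L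
      rwa [ih A₁ h₁ fun η hη => hA η (h₁.1 hη), ih A₂ h₂ fun η hη => hA η (h₂.1 hη), hU,
        inf_idem] at this
    by_contra hne'
    let u := rest (clo (A : Set X)) L
    have : Epi u := epi_rest _ hL
    have hcoh := isCoh_restMod (clo (A : Set X)) hL
    refine not_lt.2 (?_ : Curv2.euler k X (restMod (clo (A : Set X)) L) ≤
      (Module.finrank k (N k (A : Set X) (structureModule X)).dualAnnihilator : ℤ))
      (hχ A hA hne hconn)
    have h0 : Module.finrank k (HH X (restMod (clo (A : Set X)) L) 0) ≤
        Module.finrank k (N k (A : Set X) (structureModule X)).dualAnnihilator := by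
      refine finrank_h0_le_of_mono k hdim A hA hL (𝟙 _) (fun η hη h => hne' ?_) hcoh
      refine top_le_iff.1 fun z _ => ker_le_N k u (fun η' hη' =>
        stalk_rest_injective hL (subset_closure hη') (isField_stalk_nonclosed k hdim (hA η' hη')))
        (LinearMap.mem_ker.2 ?_)
      have hz : z ∈ N k ((A : Set X) \ {η}) L := by
        rw [← Finset.coe_erase, ih (A.erase η) (Finset.erase_ssubset hη)
          fun η' hη' => hA η' (Finset.mem_of_mem_erase hη')]
        exact Submodule.mem_top
      exact (Submodule.mem_bot k).1 (h.le (map_N_le k u ⟨z, hz, rfl⟩))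
    rw [euler_eq_h0_sub_h1 k X hdim]
    omega

/-- `H¹(L) = 0`. -/
theorem subsingleton_h1 : Subsingleton (HH X L 1) := by
  have := noetherianSpace_of_proper k X
  have hG := finite_nonclosed k hdim (X := X)
  have h := N_eq_top k hL hdim hχ hG.toFinset fun η hη => hG.mem_toFinset.1 hη
  rw [N_eq_bot k (M := L) (A := (hG.toFinset : Set X))
    fun η hη h' => absurd (hG.mem_toFinset.2 hη) h'] at h
  exact Submodule.subsingleton_iff k |>.1 (subsingleton_of_bot_eq_top h)

/-- Every closed point has a section generating there. -/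
theorem exists_mem_gloc_reduced {x : X} (hx : IsClosed ({x} : Set X)) :
    ∃ t : Γ(L, ⊤), x ∈ Groth.PropsBasic.Ample.gloc t := by
  classical
  have := noetherianSpace_of_proper k X
  have := isNoetherian_of_proper k X
  have hL1 := subsingleton_h1 k hL hdim hχ
  by_contra hall
  push Not at hall
  let S₀ : Closeds X := ⟨{x}, hx⟩
  let u := rest S₀ L
  have : Epi u := epi_rest _ hL
  let M := kernel u
  let j : M ⟶ L := kernel.ι u
  let C := restMod S₀ L
  have hLc := isCoh_of_isInvertible hL
  have hCc : IsCoh C := isCoh_restMod S₀ hL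
  have hMc : IsCoh M := by
    have := hCc.1
    exact Groth.QCohMod.isCoh_kernel u hLc
  let S := ShortComplex.mk j u (kernel.condition u)
  have hS : S.ShortExact := { exact := ShortComplex.exact_of_f_is_kernel _ (kernelIsKernel u) }
  have hoffC : ∀ y : X, y ≠ x → Subsingleton (C.presheaf.stalk y) := fun y hy =>
    subsingleton_stalk_push S₀ _ hy
  have hCs : SupportedAtClosed C := fun y hy => by
    by_cases h : y = x
    · exact h ▸ hx
    · exact absurd (hoffC y h) hy
  -- the connecting map is injective
  have := finite_HH k X hCc 0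
  have := finite_HH k X hMc 1
  have hδ : Function.Injective (hDelta k hS 0) := (injective_iff_map_eq_zero _).2 fun z hz => by
    obtain ⟨v, rfl⟩ := (exact_right k hS 0 z).1 hz
    refine (h0Equiv k C).map_eq_zero_iff.1 ?_
    rw [h0Equiv_hMap]
    exact rest_eq_zero S₀ hL (fun z hz => hz) _ (hall _)
  have hCM : Module.finrank k (HH X C 0) ≤ Module.finrank k (HH X M 1) :=
    LinearMap.finrank_le_finrank_of_injective hδ
  have hC0 : Nontrivial (HH X C 0) := by
    by_contra h
    rw [not_nontrivial_iff_subsingleton] at h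
    have : Nonempty (sub S₀) := by
      obtain ⟨w, -⟩ : x ∈ Set.range (inc S₀) := (range_inc S₀).ge rfl
      exact ⟨w⟩
    exact not_isZero_push S₀ hL (isZero_of_subsingleton_H0 hCs h)
  have hM1 : Nontrivial (HH X M 1) := hδ.nontrivial
  -- a minimal set of points seeing all of `H¹(M)`
  have hG := finite_nonclosed k hdim (X := X)
  let F := hG.toFinset.powerset.filter fun B : Finset X => N k (B : Set X) M = ⊥
  have hF : F.Nonempty := ⟨hG.toFinset, Finset.mem_filter.2 ⟨Finset.mem_powerset.2 le_rfl,
    N_eq_bot k fun η hη h' => absurd (hG.mem_toFinset.2 hη) h'⟩⟩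
  obtain ⟨A, hAF, hAmin⟩ := F.exists_min_image Finset.card hF
  obtain ⟨hAG, hAbot⟩ := Finset.mem_filter.1 hAF
  rw [Finset.mem_powerset] at hAG
  have hA : ∀ η ∈ A, ¬ IsClosed ({η} : Set X) := fun η hη => hG.mem_toFinset.1 (hAG hη)
  have hmin : ∀ B : Finset X, B ⊂ A → N k (B : Set X) M ≠ ⊥ := fun B hB h =>
    (Finset.card_lt_card hB).not_ge
      (hAmin B (Finset.mem_filter.2 ⟨Finset.mem_powerset.2 (hB.1.trans hAG), h⟩))
  have hne : A.Nonempty := by
    by_contra h
    rw [Finset.not_nonempty_iff_eq_empty] at h
    subst h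
    rw [Finset.coe_empty, N, LinearMap.range_eq_bot] at hAbot
    obtain ⟨m, hm⟩ := exists_ne (0 : HH X M 1)
    obtain ⟨p, rfl⟩ := surjective_h1 k hdim (vι (∅ : Set X) M) (fun η _ =>
      stalk_vι_surjective Set.finite_empty fun _ h => absurd h (Set.notMem_empty _)) m
    exact hm (LinearMap.congr_fun hAbot p)
  have hconn : ConnectedSpace (sub (clo (A : Set X))) := by
    by_contra hconn
    obtain ⟨A₁, A₂, h₁, h₂, hU, hd⟩ := exists_split hne hconn
    suffices key : ∀ B₁ B₂ : Finset X, B₁ ⊂ A → (B₁ : Set X) ∪ B₂ = A →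
        Disjoint (closure (B₁ : Set X)) (closure (B₂ : Set X)) → x ∉ closure (B₂ : Set X) → False by
      by_cases hx2 : x ∈ closure (A₂ : Set X)
      · exact key A₂ A₁ h₂ (by rw [Set.union_comm, hU]) hd.symm
          fun hx1 => hd.le_bot ⟨hx1, hx2⟩
      · exact key A₁ A₂ h₁ hU hd hx2
    intro B₁ B₂ h₁ hU hd hxB
    have : Epi (biprod.desc (vι (B₂ : Set X) L) j) := by
      rw [Groth.QCohMod.epi_iff_stalk]
      intro y z
      by_cases hy : ∀ η ∈ (B₂ : Set X), ¬ η ⤳ y
      · obtain ⟨w, hw⟩ := stalk_vι_surjective B₂.finite_toSet hy z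
        refine ⟨stalkLin biprod.inl y w, ?_⟩
        show stalkLin (biprod.desc (vι (B₂ : Set X) L) j) y _ = z
        rw [← stalkLin_comp, biprod.inl_desc, hw]
      · push Not at hy
        obtain ⟨η, hη, hηy⟩ := hy
        have hyx : y ≠ x := fun h =>
          hxB (closure_mono (Set.singleton_subset_iff.2 hη) (h ▸ hηy.mem_closure))
        obtain ⟨w, hw⟩ := (ShortComplex.ab_exact_iff _).1 (hS.exact.map (Groth.QCohMod.stalk y)) z
          (@Subsingleton.elim _ (hoffC y hyx) _ _)
        refine ⟨stalkLin biprod.inr y w, ?_⟩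
        show stalkLin (biprod.desc (vι (B₂ : Set X) L) j) y _ = z
        rw [← stalkLin_comp, biprod.inr_desc]
        exact hw
    have htop : N k (B₂ : Set X) M = ⊤ := top_le_iff.1 fun m _ =>
      mem_N_of_pair k (vι (B₂ : Set X) L) j (fun η hη z => stalk_vι_eq_zero hη z)
        (fun η _ => stalkLin_injective j η) (p := 0) (Subsingleton.elim _ _)
    have h := N_inf_le_of_disjoint k B₁.finite_toSet B₂.finite_toSet hd M
    rw [hU, htop, inf_top_eq, hAbot] at h
    exact hmin B₁ h₁ (eq_bot_iff.2 h)
  -- the image of `M` on the subcurve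
  let v := rest (clo (A : Set X)) L
  have : Epi v := epi_rest _ hL
  let LY := restMod (clo (A : Set X)) L
  have hLYc : IsCoh LY := isCoh_restMod _ hL
  let f : M ⟶ LY := j ≫ v
  let MA := Abelian.image f
  let ι : MA ⟶ LY := Abelian.image.ι f
  have hMAc : IsCoh MA := by
    have := hMc.1
    have := (Groth.QCohMod.isCoh_cokernel f hLYc).1
    exact Groth.QCohMod.isCoh_kernel (cokernel.π f) hLYc
  let p : M ⟶ MA := Abelian.factorThruImage f
  have hp : Function.Injective (hMap k p 1) := by
    rw [← LinearMap.ker_eq_bot, eq_bot_iff, ← hAbot]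
    refine ker_le_N k p fun η hη => ?_
    have hf : Function.Injective (stalkLin f η) := by
      intro a b hab
      rw [stalkLin_comp, stalkLin_comp] at hab
      exact stalkLin_injective j η
        (stalk_rest_injective hL (subset_closure hη) (isField_stalk_nonclosed k hdim (hA η hη)) hab)
    intro a b hab
    refine hf ?_
    rw [← Abelian.image.fac f, stalkLin_comp, stalkLin_comp]
    exact congrArg _ hab
  have := finite_HH k X hMAc 1
  have h1 : Module.finrank k (HH X M 1) ≤ Module.finrank k (HH X MA 1) :=
    LinearMap.finrank_le_finrank_of_injective hp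
  have h0 : Module.finrank k (HH X MA 0) ≤
      Module.finrank k (N k (A : Set X) (structureModule X)).dualAnnihilator := by
    refine finrank_h0_le_of_mono k hdim A hA hL ι (fun η hη h => ?_) hMAc
    refine hmin (A.erase η) (Finset.erase_ssubset hη) (eq_bot_iff.2 fun z hz => ?_)
    rw [Finset.coe_erase] at hz
    refine (Submodule.mem_bot k).2 (hp ?_)
    rw [map_zero]
    exact (Submodule.mem_bot k).1 (h.le (map_N_le k p ⟨z, hz, rfl⟩))
  -- the cokernel is a quotient of `C`
  let π := cokernel.π ι
  let q : C ⟶ cokernel ι := Abelian.epiDesc u (v ≫ π) (by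
    have e : j ≫ v = p ≫ ι := (Abelian.image.fac f).symm
    show j ≫ v ≫ π = 0
    rw [← Category.assoc, e, Category.assoc, cokernel.condition, comp_zero])
  have hq : u ≫ q = v ≫ π := Abelian.comp_epiDesc _ _ _
  have : Epi q := epi_of_epi_fac hq
  have hQs : SupportedAtClosed (cokernel ι) := fun y hy => hCs y fun hs =>
    hy (@Function.Surjective.subsingleton _ _ _ hs (stalkLin_surjective q y))
  have hQc : IsCoh (cokernel ι) := by
    have := hMAc.1
    exact Groth.QCohMod.isCoh_cokernel ι hLYc
  have hQ0 : Module.finrank k (HH X (cokernel ι) 0) ≤ Module.finrank k (HH X C 0) := by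
    let T := ShortComplex.mk (kernel.ι q) q (kernel.condition q)
    have hT : T.ShortExact := { exact := ShortComplex.exact_of_f_is_kernel _ (kernelIsKernel q) }
    have hK : SupportedAtClosed (kernel q) := fun y hy => hCs y fun hs =>
      hy (@Function.Injective.subsingleton _ _ _ (stalkLin_injective (kernel.ι q) y) hs)
    have := subsingleton_HH_succ_of_supportedAtClosed hK 0
    exact LinearMap.finrank_le_finrank_of_surjective (f := hMap k q 0)
      fun z => (exact_right k hT 0 z).1 (Subsingleton.elim _ _)
  have hSI : (ShortComplex.mk ι π (cokernel.condition ι)).ShortExact :=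
    { exact := ShortComplex.exact_cokernel ι }
  have e := euler_add hSI (finCoh k X hMAc) (finCoh k X hQc)
  have hlt := hχ A hA hne hconn
  rw [e] at hlt
  dsimp only at hlt
  rw [euler_eq_h0_sub_h1 k X hdim MA, euler_eq_h0 k hQs] at hlt
  omega

/-- `L` is globally generated. -/
theorem isGloballyGenerated_reduced : Curv2.IsGloballyGenerated L := by
  have : CompactSpace X := Groth.EulerDeg.compactSpace_of_proper k X
  refine Groth.Chow.isGloballyGenerated_of_cover (id : Γ(L, ⊤) → Γ(L, ⊤))
    (eq_top_iff.2 fun y _ => ?_)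
  obtain ⟨x, hx, hxc⟩ := IsClosed.exists_closed_singleton (isClosed_closure (s := ({y} : Set X)))
    ⟨y, subset_closure rfl⟩
  obtain ⟨t, ht⟩ := exists_mem_gloc_reduced k hL hdim hχ hxc
  exact Opens.mem_iSup.2 ⟨t, (specializes_iff_mem_closure.2 hx).mem_open
    (Groth.PropsBasic.Ample.gloc t).isOpen ht⟩

end

end Groth.Curves1.RR.Red
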