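import Mathlib
import Groth.Agent.Curves1.RR.ReducedGG
import Groth.Agent.ModelsGraphs.GlobalFunctions

/-!
# Functions on a connected subcurve act freely on `H¹` of a submodule of the restriction
-/

set_option linter.style.haveILetI false
set_option backward.isDefEq.respectTransparency.types false

universe u

open CategoryTheory Limits AlgebraicGeometry Coh TopologicalSpace Opposite

namespace Groth.Curves1.RR.Red

open Groth.EulerDeg Groth.PicAux
open Groth.ModelsGraphs.DualExtend (smulHom smulHom_app smulHom_comm cAt)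

attribute [local instance] secModule

section Field

variable (k : Type u) [Field k] {Y : Scheme.{u}} [Y.Over (Spec (CommRingCat.of k))]
  [IsProper (Y ↘ Spec (CommRingCat.of k))] [IsReduced Y] [ConnectedSpace Y]

include k

/-- A connected reduced proper scheme over a field has a field of global functions. -/
theorem isField_sections : IsField Γ(Y, ⊤) := by
  letI : Algebra k Γ(Y, ⊤) :=
    RingHom.toAlgebra (show k →+* Γ(Y, ⊤) from toGlobal (Y ↘ Spec (CommRingCat.of k)))
  haveI : Module.Finite k Γ(Y, ⊤) := by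
    have := finite_HH k Y (isCoh_of_isInvertible (isInvertible_structureModule Y)) 0
    have := Module.Finite.equiv (h0Equiv k (structureModule Y))
    exact Module.Finite.equiv
      ({ (Equiv.refl _ : Γ(Y, ⊤) ≃ Γ(Y, ⊤)) with
        toFun := fun x => toFun x
        invFun := fun x => x
        map_add' := fun _ _ => rfl
        map_smul' := fun a x => by
          show toFun (a • x) = _
          rw [smul_sec, toFun_smul]
          exact congrArg (· * toFun x) (resX_self _ _) } :
        Γ(structureModule Y, (⊤ : Y.Opens)) ≃ₗ[k] Γ(Y, ⊤))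
  haveI : IsArtinianRing Γ(Y, ⊤) := IsArtinianRing.of_finite k _
  obtain ⟨y⟩ : Nonempty Y := inferInstance
  haveI : Nontrivial Γ(Y, ⊤) := (Y.presheaf.germ ⊤ y trivial).hom.domain_nontrivial
  refine ⟨exists_pair_ne _, mul_comm, fun {f} hf => ?_⟩
  obtain ⟨n, b, hb⟩ := IsArtinian.exists_pow_succ_smul_dvd f (1 : Γ(Y, ⊤))
  rw [smul_eq_mul, smul_eq_mul, mul_one] at hb
  have hz : f * (1 - f * b) = 0 := by
    refine IsNilpotent.eq_zero ⟨n + 1, ?_⟩
    have h1 : f ^ n * (1 - f * b) = 0 := by
      rw [mul_sub, mul_one, ← mul_assoc, ← pow_succ, hb, sub_self]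
    rw [mul_pow, pow_succ f n, pow_succ (1 - f * b) n]
    linear_combination (f * (1 - f * b) ^ n) * h1
  rcases Groth.ModelsGraphs.GlobalFun.eq_zero_or_one_of_idem (f * b)
      (by linear_combination -b * hz) with h | h
  · rw [h, sub_zero, mul_one] at hz
    exact absurd hz hf
  · exact ⟨b, h⟩

end Field

variable {X : Scheme.{u}}

theorem smulHom_add (M : X.Modules) (f g : Γ(X, ⊤)) :
    smulHom M (f + g) = smulHom M f + smulHom M g :=
  Groth.CohTwo.hom_ext_app fun W s => by
    refine Eq.trans ?_ (congr($(Scheme.Modules.Hom.add_app (smulHom M f) (smulHom M g) (U := W)) s)).symm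
    rw [smulHom_app]
    show cAt (f + g) W • s = cAt f W • s + cAt g W • s
    rw [← add_smul, ← map_add]

theorem smulHom_mul' (M : X.Modules) (f g : Γ(X, ⊤)) :
    smulHom M (f * g) = smulHom M g ≫ smulHom M f :=
  Groth.CohTwo.hom_ext_app fun W s => by
    rw [smulHom_app]
    show cAt (f * g) W • s = cAt f W • cAt g W • s
    rw [smul_smul, ← map_mul]

theorem smulHom_one (M : X.Modules) : smulHom M (1 : Γ(X, ⊤)) = 𝟙 M :=
  Groth.CohTwo.hom_ext_app fun W s => by
    rw [smulHom_app]
    show cAt (1 : Γ(X, ⊤)) W • s = s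
    rw [cAt, map_one, one_smul]

variable {S : Closeds X}

/-- A function on the subscheme as an endomorphism of the restriction. -/
noncomputable abbrev subEndo (L : X.Modules) (f : Γ(sub S, ⊤)) : restMod S L ⟶ restMod S L :=
  (Scheme.Modules.pushforward (inc S)).map
    (smulHom ((Scheme.Modules.pullback (inc S)).obj L) f)

/-- Images in the restriction are stable under functions on the subscheme. -/
theorem comp_subEndo_comp_cokernel {L M : X.Modules} (φ : M ⟶ restMod S L) (f : Γ(sub S, ⊤)) :
    φ ≫ subEndo L f ≫ cokernel.π φ = 0 := by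
  refine Groth.CohTwo.hom_ext_app fun W w => ?_
  choose U hU hyU hUW using fun y : W => (show ∃ U : X.Opens, IsAffineOpen U ∧ (y : X) ∈ U ∧ U ≤ W by
    obtain ⟨_, ⟨U, hU, rfl⟩, hyU, hUW⟩ := X.isBasis_affineOpens.exists_subset_of_mem_open y.2 W.isOpen
    exact ⟨U, hU, hyU, hUW⟩)
  refine res_ext U hUW (fun y hy => Opens.mem_iSup.2 ⟨⟨y, hy⟩, hyU ⟨y, hy⟩⟩) fun y => ?_
  rw [← app_res]
  obtain ⟨F, hF⟩ := (Scheme.IdealSheafData.vanishingIdeal S).subschemeι_app_surjective
    ⟨U y, hU y⟩ (cAt f (inc S ⁻¹ᵁ U y))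
  refine Eq.trans ?_ (res_zero _).symm
  show (cokernel.π φ).app (U y) ((subEndo L f).app (U y) (φ.app (U y) (res M (hUW y) w))) = 0
  have h1 : (subEndo L f).app (U y) (φ.app (U y) (res M (hUW y) w)) =
      φ.app (U y) (F • res M (hUW y) w) := by
    rw [Scheme.Modules.Hom.app_smul]
    show cAt f (inc S ⁻¹ᵁ U y) •
        (show Γ((Scheme.Modules.pullback (inc S)).obj L, inc S ⁻¹ᵁ U y) from φ.app (U y) (res M (hUW y) w)) =
      (inc S).app (U y) F •
        (show Γ((Scheme.Modules.pullback (inc S)).obj L, inc S ⁻¹ᵁ U y) from φ.app (U y) (res M (hUW y) w))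
    rw [show (inc S).app (U y) F = cAt f (inc S ⁻¹ᵁ U y) from hF]
  rw [h1]
  exact congr(($(cokernel.condition φ)).app (U y) (F • res M (hUW y) w))

variable (k : Type u) [Field k] [X.Over (Spec (CommRingCat.of k))]
  [IsProper (X ↘ Spec (CommRingCat.of k))]

omit [IsProper (X ↘ Spec (CommRingCat.of k))] in
/-- Constants act as constants. -/
theorem subEndo_const (L : X.Modules) (a : k) :
    letI := subOver k S
    subEndo (S := S) L (toGlobal ((sub S) ↘ Spec (CommRingCat.of k)) a) =
      smulHom (restMod S L) (toGlobal (X ↘ Spec (CommRingCat.of k)) a) := by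
  letI := subOver k S
  refine Groth.CohTwo.hom_ext_app fun W s => ?_
  rw [smulHom_app]
  show cAt _ (inc S ⁻¹ᵁ W) • (show Γ((Scheme.Modules.pullback (inc S)).obj L, inc S ⁻¹ᵁ W) from s) =
    (inc S).app W (cAt _ W) • (show Γ((Scheme.Modules.pullback (inc S)).obj L, inc S ⁻¹ᵁ W) from s)
  rw [show (inc S).app W (cAt (toGlobal (X ↘ Spec (CommRingCat.of k)) a) W) =
      cAt (toGlobal ((sub S) ↘ Spec (CommRingCat.of k)) a) (inc S ⁻¹ᵁ W) from
    congr($((inc S).naturality (homOfLE (le_top : W ≤ ⊤)).op)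
      (toGlobal (X ↘ Spec (CommRingCat.of k)) a))]

/-- `h¹` of a nonzero-`H¹` image in the restriction to a connected subscheme is at least `h⁰(O)`. -/
theorem finrank_h0_le_h1_image [ConnectedSpace (sub S)] {L M : X.Modules}
    (φ : M ⟶ restMod S L) [Module.Finite k (HH X (Abelian.image φ) 1)]
    (hne : Nontrivial (HH X (Abelian.image φ) 1)) :
    letI := subOver k S
    Module.finrank k (HH (sub S) (structureModule (sub S)) 0) ≤
      Module.finrank k (HH X (Abelian.image φ) 1) := by
  letI := subOver k S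
  haveI := isProper_sub k S
  let MA := Abelian.image φ
  let ι : MA ⟶ restMod S L := Abelian.image.ι φ
  let p : M ⟶ MA := Abelian.factorThruImage φ
  have hcond : ∀ f : Γ(sub S, ⊤), (ι ≫ subEndo L f) ≫ cokernel.π φ = 0 := fun f => by
    rw [← cancel_epi p, comp_zero, ← Category.assoc, ← Category.assoc, Abelian.image.fac,
      Category.assoc, comp_subEndo_comp_cokernel]
  let ψ : Γ(sub S, ⊤) → (MA ⟶ MA) := fun f => kernel.lift (cokernel.π φ) _ (hcond f)
  have hψ : ∀ f, ψ f ≫ ι = ι ≫ subEndo L f := fun f => kernel.lift_ι _ _ _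
  have hadd : ∀ f g, ψ (f + g) = ψ f + ψ g := fun f g => by
    rw [← cancel_mono ι, Preadditive.add_comp, hψ, hψ, hψ, ← Preadditive.comp_add]
    refine congrArg (ι ≫ ·) ?_
    show (Scheme.Modules.pushforward (inc S)).map _ = _
    rw [smulHom_add, Functor.map_add]
  have hmul : ∀ f g, ψ (f * g) = ψ g ≫ ψ f := fun f g => by
    rw [← cancel_mono ι, Category.assoc, hψ, hψ, ← Category.assoc, hψ, Category.assoc]
    refine congrArg (ι ≫ ·) ?_
    show (Scheme.Modules.pushforward (inc S)).map _ = _
    rw [smulHom_mul', Functor.map_comp]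
  have hone : ψ 1 = 𝟙 MA := by
    rw [← cancel_mono ι, hψ, Category.id_comp]
    show ι ≫ (Scheme.Modules.pushforward (inc S)).map _ = _
    rw [smulHom_one, CategoryTheory.Functor.map_id, Category.comp_id]
  have hconst : ∀ a : k, ψ (toGlobal ((sub S) ↘ Spec (CommRingCat.of k)) a) =
      smulHom MA (toGlobal (X ↘ Spec (CommRingCat.of k)) a) := fun a => by
    rw [← cancel_mono ι, hψ, subEndo_const, smulHom_comm]
  letI : Algebra k Γ(sub S, ⊤) := RingHom.toAlgebra
    (show k →+* Γ(sub S, ⊤) from toGlobal ((sub S) ↘ Spec (CommRingCat.of k)))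
  obtain ⟨v, hv⟩ := exists_ne (0 : HH X MA 1)
  let Φ : Γ(sub S, ⊤) →ₗ[k] HH X MA 1 :=
    { toFun := fun f => hMap k (ψ f) 1 v
      map_add' := fun f g => by rw [hadd, hMap_add]
      map_smul' := fun a f => by
        rw [Algebra.smul_def, hmul, hMap_comp_apply]
        show hMap k (ψ (toGlobal ((sub S) ↘ Spec (CommRingCat.of k)) a)) 1 _ = _
        rw [hconst, hMap_smulHom]
        rfl }
  have hinj : Function.Injective Φ := (injective_iff_map_eq_zero _).2 fun f hf => by
    by_contra hf0
    obtain ⟨g, hg⟩ := (isField_sections k (Y := sub S)).mul_inv_cancel hf0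
    refine hv ?_
    have h1 : hMap k (ψ (g * f)) 1 v = 0 := by
      rw [hmul, hMap_comp_apply, show hMap k (ψ f) 1 v = 0 from hf, map_zero]
    rw [mul_comm, hg, hone, hMap_id] at h1
    exact h1
  let e₀ : Γ(structureModule (sub S), (⊤ : (sub S).Opens)) ≃ₗ[k] Γ(sub S, ⊤) :=
    { (Equiv.refl _ : Γ(sub S, ⊤) ≃ Γ(sub S, ⊤)) with
      toFun := fun x => toFun x
      invFun := fun x => x
      map_add' := fun _ _ => rfl
      map_smul' := fun a x => by
        show toFun (a • x) = _
        rw [smul_sec, toFun_smul]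
        exact congrArg (· * toFun x) (resX_self _ _) }
  rw [(h0Equiv k (structureModule (sub S))).finrank_eq.trans e₀.finrank_eq]
  exact LinearMap.finrank_le_finrank_of_injective hinj

end Groth.Curves1.RR.Red
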