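import Mathlib
import Groth.Agent.Curves1.RR.ReducedH1
import Groth.Agent.EulerDeg.CartierDegree
import Groth.Agent.OmegaSheaf.IdealMod

/-!
# `H¹(I ⊗ L) ≠ 0` bounds the degree of `L` on a connected subcurve
-/

set_option linter.style.haveILetI false
set_option backward.isDefEq.respectTransparency.types false

universe u

open CategoryTheory Limits AlgebraicGeometry Coh TopologicalSpace Opposite

namespace Groth.Curves1.RR.Red

open Groth.EulerDeg Groth.PicAux
open Groth.CohTwo (stalkLin stalkLin_germ stalkLin_comp)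

attribute [local instance] secModule

variable {X : Scheme.{u}}

/-- If the image of `I_Z ⊗ L` in the restriction to `S` is `φ`'s, the cokernel is killed by
`I_Z + I_S`. -/
theorem exists_epi_twist_sup (S : Closeds X) (Z : X.IdealSheafData) {L : X.Modules}
    (hL : PicF.IsInvertible L) (e₂ : CohB1.tensorMod (structureModule X) L ≅ L)
    (he₂ : ∀ W r a, e₂.hom.app W (tmulSec r a) = toFun r • a) :
    ∃ q : CohB1.tensorMod (ClSub.quotMod (Z ⊔ Scheme.IdealSheafData.vanishingIdeal S)) L ⟶
        cokernel (((DCoh.tensorRightMod L).map (ClSub.idealModι Z) ≫ e₂.hom) ≫ rest S L), Epi q := by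
  let J := Scheme.IdealSheafData.vanishingIdeal S
  let T := DCoh.tensorRightMod L
  let φ := ((T.map (ClSub.idealModι Z)) ≫ e₂.hom) ≫ rest S L
  let π := cokernel.π φ
  let θ : CohB1.tensorMod (structureModule X) L ⟶ cokernel φ := e₂.hom ≫ rest S L ≫ π
  have hθ : ∀ (W : X.Opens) (r : Γ(X, W)) (a : Γ(L, W)),
      θ.app W (tmulSec (show Γ(structureModule X, W) from r) a) =
        π.app W ((rest S L).app W (r • a)) := fun W r a => by
    show π.app W ((rest S L).app W (e₂.hom.app W (tmulSec (show Γ(structureModule X, W) from r) a))) = _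
    rw [he₂]
    rfl
  have hZ : ∀ (U : X.affineOpens) (r : Γ(X, U.1)) (a : Γ(L, U.1)), r ∈ Z.ideal U →
      π.app U.1 ((rest S L).app U.1 (r • a)) = 0 := fun U r a hr => by
    obtain ⟨c, rfl⟩ := Groth.OmegaSheaf.exists_idealSect Z U hr
    have h1 : e₂.hom.app U.1 ((T.map (ClSub.idealModι Z)).app U.1 (tmulSec c a)) =
        OmegaSh.idealSect Z U.1 c • a := by
      rw [tensorRightMod_map_tmulSec, he₂]
      rfl
    rw [← h1]
    exact congr(($(cokernel.condition φ)).app U.1 (tmulSec c a))
  have hJ : ∀ (U : X.affineOpens) (r : Γ(X, U.1)) (a : Γ(L, U.1)), r ∈ J.ideal U →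
      π.app U.1 ((rest S L).app U.1 (r • a)) = 0 := fun U r a hr => by
    have hr0 : (inc S).app U.1 r = 0 := by
      rw [← Scheme.IdealSheafData.ker_subschemeι_app, RingHom.mem_ker] at hr
      exact hr
    rw [rest_app, pullSec_smul, hr0, zero_smul]
    exact map_zero _
  have hkill : T.map (ClSub.idealModι (Z ⊔ J)) ≫ θ = 0 := by
    refine tensor_hom_ext fun W c a => ?_
    choose U hU hyU hUW using fun y : W =>
      (show ∃ U : X.Opens, IsAffineOpen U ∧ (y : X) ∈ U ∧ U ≤ W by
        obtain ⟨_, ⟨U, hU, rfl⟩, hyU, hUW⟩ :=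
          X.isBasis_affineOpens.exists_subset_of_mem_open y.2 W.isOpen
        exact ⟨U, hU, hyU, hUW⟩)
    refine res_ext U hUW (fun y hy => Opens.mem_iSup.2 ⟨⟨y, hy⟩, hyU ⟨y, hy⟩⟩) fun y => ?_
    refine Eq.trans ?_ (res_zero _).symm
    show res _ (hUW y) (θ.app W ((T.map (ClSub.idealModι (Z ⊔ J))).app W (tmulSec c a))) = 0
    rw [tensorRightMod_map_tmulSec, ← app_res, res_tmulSec]
    have hm := Groth.OmegaSheaf.idealSect_mem (Z ⊔ J) ⟨U y, hU y⟩
      (res (ClSub.idealMod (Z ⊔ J)) (hUW y) c)
    rw [Scheme.IdealSheafData.ideal_sup, Pi.sup_apply, Submodule.mem_sup] at hm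
    obtain ⟨r₁, hr₁, r₂, hr₂, hr⟩ := hm
    rw [show res (structureModule X) (hUW y) ((ClSub.idealModι (Z ⊔ J)).app W c) =
        (show Γ(structureModule X, U y) from r₁ + r₂) from
      ((app_res (ClSub.idealModι (Z ⊔ J)) (hUW y) c).symm.trans hr.symm :)]
    rw [hθ, add_smul, map_add, map_add, hZ ⟨U y, hU y⟩ _ _ hr₁, hJ ⟨U y, hU y⟩ _ _ hr₂, add_zero]
  have hT := Groth.PicAux.shortExact_idealMod_twist (Z ⊔ J) hL
  have hθe : Epi θ := by
    have : Epi (rest S L) := epi_rest S hL
    exact @epi_comp _ _ _ _ _ e₂.hom inferInstance (rest S L ≫ π)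
      (@epi_comp _ _ _ _ _ (rest S L) this π (inferInstanceAs (Epi (cokernel.π φ))))
  have := hT.epi_g
  refine ⟨hT.exact.desc θ hkill, ?_⟩
  exact @epi_of_epi_fac _ _ _ _ _ _ _ _ hθe (hT.exact.g_desc θ hkill)

variable (k : Type u) [Field k] [X.Over (Spec (CommRingCat.of k))]
  [IsProper (X ↘ Spec (CommRingCat.of k))] [IsReduced X]

/-- If `H¹(I_Z ⊗ L) ≠ 0` some connected union `Y` of components has
`deg(L|_Y) ≤ -2χ(O_Y) + deg(Z ∩ Y)`. -/
theorem exists_deg_le (hdim : topologicalKrullDim X ≤ 1) {L : X.Modules}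
    (hL : PicF.IsInvertible L) (Z : X.IdealSheafData)
    (hZ : topologicalKrullDim (Z.support : Set X) ≤ 0)
    (h1 : Nontrivial (HH X (CohB1.tensorMod (ClSub.idealMod Z) L) 1)) :
    ∃ A : Finset X, A.Nonempty ∧ (∀ η ∈ A, ¬ IsClosed ({η} : Set X)) ∧
      ConnectedSpace (sub (clo (A : Set X))) ∧
      letI := subOver k (clo (A : Set X))
      Curv2.deg k (sub (clo (A : Set X))) ((Scheme.Modules.pullback (inc (clo (A : Set X)))).obj L) 1 ≤
        -2 * Curv2.euler k (sub (clo (A : Set X))) (structureModule (sub (clo (A : Set X)))) +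
          Module.finrank k (HH X
            (ClSub.quotMod (Z ⊔ Scheme.IdealSheafData.vanishingIdeal (clo (A : Set X)))) 0) := by
  classical
  have := noetherianSpace_of_proper k X
  have := isNoetherian_of_proper k X
  let M := CohB1.tensorMod (ClSub.idealMod Z) L
  obtain ⟨e₂, he₂⟩ := Groth.PicAux.exists_leftUnitor L
  have hTS := Groth.PicAux.shortExact_idealMod_twist Z hL
  let j : M ⟶ L := (DCoh.tensorRightMod L).map (ClSub.idealModι Z) ≫ e₂.hom
  have hjm : Mono j := @mono_comp _ _ _ _ _ _ hTS.mono_f _ _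
  have hO : IsCoh (structureModule X) := isCoh_of_isInvertible (isInvertible_structureModule X)
  have hMc : IsCoh M := by
    have := (Groth.EulerDeg.isCoh_quotMod Z).1
    exact isCoh_tensor (Groth.QCohMod.isCoh_kernel (ClSub.toSubscheme Z) hO)
      (isCoh_of_isInvertible hL)
  -- a minimal set of points missing part of `H¹(M)`
  have hG := finite_nonclosed k hdim (X := X)
  let F := hG.toFinset.powerset.filter fun B : Finset X => N k (B : Set X) M ≠ ⊤
  have hF : F.Nonempty := ⟨hG.toFinset, Finset.mem_filter.2 ⟨Finset.mem_powerset.2 le_rfl, by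
    rw [N_eq_bot k fun η hη h' => absurd (hG.mem_toFinset.2 hη) h']
    exact bot_ne_top⟩⟩
  obtain ⟨A, hAF, hAmin⟩ := F.exists_min_image Finset.card hF
  obtain ⟨hAG, hAtop⟩ := Finset.mem_filter.1 hAF
  rw [Finset.mem_powerset] at hAG
  have hA : ∀ η ∈ A, ¬ IsClosed ({η} : Set X) := fun η hη => hG.mem_toFinset.1 (hAG hη)
  have hmin : ∀ B : Finset X, B ⊂ A → N k (B : Set X) M = ⊤ := fun B hB => by
    by_contra h
    exact (Finset.card_lt_card hB).not_ge
      (hAmin B (Finset.mem_filter.2 ⟨Finset.mem_powerset.2 (hB.1.trans hAG), h⟩))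
  have hne : A.Nonempty := by
    by_contra h
    rw [Finset.not_nonempty_iff_eq_empty] at h
    subst h
    refine hAtop ?_
    rw [Finset.coe_empty]
    exact LinearMap.range_eq_top.2 (surjective_h1 k hdim _ fun η _ =>
      stalk_vι_surjective Set.finite_empty fun _ h => absurd h (Set.notMem_empty _))
  have hconn : ConnectedSpace (sub (clo (A : Set X))) := by
    by_contra hconn
    obtain ⟨A₁, A₂, h₁, h₂, hU, hd⟩ := exists_split hne hconn
    have := N_inf_le_of_disjoint k A₁.finite_toSet A₂.finite_toSet hd M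
    rw [hmin A₁ h₁, hmin A₂ h₂, hU, inf_idem, top_le_iff] at this
    exact hAtop this
  refine ⟨A, hne, hA, hconn, ?_⟩
  letI := subOver k (clo (A : Set X))
  haveI := isProper_sub k (clo (A : Set X))
  have hdimY : topologicalKrullDim (sub (clo (A : Set X))) ≤ 1 :=
    (inc (clo (A : Set X))).isClosedEmbedding.isInducing.topologicalKrullDim_le.trans hdim
  let v := rest (clo (A : Set X)) L
  have : Epi v := epi_rest _ hL
  have hLYc : IsCoh (restMod (clo (A : Set X)) L) := isCoh_restMod _ hL
  let f : M ⟶ restMod (clo (A : Set X)) L := j ≫ v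
  let MA := Abelian.image f
  let ι : MA ⟶ restMod (clo (A : Set X)) L := Abelian.image.ι f
  let p : M ⟶ MA := Abelian.factorThruImage f
  have hMAc : IsCoh MA := by
    have := hMc.1
    have := (Groth.QCohMod.isCoh_cokernel f hLYc).1
    exact Groth.QCohMod.isCoh_kernel (cokernel.π f) hLYc
  have hp : Function.Surjective (hMap k p 1) :=
    surjective_h1 k hdim p fun η _ => stalkLin_surjective p η
  have hker : LinearMap.ker (hMap k p 1) ≤ N k (A : Set X) M := ker_le_N k p fun η hη => by
    intro a b hab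
    refine stalkLin_injective j η (stalk_rest_injective hL (S := clo (A : Set X)) (subset_closure hη)
      (isField_stalk_nonclosed k hdim (hA η hη)) ?_)
    rw [← stalkLin_comp, ← stalkLin_comp]
    show stalkLin f η a = stalkLin f η b
    rw [← Abelian.image.fac f, stalkLin_comp, stalkLin_comp]
    exact congrArg _ hab
  have hMA1 : Nontrivial (HH X MA 1) := by
    by_contra h
    rw [not_nontrivial_iff_subsingleton] at h
    exact hAtop (top_le_iff.1 fun z _ =>
      hker (LinearMap.mem_ker.2 (Subsingleton.elim _ _)))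
  have h0 : Module.finrank k (HH X MA 0) ≤
      Module.finrank k (N k (A : Set X) (structureModule X)).dualAnnihilator := by
    refine finrank_h0_le_of_mono k hdim A hA hL ι (fun η hη h => ?_) hMAc
    obtain ⟨z, hz⟩ := exists_ne (0 : HH X MA 1)
    obtain ⟨w, rfl⟩ := hp z
    refine hz ((Submodule.mem_bot k).1 (h.le (map_N_le k p ⟨w, ?_, rfl⟩)))
    rw [← Finset.coe_erase, hmin _ (Finset.erase_ssubset hη)]
    exact Submodule.mem_top
  rw [finrank_dualAnnihilator_N k hdim A.finite_toSet hA, Curv2.genus] at h0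
  have := finite_HH k X hMAc 1
  have h1' := finrank_h0_le_h1_image k f hMA1
  -- the cokernel
  obtain ⟨q, hq⟩ := exists_epi_twist_sup (clo (A : Set X)) Z hL e₂ he₂
  let W := Z ⊔ Scheme.IdealSheafData.vanishingIdeal (clo (A : Set X))
  have hQWc := Groth.EulerDeg.isCoh_quotMod W
  have := hQWc.1
  have hQW : SupportedAtClosed (ClSub.quotMod W) := supportedAtClosed_of_dim_le_zero
    ((Topology.IsEmbedding.inclusion ((Groth.EulerDeg.support_quotMod_subset W).trans
      (Scheme.IdealSheafData.support_antitone (le_sup_left : Z ≤ W)))).isInducing.topologicalKrullDim_le.trans hZ)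
  have hTWc : IsCoh (CohB1.tensorMod (ClSub.quotMod W) L) :=
    isCoh_tensor hQWc (isCoh_of_isInvertible hL)
  have hTWs : SupportedAtClosed (CohB1.tensorMod (ClSub.quotMod W) L) := fun x hx => hQW x (by
    have := (isCoh_of_isInvertible hL).1
    rw [Groth.QCohMod.support_tensorMod _ _ hQWc.2 (isCoh_of_isInvertible hL).2] at hx
    exact hx.1)
  have hQs : SupportedAtClosed (cokernel f) := fun y hy => hTWs y fun hs =>
    hy (@Function.Surjective.subsingleton _ _ _ hs (stalkLin_surjective q y))
  have hQc : IsCoh (cokernel f) := by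
    have := hMc.1
    exact Groth.QCohMod.isCoh_cokernel f hLYc
  have hQ0 : Module.finrank k (HH X (cokernel f) 0) ≤
      Module.finrank k (HH X (CohB1.tensorMod (ClSub.quotMod W) L) 0) := by
    let T := ShortComplex.mk (kernel.ι q) q (kernel.condition q)
    have hT : T.ShortExact := { exact := ShortComplex.exact_of_f_is_kernel _ (kernelIsKernel q) }
    have hK : SupportedAtClosed (kernel q) := fun y hy => hTWs y fun hs =>
      hy (@Function.Injective.subsingleton _ _ _ (stalkLin_injective (kernel.ι q) y) hs)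
    have := subsingleton_HH_succ_of_supportedAtClosed hK 0
    have := finite_HH k X hTWc 0
    exact LinearMap.finrank_le_finrank_of_surjective (f := hMap k q 0)
      fun z => (exact_right k hT 0 z).1 (Subsingleton.elim _ _)
  have hTW0 : (Module.finrank k (HH X (CohB1.tensorMod (ClSub.quotMod W) L) 0) : ℤ) =
      Module.finrank k (HH X (ClSub.quotMod W) 0) := by
    rw [← euler_eq_h0 k hTWs, ← euler_eq_h0 k hQW,
      euler_tensor_of_supportedAtClosed k hQWc hQW (LocFree.isInvertible_iff_ofRank_one.mp hL)]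
    simp
  have hSI : (ShortComplex.mk ι (cokernel.π f) (kernel.condition _)).ShortExact :=
    { exact := ShortComplex.exact_of_f_is_kernel _ (kernelIsKernel _) }
  have e := euler_add hSI (finCoh k X hMAc) (finCoh k X hQc)
  dsimp only at e
  rw [euler_restMod k hdim _ hL, euler_eq_h0_sub_h1 k X hdim MA, euler_eq_h0 k hQs] at e
  rw [Curv2.deg, euler_structure k _ hdimY, e, Curv2.genus]
  change Module.finrank k _ ≤ Module.finrank k (HH X MA 1) at h1'
  simp only [W] at hTW0 hQ0
  push_cast
  omega

end Groth.Curves1.RR.Red
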