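import Mathlib
import Groth.Agent.Curves1.RR.PointSmooth
import Groth.Agent.Curves1.RR.SpanLemma
import Groth.Prelude.Def_LinSer

/-!
# Vanishing orders of a linear series
-/

set_option linter.style.haveILetI false
set_option backward.isDefEq.respectTransparency.types false

universe u

open CategoryTheory Limits AlgebraicGeometry Coh TopologicalSpace Opposite

namespace Groth.Curves1.RR.VanishingOrders

open IsDiscreteValuationRing

/-- In a discrete valuation ring with residue field `k`, the orders of the elements of an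
`n`-dimensional `k`-space take exactly `n` values. -/
theorem ncard_addVal_image {k R : Type*} [Field k] [CommRing R] [IsDomain R]
    [IsDiscreteValuationRing R] [Algebra k R]
    (hres : ∀ a : R, ∃ c : k, a - algebraMap k R c ∈ IsLocalRing.maximalIdeal R)
    (V : Submodule k R) [Module.Finite k V] :
    Set.ncard ((fun a : R => addVal R a) '' {a : R | a ∈ V ∧ a ≠ 0}) = Module.finrank k V := by
  classical
  set S := (fun a : R => addVal R a) '' {a : R | a ∈ V ∧ a ≠ 0} with hS
  have hsmul : ∀ (c : k) (a : R), c ≠ 0 → addVal R (c • a) = addVal R a := fun c a hc => by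
    rw [Algebra.smul_def, addVal_mul,
      addVal_eq_zero_iff.2 ((isUnit_iff_ne_zero.2 hc).map (algebraMap k R)), zero_add]
  choose w hw using fun v : S => v.2
  let b : S → V := fun v => ⟨w v, (hw v).1.1⟩
  have hb : ∀ v : S, addVal R (w v) = v.1 := fun v => (hw v).2
  have hbtop : ∀ v : S, (v : ℕ∞) ≠ ⊤ := fun v h =>
    (hw v).1.2 (addVal_eq_top_iff.1 ((hb v).trans h))
  have hli : LinearIndependent k b := by
    rw [linearIndependent_iff']
    intro s g hg i hi
    by_contra hgi
    let s' := s.filter fun j => g j ≠ 0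
    obtain ⟨m, hm, hmin⟩ := s'.exists_min_image (fun j => (j : ℕ∞))
      ⟨i, Finset.mem_filter.2 ⟨hi, hgi⟩⟩
    have hsum : ∑ j ∈ s', g j • w j = 0 := by
      have h1 := congrArg (Subtype.val : V → R) hg
      simp only [Submodule.coe_sum, Submodule.coe_smul, ZeroMemClass.coe_zero] at h1
      refine (Finset.sum_subset (Finset.filter_subset _ _) fun j hj hj' => ?_).trans h1
      rw [not_not.1 fun h0 => hj' (Finset.mem_filter.2 ⟨hj, h0⟩), zero_smul]
    rw [← Finset.add_sum_erase _ _ hm, add_eq_zero_iff_eq_neg] at hsum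
    have h2 : (m : ℕ∞) < addVal R (∑ j ∈ s'.erase m, g j • w j) := by
      refine AddValuation.map_lt_sum _ (hbtop m) fun j hj => ?_
      have hj' := Finset.mem_of_mem_erase hj
      rw [hsmul _ _ (Finset.mem_filter.1 hj').2, hb]
      exact lt_of_le_of_ne (hmin j hj') fun h => (Finset.ne_of_mem_erase hj) (Subtype.ext h).symm
    rw [← AddValuation.map_neg, ← hsum, hsmul _ _ (Finset.mem_filter.1 hm).2, hb] at h2
    exact lt_irrefl _ h2
  haveI : Finite S := hli.finite
  haveI := Fintype.ofFinite S
  have hspan : ⊤ ≤ Submodule.span k (Set.range b) := by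
    by_contra hne
    obtain ⟨a₀, -, ha₀⟩ := SetLike.not_le_iff_exists.1 hne
    let T := (fun a : V => addVal R (a : R)) '' {a : V | a ∉ Submodule.span k (Set.range b)}
    have hTS : T ⊆ S := by
      rintro _ ⟨a, ha, rfl⟩
      exact ⟨a, ⟨a.2, fun h => ha (by rw [show a = 0 from Subtype.ext h]; exact zero_mem _)⟩, rfl⟩
    obtain ⟨_, ⟨a, ha, rfl⟩, hmax⟩ := Set.exists_max_image T id
      ((Set.toFinite S).subset hTS) ⟨_, a₀, ha₀, rfl⟩
    have hvS : addVal R (a : R) ∈ S := hTS ⟨a, ha, rfl⟩
    let v : S := ⟨_, hvS⟩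
    obtain ⟨e, he⟩ := (addVal_eq_iff_associated _ _).1 (hb v)
    obtain ⟨c, hc⟩ := hres (e : R)
    let a' : V := a - c • b v
    have ha' : a' ∉ Submodule.span k (Set.range b) := fun h => ha (by
      have := add_mem h (Submodule.smul_mem _ c (Submodule.subset_span (Set.mem_range_self v)))
      simpa [a'] using this)
    have hle : addVal R (a' : R) ≤ addVal R (a : R) := hmax _ ⟨a', ha', rfl⟩
    have hval : (a' : R) = w v * ((e : R) - algebraMap k R c) := by
      rw [mul_sub, he]
      show (a : R) - c • w v = _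
      rw [Algebra.smul_def, mul_comm]
    rw [hval, addVal_mul, hb v] at hle
    have hpos : addVal R ((e : R) - algebraMap k R c) ≠ 0 := fun h =>
      hc (addVal_eq_zero_iff.1 h)
    have hlt : (v : ℕ∞) < (v : ℕ∞) + addVal R ((e : R) - algebraMap k R c) := by
      have h1 : (1 : ℕ∞) ≤ addVal R ((e : R) - algebraMap k R c) :=
        Order.one_le_iff_pos.2 (pos_iff_ne_zero.2 hpos)
      exact ((ENat.add_one_le_iff (hbtop v)).1 le_rfl).trans_le (add_le_add le_rfl h1)
    exact absurd hle (not_le.2 hlt)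
  rw [Module.finrank_eq_card_basis (Module.Basis.mk hli hspan), ← Nat.card_eq_fintype_card,
    Nat.card_coe_set_eq]

/-- The length of the quotient by a nonzero principal ideal is the order. -/
theorem length_quot_span_eq_addVal {R : Type*} [CommRing R] [IsDomain R]
    [IsDiscreteValuationRing R] {a : R} (ha : a ≠ 0) :
    Module.length R (R ⧸ Ideal.span {a}) = addVal R a := by
  obtain ⟨ϖ, hϖ⟩ := IsDiscreteValuationRing.exists_irreducible R
  obtain ⟨n, u, rfl⟩ := IsDiscreteValuationRing.eq_unit_mul_pow_irreducible ha hϖ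
  show Ring.ord R _ = _
  rw [Ring.ord_mul_of_isUnit_left u.isUnit, Ring.ord_pow (mem_nonZeroDivisors_of_ne_zero hϖ.ne_zero),
    Ring.ord_of_irreducible hϖ, nsmul_one, addVal_def' u hϖ n]

variable {X : Scheme.{u}} {L : X.Modules}

open Groth.PicAux

/-- The stalk of an invertible module is free on the germ of a generator. -/
theorem bijective_smul_germ {U : X.Opens} {e : Γ(L, U)} (he : Gen L U e) {x : X} (hx : x ∈ U) :
    Function.Bijective fun a : X.presheaf.stalk x => a • L.presheaf.germ U x hx e := by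
  refine ⟨fun a b h => gen_germ_smul_inj he hx h, fun z => ?_⟩
  obtain ⟨W, hW, t, rfl⟩ := Groth.QCohMod.exists_germ L x z
  obtain ⟨r, hr⟩ := he.exists_coeff (inf_le_right : W ⊓ U ≤ U) (res L inf_le_left t)
  have hWU : x ∈ W ⊓ U := ⟨hW, hx⟩
  refine ⟨X.presheaf.germ (W ⊓ U) x hWU r, ?_⟩
  calc X.presheaf.germ (W ⊓ U) x hWU r • L.presheaf.germ U x hx e
      = X.presheaf.germ (W ⊓ U) x hWU r •
          Groth.QCohMod.germ L x hWU (res L inf_le_right e) := by
        exact congrArg _ (Groth.QCohMod.germ_res L inf_le_right x hWU e).symm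
    _ = Groth.QCohMod.germ L x hWU (r • res L inf_le_right e) :=
        (Groth.QCohMod.germ_smul L x hWU r _).symm
    _ = Groth.QCohMod.germ L x hWU (res L inf_le_left t) := by rw [hr]
    _ = _ := Groth.QCohMod.germ_res L inf_le_left x hWU t

/-- A global section of an invertible module on an integral scheme with zero germ at a point is
zero. -/
theorem eq_zero_of_germ [IsIntegral X] (hL : PicF.IsInvertible L) (t : Γ(L, ⊤)) (x : X)
    (h : L.presheaf.germ ⊤ x trivial t = 0) : t = 0 := by
  obtain ⟨V, hxV, i₁, i₂, hV⟩ := L.presheaf.germ_eq (U := ⊤) (V := ⊤) x trivial trivial t 0 (h.trans (map_zero _).symm)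
  have hV0 : res L i₁.le t = 0 := hV.trans (map_zero _)
  choose U e hUaff hyU he using fun y : X => exists_affine_gen_mem hL y
  refine res_ext U (fun _ => le_top) (fun y _ => Opens.mem_iSup.2 ⟨y, hyU y⟩) fun y => ?_
  rw [res_zero]
  obtain ⟨c, hc⟩ := (he y).exists_coeff le_rfl (res L le_top t)
  rw [res_self] at hc
  haveI : Nonempty (↑(U y) : Type u) := ⟨⟨y, hyU y⟩⟩
  have hη : genericPoint X ∈ U y ⊓ V :=
    ⟨((genericPoint_spec X).mem_open_set_iff (U y).2).2 ⟨y, trivial, hyU y⟩,
      ((genericPoint_spec X).mem_open_set_iff V.2).2 ⟨x, trivial, hxV⟩⟩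
  have hc0 : resX X (inf_le_left : U y ⊓ V ≤ U y) c = 0 := by
    refine (he y).smul_inj (inf_le_left : U y ⊓ V ≤ U y) ?_
    rw [zero_smul, ← res_smul, ← hc, res_res]
    show res L _ t = 0
    rw [← res_res (le_top : V ≤ ⊤) (inf_le_right : U y ⊓ V ≤ V), show res L (le_top : V ≤ ⊤) t = 0 from hV0, res_zero]
  have hc1 : c = 0 := germ_injective_of_isIntegral X (genericPoint X) hη.1 (by
    rw [map_zero, ← TopCat.Presheaf.germ_res_apply X.presheaf (homOfLE inf_le_left) _ hη c]
    exact (congrArg (X.presheaf.germ _ (genericPoint X) hη) hc0).trans (map_zero _))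
  rw [hc, hc1, zero_smul]

variable (k : Type u) [Field k] [IsAlgClosed k] [X.Over (Spec (CommRingCat.of k))]

/-- The vanishing orders at a smooth point of an `(r+1)`-dimensional space of sections take `r + 1`
values. -/
theorem ncard_vanishingOrders [IsProper (X ↘ Spec (CommRingCat.of k))] [IsIntegral X]
    (hL : PicF.IsInvertible L) {r : ℕ} (s : Fin (r + 1) → LinSer.Sect X L)
    (hs : LinSer.LinIndep k X L s) (p : X) (hp : IsClosed ({p} : Set X))
    [IsDiscreteValuationRing (X.presheaf.stalk p)] :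
    Set.ncard ((fun c : Fin (r + 1) → k =>
        Module.length (X.presheaf.stalk p)
          (↥(L.presheaf.stalk p) ⧸ Submodule.span (X.presheaf.stalk p)
            {(L.presheaf.germ ⊤ p trivial) (∑ i, (Coh.toGlobal (X ↘ Spec (CommRingCat.of k)) (c i)) • s i)})) ''
        {c : Fin (r + 1) → k | c ≠ 0}) = r + 1 := by
  let R := X.presheaf.stalk p
  let γ : k →+* R := (X.presheaf.germ ⊤ p trivial).hom.comp (Coh.toGlobal (X ↘ Spec (CommRingCat.of k)))
  letI : Algebra k R := γ.toAlgebra
  obtain ⟨U, e, -, hpU, he⟩ := exists_affine_gen_mem hL p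
  let θ : R ≃ₗ[R] L.presheaf.stalk p :=
    LinearEquiv.ofBijective (LinearMap.toSpanSingleton R _ (L.presheaf.germ U p hpU e))
      (bijective_smul_germ he hpU)
  let σ : (Fin (r + 1) → k) → Γ(L, (⊤ : X.Opens)) := fun c =>
    ∑ i, (Coh.toGlobal (X ↘ Spec (CommRingCat.of k)) (c i)) • (s i : Γ(L, (⊤ : X.Opens)))
  let f : Fin (r + 1) → R := fun i => θ.symm (L.presheaf.germ ⊤ p trivial (s i))
  let φ : (Fin (r + 1) → k) →ₗ[k] R := Fintype.linearCombination k f
  have hφ : ∀ c, θ (φ c) = L.presheaf.germ ⊤ p trivial (σ c) := fun c => by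
    rw [Fintype.linearCombination_apply, map_sum]
    show _ = L.presheaf.germ ⊤ p trivial (∑ i, _)
    rw [map_sum]
    refine Finset.sum_congr rfl fun i _ => ?_
    rw [Algebra.smul_def, ← smul_eq_mul, map_smul, LinearEquiv.apply_symm_apply]
    exact (Groth.QCohMod.germ_smul L (U := ⊤) p trivial _ _).symm
  have hinj : Function.Injective φ := (injective_iff_map_eq_zero φ).2 fun c hc => by
    refine hs c (eq_zero_of_germ hL (σ c) p ?_)
    rw [← hφ, hc, map_zero]
  have hlen : ∀ c, c ≠ 0 → Module.length R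
      (↥(L.presheaf.stalk p) ⧸ Submodule.span R {(L.presheaf.germ ⊤ p trivial) (σ c)}) =
        addVal R (φ c) := fun c hc => by
    have h0 : φ c ≠ 0 := fun h => hc (hinj (h.trans (map_zero φ).symm))
    rw [← length_quot_span_eq_addVal h0, ← hφ]
    exact (Submodule.Quotient.equiv (Submodule.span R {φ c}) _ θ (by
      rw [Submodule.map_span, Set.image_singleton]; rfl)).length_eq.symm
  have hres : ∀ a : R, ∃ c : k, a - algebraMap k R c ∈ IsLocalRing.maximalIdeal R := fun a => by
    obtain ⟨W, hW, g, rfl⟩ := TopCat.Presheaf.exists_germ_eq X.presheaf a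
    obtain ⟨c, hc⟩ := exists_sub_toSec_not_isUnit k hp hW g
    refine ⟨c, (IsLocalRing.mem_maximalIdeal _).2 ?_⟩
    rw [map_sub] at hc
    show ¬ IsUnit _
    rw [show algebraMap k R c = X.presheaf.germ W p hW (Groth.EulerDeg.toSec k W c) from
      (TopCat.Presheaf.germ_res_apply X.presheaf _ p hW _).symm]
    exact hc
  have himg : (fun c : Fin (r + 1) → k => Module.length R
      (↥(L.presheaf.stalk p) ⧸ Submodule.span R {(L.presheaf.germ ⊤ p trivial) (σ c)})) ''
        {c | c ≠ 0} = (fun a : R => addVal R a) '' {a : R | a ∈ LinearMap.range φ ∧ a ≠ 0} := by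
    ext v
    constructor
    · rintro ⟨c, hc, rfl⟩
      exact ⟨φ c, ⟨⟨c, rfl⟩, fun h => hc (hinj (h.trans (map_zero φ).symm))⟩, (hlen c hc).symm⟩
    · rintro ⟨_, ⟨⟨c, rfl⟩, hc⟩, rfl⟩
      have hc' : c ≠ 0 := fun h => hc (by rw [h, map_zero])
      exact ⟨c, hc', hlen c hc'⟩
  refine (congrArg Set.ncard himg).trans ?_
  rw [ncard_addVal_image hres, LinearMap.finrank_range_of_inj hinj, Module.finrank_fintype_fun_eq_card,
    Fintype.card_fin]

/-- Closed points of an integral smooth proper curve over an algebraically closed field have discrete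
valuation rings as local rings. -/
theorem isDiscreteValuationRing_stalk [IsProper (X ↘ Spec (CommRingCat.of k))] [IsIntegral X]
    [Smooth (X ↘ Spec (CommRingCat.of k))] (hdim : topologicalKrullDim X = 1) (p : X)
    (hp : IsClosed ({p} : Set X)) : IsDiscreteValuationRing (X.presheaf.stalk p) := by
  have := Groth.EulerDeg.isNoetherian_of_proper k X
  have hequi : ∀ Z ∈ irreducibleComponents (X : Type u), topologicalKrullDim Z = 1 := by
    intro Z hZ
    rw [irreducibleComponents_eq_singleton, Set.mem_singleton_iff] at hZ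
    subst hZ
    exact (Homeomorph.Set.univ X).isHomeomorph.topologicalKrullDim_eq.trans hdim
  have hreg : IsRegularLocalRing (X.presheaf.stalk p) :=
    Groth.VarietyBC.isRegularLocalRing_of_mem_smoothLocus (k := k) (by
      rw [Scheme.Hom.smoothLocus_eq_top]; trivial)
  obtain ⟨_, h⟩ := (Groth.Calg1.isDVR_iff_regular_dim_one (A := X.presheaf.stalk p)).2
    ⟨hreg, ringKrullDim_stalk_eq_one hequi p hp⟩
  exact h

end Groth.Curves1.RR.VanishingOrders
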